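import Cfsg.Agent.Lib.Recognition.SpCentInv.Orbit

/-!
The involution is not isolated; the normalization of the parametrization.
-/

set_option autoImplicit false
set_option linter.unusedSectionVars false

namespace CfsgLib.SpCentInv

open Subgroup

theorem odd_core_trivial : ∀ k : K, k ^ 9 = 1 → k ≠ 1 → ∃ g : K, (g * k * g⁻¹ * k⁻¹) ^ 9 ≠ 1 := by
  decide +kernel

theorem odd_pow_nine {M : Type*} [Group M] {k : M} (h : orderOf k ∣ 576) (ho : Odd (orderOf k)) : k ^ 9 = 1 := by
  refine orderOf_dvd_iff_pow_eq_one.1 ?_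
  have h2 : Nat.Coprime (orderOf k) (2 ^ 6) := Nat.Coprime.pow_right 6 (Nat.coprime_two_right.2 ho)
  exact h2.dvd_of_dvd_mul_left h

/-- The twist with the even codes. -/
def evenSub : Subgroup K where
  carrier := {k | k.val % 2 = 0}
  one_mem' := rfl
  mul_mem' {a b} ha hb := by
    simp only [Set.mem_ofPred_eq] at ha hb ⊢
    rw [mul_parity, ha, hb]
  inv_mem' {a} ha := by
    simp only [Set.mem_ofPred_eq] at ha ⊢
    have h := mul_parity a⁻¹ a
    rw [inv_mul_cancel, ha] at h
    have h0 : (1 : K).val % 2 = 0 := rfl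
    omega

theorem sg_odd : sg.val % 2 = 1 := by decide +kernel

namespace Hyp

variable {G : Type*} [Group G] [Finite G] (S : Hyp G)

theorem conj_involution {g : G} : g * S.t * g⁻¹ * (g * S.t * g⁻¹) = 1 ∧ g * S.t * g⁻¹ ≠ 1 := by
  refine ⟨?_, fun h => S.t_ne (conj_eq_one_iff.1 h)⟩
  calc g * S.t * g⁻¹ * (g * S.t * g⁻¹) = g * (S.t * S.t) * g⁻¹ := by group
    _ = 1 := by rw [S.t_sq]; group

theorem orderOf_t : orderOf S.t = 2 := orderOf_eq_prime (by rw [pow_two, S.t_sq]) S.t_ne

theorem phi_conj (g k : K) : S.φ g * S.φ k * (S.φ g)⁻¹ = S.φ (g * k * g⁻¹) := by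
  rw [map_mul, map_mul, map_inv]

/-- An involution of the centralizer other than the central one is conjugate into `A`. -/
theorem exists_conj_el {k : K} (hk : k ∈ oneK ∨ k ∈ restK) :
    ∃ g : K, ∃ v < 16, v ≠ 0 ∧ v ≠ 1 ∧ g * k * g⁻¹ = el v := by
  obtain ⟨g, hg⟩ := into_a k hk
  obtain ⟨v, hv, hgv⟩ := el_spec.2.1 _ hg
  have hk1 : k ≠ 1 ∧ k ≠ z := by
    rcases hk with h | h
    · exact ⟨(oneK_spec k h).2.1, (oneK_spec k h).2.2.1⟩
    · exact ⟨(restK_spec k h).2.1, (restK_spec k h).2.2⟩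
  refine ⟨g, v, hv, ?_, ?_, hgv.symm⟩
  · rintro rfl
    rw [el_values.1] at hgv
    exact hk1.1 (conj_eq_one_iff.1 hgv.symm)
  · rintro rfl
    rw [el_values.2.1] at hgv
    refine hk1.2 ?_
    calc k = g⁻¹ * (g * k * g⁻¹) * g := by group
      _ = g⁻¹ * (z * g) := by rw [← hgv, mul_assoc]
      _ = z := by rw [z_central, inv_mul_cancel_left]

theorem not_isolated (h2 : ¬ S.InOrb 2) (h3 : ¬ S.InOrb 3) : False := by
  have h6 := S.not_six_only h2 h3
  have hfix : ∀ g : G, g * S.t * g⁻¹ ∈ centralizer ({S.t} : Set G) → g * S.t * g⁻¹ = S.t := by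
    intro g hg
    obtain ⟨k, hk⟩ := S.mem_cent.1 hg
    have hk2 : k * k = 1 := S.inj (by rw [map_mul, hk, map_one]; exact S.conj_involution.1)
    rcases involution_cases k hk2 with rfl | rfl | hcl
    · rw [map_one] at hk
      exact absurd hk.symm S.conj_involution.2
    · rw [← hk, S.map_z]
    · exfalso
      obtain ⟨c, v, hv, hv0, hv1, hcv⟩ := exists_conj_el hcl
      have horb : S.InOrb v := (S.inOrb_iff hv).2 (isConj_iff.2 ⟨S.φ c * g, by
        rw [← hcv, ← S.phi_conj, hk]; group⟩)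
      rcases point_cases v hv hv0 with h | h | h | h
      · exact hv1 h
      · exact h2 (S.inOrb_class List.mem_cons_self h (by simp) horb)
      · exact h3 (S.inOrb_class (List.mem_cons_of_mem _ List.mem_cons_self) h (by simp) horb)
      · exact h6 (S.inOrb_class (List.mem_cons_of_mem _ (List.mem_cons_of_mem _ List.mem_cons_self)) h (by simp) horb)
  obtain ⟨R, hR⟩ := S.exists_sylow
  obtain ⟨Nc, hNn, hNodd, hcomm⟩ := Cfsg.Agent.S0215.result R S.t S.orderOf_t
    (show S.t ∈ (R : Subgroup G) by rw [hR]; exact S.A_le_P S.t_mem_A)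
    (fun g hg => hfix g (S.range_eq ▸ (by
      have h' : g * S.t * g⁻¹ ∈ S.P := hR ▸ hg
      exact map_le_range _ _ h')))
  -- trivial intersection with the centralizer
  have htriv : ∀ k : K, S.φ k ∈ Nc → k = 1 := by
    intro k hk
    by_contra hne
    have h9 : ∀ l : K, S.φ l ∈ Nc → l ^ 9 = 1 := by
      intro l hl
      refine odd_pow_nine (K.card_eq ▸ orderOf_dvd_natCard l) ?_
      rw [← orderOf_injective S.φ S.inj]
      exact Odd.of_dvd_nat hNodd (Subgroup.orderOf_dvd_natCard Nc hl)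
    obtain ⟨g, hg⟩ := odd_core_trivial k (h9 k hk) hne
    exact hg (h9 _ (by rw [map_mul, map_inv, ← S.phi_conj]; exact mul_mem (hNn.conj_mem _ hk _) (inv_mem hk)))
  -- the centralizer covers the quotient
  have hcover : ∀ g : G, ∃ k : K, ∃ m ∈ Nc, g = S.φ k * m := by
    intro g
    set n := g⁻¹ * S.t * g * S.t with hn
    have hnN : n ∈ Nc := by
      have := hNn.conj_mem _ (hcomm g) g⁻¹
      convert this using 1
      rw [hn, inv_eq_of_mul_eq_one_right S.t_sq]
      group
    have hinv : S.t * n * S.t⁻¹ = n⁻¹ := by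
      rw [hn, inv_eq_of_mul_eq_one_right S.t_sq]
      refine eq_inv_of_mul_eq_one_left ?_
      calc S.t * (g⁻¹ * S.t * g * S.t) * S.t * (g⁻¹ * S.t * g * S.t)
          = S.t * g⁻¹ * S.t * g * (S.t * S.t) * g⁻¹ * S.t * g * S.t := by group
        _ = 1 := by
          rw [S.t_sq]
          calc S.t * g⁻¹ * S.t * g * 1 * g⁻¹ * S.t * g * S.t = S.t * g⁻¹ * (S.t * S.t) * g * S.t := by group
            _ = 1 := by rw [S.t_sq]; simp [S.t_sq]
    have hnodd : Odd (orderOf n) := Odd.of_dvd_nat hNodd (Subgroup.orderOf_dvd_natCard Nc hnN)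
    obtain ⟨d, hd, hd2, -⟩ := CfsgLib.Involutions.Isolated.exists_sqrt_of_odd hnodd
    have hdinv := CfsgLib.Involutions.Isolated.inv_of_mem_zpowers hinv hd
    have hdN : d ∈ Nc := zpowers_le.2 hnN hd
    have e1 : g⁻¹ * S.t * g = n * S.t := by
      rw [hn, mul_assoc (g⁻¹ * S.t * g), S.t_sq, mul_one]
    have e2 : d * S.t * d⁻¹ = n * S.t := by
      have h' : S.t * d⁻¹ = d * S.t := by
        rw [← hdinv, inv_eq_of_mul_eq_one_right S.t_sq, ← mul_assoc, ← mul_assoc, S.t_sq, one_mul]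
      calc d * S.t * d⁻¹ = d * (S.t * d⁻¹) := by group
        _ = d * (d * S.t) := by rw [h']
        _ = n * S.t := by rw [← hd2, pow_two, mul_assoc]
    obtain ⟨k, hk⟩ := S.exists_eq (g := g * d) (by
      calc g * d * S.t = g * (d * S.t * d⁻¹) * d := by group
        _ = g * (g⁻¹ * S.t * g) * d := by rw [e2, e1]
        _ = S.t * (g * d) := by group)
    exact ⟨k, d⁻¹, inv_mem hdN, by rw [hk, mul_inv_cancel_right]⟩
  -- a subgroup of index two
  set M := evenSub.map S.φ ⊔ Nc with hM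
  have hsplit : ∀ g ∈ M, ∃ k ∈ evenSub, ∃ m ∈ Nc, g = S.φ k * m := by
    intro g hg
    rw [← SetLike.mem_coe, hM, Subgroup.mul_normal] at hg
    obtain ⟨_, ⟨k, hk, rfl⟩, m, hm, rfl⟩ := hg
    exact ⟨k, hk, m, hm, rfl⟩
  have hmem : ∀ (k : K) (m : G), m ∈ Nc → (S.φ k * m ∈ M ↔ k.val % 2 = 0) := by
    intro k m hm
    constructor
    · intro h
      obtain ⟨l, hl, m', hm', e⟩ := hsplit _ h
      have h2 : S.φ (l⁻¹ * k) ∈ Nc := by
        have : S.φ (l⁻¹ * k) = m' * m⁻¹ := by
          rw [map_mul, map_inv, inv_mul_eq_iff_eq_mul, ← mul_assoc, ← e, mul_inv_cancel_right]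
        rw [this]; exact mul_mem hm' (inv_mem hm)
      have : k = l := (inv_mul_eq_one.1 (htriv _ h2)).symm
      exact this ▸ hl
    · intro h
      exact mul_mem (mem_sup_left (mem_map_of_mem _ (show k ∈ evenSub from h))) (mem_sup_right hm)
  refine S.index M (index_eq_two_iff'.2 ⟨S.φ sg, fun b => ?_⟩)
  obtain ⟨k, m, hm, rfl⟩ := hcover b
  rw [← mul_assoc, ← map_mul, hmem _ _ hm, hmem _ _ hm, mul_parity, sg_odd]
  rcases Nat.mod_two_eq_zero_or_one k.val with h | h <;> simp [h]

/-- The parametrization twisted by the central involution. -/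
def twisted : Hyp G where
  t := S.t
  φ := S.φ.comp twistEquiv.toMonoidHom
  inj := S.inj.comp twistEquiv.injective
  range_eq := by
    rw [MonoidHom.range_comp, MonoidHom.range_eq_top.2 twistEquiv.surjective, ← MonoidHom.range_eq_map,
      S.range_eq]
  map_z := by
    show S.φ (twist z) = S.t
    rw [twist_spec.2.1, S.map_z]
  index := S.index

theorem twist_el_three : twist (el 2) = el 3 := by
  rw [← twist_spec.2.2.2, twist_spec.1]

/-- The parametrization can be chosen with `sg` a conjugate of `z`. -/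
theorem exists_normalized : ∃ T : Hyp G, T.t = S.t ∧ IsConj T.t (T.φ sg) := by
  by_cases h2 : S.InOrb 2
  · exact ⟨S, rfl, el_values.2.2.1 ▸ (S.inOrb_iff (by norm_num)).1 h2⟩
  by_cases h3 : S.InOrb 3
  · refine ⟨S.twisted, rfl, ?_⟩
    show IsConj S.t (S.φ (twist sg))
    rw [← el_values.2.2.1, twist_el_three]
    exact (S.inOrb_iff (by norm_num)).1 h3
  exact (S.not_isolated h2 h3).elim

variable (hσ : IsConj S.t (S.φ sg))
include hσ

theorem inOrb_two : S.InOrb 2 := (S.inOrb_iff (by norm_num)).2 (el_values.2.2.1.symm ▸ hσ)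

/-- The conjugates of the involution in `A`. -/
theorem inOrb_iff_five {v : ℕ} (hv : v < 16) : S.InOrb v ↔ v ∈ [1, 2, 4, 8, 15] := by
  constructor
  · intro h
    have hv0 : v ≠ 0 := by
      rintro rfl
      have := (S.inOrb_iff (by norm_num)).1 h
      rw [el_values.1, map_one] at this
      exact S.t_ne (isConj_one_left.1 this)
    rcases point_cases v hv hv0 with rfl | h' | h' | h'
    · simp
    · simp only [List.mem_cons, List.not_mem_nil, or_false] at h' ⊢
      exact Or.inr h'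
    · exact absurd (S.inOrb_class (List.mem_cons_of_mem _ List.mem_cons_self) h' (by simp) h)
        (S.not_both (o := 2) (o' := 3) Lin.sieve_two Lin.sieve_three Lin.pair_check.1 (S.inOrb_two hσ))
    · exact absurd (S.inOrb_class (List.mem_cons_of_mem _ (List.mem_cons_of_mem _ List.mem_cons_self)) h'
        (by simp : 6 ∈ [6, 7, 10, 11, 12, 13]) h)
        (S.not_both (o := 2) (o' := 6) Lin.sieve_two Lin.sieve_six Lin.pair_check.2.1 (S.inOrb_two hσ))
  · intro h
    by_cases h1 : v = 1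
    · exact h1 ▸ (S.inOrb_iff (by norm_num)).2 (by rw [el_values.2.1, S.map_z])
    · refine S.inOrb_class List.mem_cons_self (by simp : 2 ∈ [2, 4, 8, 15]) ?_ (S.inOrb_two hσ)
      simp only [List.mem_cons, List.not_mem_nil, or_false] at h ⊢
      exact h.resolve_left h1

theorem isConj_el_iff {v : ℕ} (hv : v < 16) : IsConj S.t (S.φ (el v)) ↔ v ∈ [1, 2, 4, 8, 15] :=
  (S.inOrb_iff hv).symm.trans (S.inOrb_iff_five hσ hv)

/-- The conjugates of the involution in its centralizer. -/
theorem isConj_phi_iff (k : K) : IsConj S.t (S.φ k) ↔ k = z ∨ k ∈ oneK := by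
  constructor
  · intro h
    obtain ⟨g, hg⟩ := isConj_iff.1 h
    have hk2 : k * k = 1 := S.inj (by rw [map_mul, ← hg, map_one]; exact S.conj_involution.1)
    rcases involution_cases k hk2 with rfl | rfl | h1 | h1
    · rw [map_one] at hg
      exact absurd hg S.conj_involution.2
    · exact Or.inl rfl
    · exact Or.inr h1
    · exfalso
      obtain ⟨c, v, hv, -, hv1, hcv⟩ := exists_conj_el (Or.inr h1)
      have h5 := (S.isConj_el_iff hσ hv).1 (h.trans (isConj_iff.2 ⟨S.φ c, by rw [← hcv, S.phi_conj]⟩))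
      have hv' : el v ∈ oneK := (el_oneK v hv).2 (by
        simp only [List.mem_cons, List.not_mem_nil, or_false] at h5 ⊢
        exact h5.resolve_left hv1)
      have := oneK_conj _ hv' c⁻¹
      rw [← hcv, show c⁻¹ * (c * k * c⁻¹) * c⁻¹⁻¹ = k by group] at this
      exact (oneK_spec k this).2.2.2 h1
  · rintro (rfl | h)
    · rw [S.map_z]
    · obtain ⟨g, rfl⟩ := oneK_conj_sg k h
      exact hσ.trans (isConj_iff.2 ⟨S.φ g, S.phi_conj g sg⟩)

end Hyp

end CfsgLib.SpCentInv
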