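import Mathlib.Data.Nat.Notation

/-!
Generated tables for the centralizer `(SL₂(3) ∘ SL₂(3)).2` of a central involution of `PSp₄(3)`.
-/

set_option autoImplicit false

namespace CfsgLib.SpCentInv.Data

/-- The entries of the matrices of the twenty-four elements of `SL₂(3)`. -/
def mats : List (List ℕ) := [
  [1, 0, 0, 1], [0, 1, 2, 0], [0, 1, 2, 1], [0, 1, 2, 2], [0, 2, 1, 0], [0, 2, 1, 1],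
  [0, 2, 1, 2], [1, 0, 1, 1], [1, 0, 2, 1], [1, 1, 0, 1], [1, 1, 1, 2], [1, 1, 2, 0],
  [1, 2, 0, 1], [1, 2, 1, 0], [1, 2, 2, 2], [2, 0, 0, 2], [2, 0, 1, 2], [2, 0, 2, 2],
  [2, 1, 0, 2], [2, 1, 1, 1], [2, 1, 2, 0], [2, 2, 0, 2], [2, 2, 1, 0], [2, 2, 2, 1]]

/-- The multiplication table of `SL₂(3)`, five bits for an entry. -/
def mulTab : ℕ := 0x789b509e43511313028565a1342dd788dd7122815995029e646d5f20259680596182624956f2224675e343a9b52cce6828966a05770e2b0818993eb4249057acd5700766060911daaa46f3350048a4b761c35689ea1a1cb9c2d25a54e635003ca74adaef80c22214d14a96c6b80745253bd6d178443310b052d2d730e804e92b5eb0888612988f0b203058499bcab911153469769d4e1ba2245c2ba40ca994f623e556012d135e1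3d46a94489a18172c2767216c3966a341a4b0ae81c5c1a240c7d64b01a8924585b86a713da392d0e85a6a4124b2bdc6a8ec00c1829a8ed8de89aded2a4df18358e52567010c510468b56f39520f8b1cd4ad404148608c4764020b0d3312de54488ead2f1534e66bc47a85521a624050ccbced05b90574468b89740aa063ccadb4aaf4b004a00d1492ec2d4e17b45253968b4e039208f596ae35803830334b547bd22299cb051acd25d028b8745b120ac9e1bdab49ca307b9ac5a928398a418820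

/-- The inversion table of `SL₂(3)`. -/
def invTab : ℕ := 0x50e46756117cc492dd8745161b3480

/-- The table of negation on `SL₂(3)`. -/
def negTab : ℕ := 0x52d2d730e804e92b5eb0888612988f

/-- The table of representatives modulo sign. -/
def repTab : ℕ := 0x7358b5250718820

/-- The table of the classes modulo sign, with the sign in the last bit. -/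
def canTab : ℕ := 0x7c5b5bcd2b0da928398a414e331040

/-- The central involution. -/
def zN : ℕ := 360

/-- An outer involution. -/
def sgN : ℕ := 1

/-- An element of order three commuting with `sgN`. -/
def xN : ℕ := 52

/-- A conjugate of `sgN` in its elementary abelian subgroup of order sixteen. -/
def sN : ℕ := 99

/-- The second conjugate of `sgN` commuting with `xN`. -/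
def pN : ℕ := 69

/-- The third conjugate of `sgN` commuting with `xN`. -/
def qN : ℕ := 317

/-- The elementary abelian subgroup of order sixteen containing `sgN`. -/
def aList : List ℕ := [
  0, 1, 26, 27, 98, 99, 254, 255, 358, 359, 360, 361, 478, 479, 566, 567]

/-- A Sylow two-subgroup. -/
def pList : List ℕ := [
  0, 1, 2, 3, 14, 15, 22, 23, 24, 25, 26, 27, 38, 39, 46, 47, 96, 97, 98, 99, 110, 111, 118, 119,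
  240, 241, 242, 243, 254, 255, 262, 263, 336, 337, 338, 339, 350, 351, 358, 359, 360, 361, 362,
  363, 374, 375, 382, 383, 456, 457, 458, 459, 470, 471, 478, 479, 552, 553, 554, 555, 566, 567,
  574, 575]

/-- The class of `sgN`. -/
def cOne : List ℕ := [
  1, 69, 99, 137, 179, 201, 235, 301, 317, 479, 535, 567]

/-- The other two classes of noncentral involutions. -/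
def cRest : List ℕ := [
  26, 27, 38, 46, 89, 98, 110, 118, 165, 242, 254, 255, 262, 271, 338, 350, 358, 359, 361, 393,
  419, 445, 458, 470, 478, 485, 523, 554, 566, 574]

/-- The centralizer of `sgN`. -/
def csList : List ℕ := [
  0, 1, 26, 27, 52, 53, 78, 79, 98, 99, 126, 127, 148, 149, 176, 177, 202, 203, 228, 229, 254,
  255, 280, 281, 306, 307, 332, 333, 358, 359, 360, 361, 394, 395, 416, 417, 450, 451, 478, 479,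
  500, 501, 516, 517, 544, 545, 566, 567]

/-- Elements conjugating the noncentral involutions into `aList`. -/
def intoA : List (ℕ × ℕ) := [
  (1, 0), (69, 4), (99, 0), (137, 5), (179, 4), (201, 5), (235, 5), (301, 4), (317, 5), (479, 0),
  (535, 4), (567, 0), (26, 0), (38, 4), (46, 5), (98, 0), (110, 4), (118, 5), (242, 5), (254, 0),
  (262, 4), (338, 4), (350, 5), (358, 0), (458, 4), (470, 5), (478, 0), (554, 5), (566, 0),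
  (574, 4), (27, 0), (89, 5), (165, 4), (255, 0), (271, 4), (359, 0), (361, 0), (393, 5),
  (419, 4), (445, 4), (485, 5), (523, 5)]

/-- Elements of the centralizer of `sgN` conjugating its elements of order three to `xN` or its inverse. -/
def intoX : List (ℕ × ℕ) := [
  (52, 0), (78, 26), (176, 78), (202, 78), (228, 202), (280, 26), (306, 202), (332, 0)]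

/-- Words for all elements in the letters `xN`, `sN`, `pN`. -/
def wordList : List (List ℕ) := [
  [],
  [0, 0, 2, 1, 0, 1, 0, 1, 2, 1, 0, 1, 0, 1, 2],
  [0, 0, 1, 0, 1, 0, 2, 1, 0, 1, 0, 2],
  [0, 0, 1, 0, 0, 2, 1, 0, 1, 0, 2],
  [2, 1, 0, 1, 0, 1],
  [1, 0, 1, 2, 1, 0, 1, 0, 1, 2, 1, 0, 1, 0, 2, 1],
  [0, 1, 0, 1, 2, 1, 0, 1, 0, 1, 2, 1],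
  [1, 0, 2, 1],
  [0, 2, 1, 0, 1, 0, 2, 1, 0, 1, 0, 2, 1],
  [0, 1, 0, 0, 1, 2, 1, 0, 0, 1],
  [1, 0, 1, 2, 1, 0, 1, 0, 1, 2, 1, 0],
  [0, 0, 1, 0, 2, 1, 0],
  [0, 0, 1, 0, 1, 2, 1, 0, 1, 0, 1, 2, 1, 0, 0],
  [0, 1, 0, 2, 1, 0, 0],
  [1, 2, 1, 0, 1, 0, 2, 1, 0],
  [0, 0, 1, 0, 1, 2, 1, 0, 1, 0, 2, 1, 0],
  [0, 1, 0, 1, 2, 1],
  [1, 2, 1, 0, 1, 0, 1, 2, 1],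
  [0, 1, 0, 2, 1, 0, 1, 0, 1, 2, 1, 0, 1],
  [0, 0, 1, 0, 1, 0, 2, 1, 0, 1],
  [0, 0, 1, 0, 1, 0, 1, 2],
  [0, 0, 2, 1, 0, 1, 0, 1, 2],
  [0, 0, 1, 2, 1, 0, 1, 0, 2, 1, 0, 0],
  [0, 1, 0, 1, 2, 1, 0, 1, 0, 2, 1, 0, 0],
  [0, 0, 1, 0, 0, 2, 1, 0, 1, 0, 2, 1],
  [0, 0, 1, 0, 1, 0, 2, 1, 0, 1, 0, 2, 1],
  [0, 1, 0, 1, 0],
  [0, 1, 0, 1, 2, 1, 0, 1, 0, 1, 2, 1, 0, 1, 0, 1, 2],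
  [0, 0, 1, 2, 1, 0, 1, 0, 1, 2, 1, 0, 1],
  [1, 0, 1, 2, 1, 0, 1],
  [1, 2, 1, 0, 1, 0, 2, 1, 0, 1, 0, 2],
  [0, 0, 1, 2, 1, 0, 0],
  [1, 0, 1, 2, 1, 0, 1, 0, 1, 2, 1, 0, 1, 0, 2],
  [2, 1, 0, 1, 0],
  [1, 0, 2],
  [0, 1, 0, 1, 2, 1, 0, 1, 0, 1, 2],
  [1, 0, 1, 0, 1, 2, 1, 0, 1, 0],
  [2, 1, 0, 1, 0, 1, 2, 1, 0, 1, 0],
  [1, 0, 0, 1, 2, 1, 0, 1, 2],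
  [1, 0, 1, 0, 1, 2, 1, 0, 1, 2],
  [0, 1, 2, 1, 0, 1, 0, 1, 2, 1, 0, 0, 1],
  [0, 0, 1, 0, 1, 2, 1, 0, 0, 1],
  [1, 2, 1, 0, 1, 0, 1, 2],
  [0, 1, 0, 1, 2],
  [0, 1, 0, 2, 1, 0, 0, 1],
  [0, 0, 1, 0, 1, 2, 1, 0, 1, 0, 1, 2, 1, 0, 0, 1],
  [0, 0, 1, 0, 1, 2, 1, 0, 1, 0, 2, 1, 0, 1],
  [1, 2, 1, 0, 1, 0, 2, 1, 0, 1],
  [1, 0, 1, 0, 1, 2],
  [2, 1, 0, 1, 0, 1, 2],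
  [1, 0, 1, 2, 1, 0, 1, 0, 1, 2, 1, 0, 0],
  [0, 0, 1, 0, 2, 1, 0, 0],
  [0],
  [2, 1, 0, 1, 0, 1, 2, 1, 0, 1, 0, 1, 2],
  [0, 0, 1, 0, 2, 1, 0, 1, 0, 1, 2, 1, 0, 1],
  [1, 0, 1, 0, 2, 1, 0, 1],
  [0, 0, 1, 2, 1, 0, 1, 0, 2, 1],
  [0, 1, 0, 1, 2, 1, 0, 1, 0, 2, 1],
  [0, 1, 0, 2, 1, 0, 1, 0, 1, 2, 1, 0, 1, 0],
  [0, 0, 1, 0, 1, 0, 2, 1, 0, 1, 0],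
  [0, 0, 2, 1, 0, 1, 0, 2, 1, 0, 1, 0, 2, 1],
  [0, 0, 1, 0, 0, 1, 2, 1, 0, 0, 1],
  [0, 1, 0, 0, 2, 1, 0, 1, 0],
  [1, 0, 2, 1, 0, 1, 0, 1, 2, 1, 0, 1, 0, 2],
  [0, 1, 0, 1, 0, 2, 1, 0, 1, 2],
  [0, 1, 0, 0, 2, 1, 0, 1, 2],
  [0, 1, 2, 1, 0, 1, 0, 2, 1, 0],
  [1, 0, 1, 2, 1, 0, 1, 0, 2, 1, 0],
  [0, 0, 1, 0, 1, 0, 1, 2, 1, 0, 1, 0, 1, 2],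
  [2],
  [1, 2, 1, 0, 0, 1],
  [0, 1, 2, 1, 0, 1, 0, 2, 1, 0, 1, 0, 2, 1],
  [1, 2, 1, 0, 1, 0, 1, 2, 1, 0, 1, 0],
  [0, 1, 0, 1, 2, 1, 0, 1, 0],
  [0, 2, 1, 0, 1, 0, 1, 2, 1, 0, 1, 2],
  [0, 1, 0, 0, 1, 2, 1, 0, 1],
  [0, 1, 0, 2, 1, 0, 1, 0, 2, 1, 0, 1, 0, 2],
  [0, 0, 1, 0, 0, 2, 1, 0, 0],
  [1, 0, 0, 1],
  [1, 0, 2, 1, 0, 1, 0, 1, 2, 1, 0, 1, 0, 1, 2, 1],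
  [0, 1, 0, 0, 2],
  [0, 0, 1, 0, 1, 0, 2, 1, 0, 1, 0, 1, 2],
  [0, 0, 1, 0, 2, 1, 0, 1, 0, 2, 1],
  [2, 1, 0, 1, 0, 2, 1],
  [0, 2, 1, 0, 1, 2],
  [1, 0, 2, 1, 0, 1, 2],
  [0, 0, 1, 0, 1, 2, 1, 0, 1, 0, 2, 1, 0, 1, 0, 2, 1],
  [0, 0, 2, 1, 0, 0, 1],
  [1, 0, 2, 1, 0, 1, 0],
  [0, 1, 0, 1, 2, 1, 0, 1, 0, 1, 2, 1, 0, 1, 0],
  [0, 0, 1, 0, 1, 0, 1, 2, 1, 0, 0, 1],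
  [0, 0, 2, 1, 0, 1, 0, 1, 2, 1, 0, 0, 1],
  [0, 0, 2, 1, 0, 1, 0, 2, 1, 0, 1],
  [0, 1, 0, 2, 1, 0, 1, 0, 2, 1, 0, 1],
  [0, 1, 0, 2, 1, 0, 1, 0, 1, 2],
  [0, 0, 1, 0, 1, 0, 2],
  [1, 0, 1, 2, 1, 0, 1, 0, 2],
  [0, 1, 2, 1, 0, 1, 0, 2],
  [0, 0, 2, 1, 0, 1, 0, 1, 2, 1, 0, 1, 0, 1, 2, 1],
  [1],
  [0, 1, 0, 0, 1, 2, 1, 0, 0],
  [0, 2, 1, 0, 1, 0, 2, 1, 0, 1, 0, 2],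
  [0, 0, 1, 0, 2, 1, 0, 1],
  [1, 0, 1, 2, 1, 0, 1, 0, 1, 2, 1, 0, 1],
  [0, 0, 2, 1],
  [0, 1, 0, 1, 0, 1, 2, 1, 0, 1, 0, 1, 2, 1],
  [0, 0, 1, 0, 2, 1, 0, 1, 0, 1, 2, 1, 0, 1, 0, 2, 1],
  [1, 0, 0, 2, 1, 0, 1, 0, 1],
  [0, 0, 2, 1, 0, 1, 0, 1, 2, 1],
  [0, 0, 1, 0, 1, 0, 1, 2, 1],
  [0, 1, 0, 2, 1, 0, 1, 0, 2, 1, 0, 0],
  [0, 0, 2, 1, 0, 1, 0, 2, 1, 0, 0],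
  [0, 0, 1, 0, 1, 0, 2, 1, 0],
  [0, 1, 0, 2, 1, 0, 1, 0, 1, 2, 1, 0],
  [0, 1, 0, 1, 0, 2, 1, 0, 1, 0, 1],
  [1, 0, 2, 1, 0, 1, 0, 1, 2, 1, 0, 1, 0, 1],
  [1, 0, 2, 1, 0, 1, 0, 2, 1, 0, 1, 2],
  [0, 1, 0, 0, 2, 1, 0],
  [0, 2, 1, 0, 0, 1, 2],
  [0, 0, 1, 0, 0, 2, 1, 0, 0, 1, 2],
  [0, 0, 1, 0, 0, 1, 2, 1],
  [1, 0, 0, 2, 1, 0, 1, 0, 1, 2, 1],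
  [1, 0, 1, 0, 2, 1, 0, 0],
  [0, 0, 1, 0, 2, 1, 0, 1, 0, 1, 2, 1, 0, 0],
  [0, 0, 1, 2, 1, 0, 1],
  [1, 2, 1, 0, 1, 0, 1, 2, 1, 0, 1, 2],
  [0, 1, 2, 1, 0, 1, 0, 1, 2, 1, 0, 1, 0, 1, 2],
  [0, 1, 0],
  [0, 0, 1, 2, 1, 0, 1, 0, 1, 2, 1, 0, 1, 0, 2, 1],
  [0, 1, 2, 1, 0, 1, 0, 1],
  [0, 1, 0, 0, 1, 2, 1, 0, 1, 0, 2],
  [0, 1, 0, 1, 0, 1, 2, 1, 0, 1, 0, 2],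
  [1, 0, 1, 2, 1, 0, 1, 0, 2, 1, 0, 1, 0],
  [0, 1, 2, 1, 0, 1, 0, 2, 1, 0, 1, 0],
  [2, 1, 0],
  [1, 0, 1, 2, 1, 0, 1, 0, 2, 1, 0, 1, 2],
  [0, 0, 1, 0, 0, 1, 2, 1, 0, 1, 0, 1, 2, 1],
  [1, 2, 1],
  [2, 1, 0, 1, 0, 1, 2, 1, 0],
  [1, 0, 1, 0, 1, 2, 1, 0],
  [0, 1, 0, 1, 0, 2, 1, 0, 0, 1, 2],
  [0, 0, 1, 0, 2, 1, 0, 0, 1, 2],
  [1, 0, 0, 1, 2, 1, 0, 1, 0, 1],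
  [2, 1, 0, 1, 0, 1, 2, 1, 0, 1, 0, 2, 1],
  [0, 2, 1, 0, 1, 0, 1, 2, 1, 0, 1, 0, 1],
  [0, 1, 0, 1, 0, 1, 2, 1, 0, 1, 0, 1],
  [0, 0, 1, 0, 0, 2, 1, 0, 1],
  [0, 1, 0, 2, 1, 0, 1, 0, 1, 2, 1, 0, 1, 2],
  [0, 0, 1, 0, 1, 2, 1, 0, 1, 0, 1, 2, 1, 0, 1, 0, 1, 2, 1],
  [0, 0, 1, 0, 1, 0, 1],
  [1, 0, 1, 2, 1, 0, 0],
  [0, 0, 1, 2, 1, 0, 1, 0, 1, 2, 1, 0, 0],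
  [1, 0, 1, 0, 2, 1, 0, 1, 0, 2],
  [1, 0, 0, 2, 1, 0, 1, 0, 2],
  [0, 0, 1, 0, 1, 2, 1],
  [0, 1, 2, 1, 0, 1, 0, 1, 2, 1],
  [0, 1, 0, 1, 2, 1, 0],
  [1, 2, 1, 0, 1, 0, 1, 2, 1, 0],
  [0, 0, 1, 0, 1, 2, 1, 0, 1, 0, 1, 2, 1],
  [0, 1, 0, 2, 1],
  [1, 2, 1, 0, 1, 0, 2, 1, 0, 0],
  [0, 0, 1, 0, 1, 2, 1, 0, 1, 0, 2, 1, 0, 0],
  [1, 0, 0, 1, 2, 1, 0, 0, 1, 2],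
  [0, 0, 1, 2, 1, 0, 0, 1, 2],
  [0, 2, 1, 0, 1, 0, 1],
  [0, 1, 0, 1, 2, 1, 0, 1, 0, 1, 2, 1, 0, 1, 0, 2, 1],
  [0, 1, 0, 1, 2, 1, 0, 1, 0, 1, 2, 1, 0],
  [1, 0, 2, 1, 0],
  [0, 1, 0, 2, 1, 0, 1, 0, 2, 1, 0, 1, 2],
  [0, 0, 1, 0, 0, 2, 1, 0],
  [2, 1, 0, 1, 0, 1, 2, 1],
  [1, 0, 1, 0, 1, 2, 1],
  [0, 1, 0, 1, 2, 1, 0, 1, 0, 2],
  [0, 0, 1, 2, 1, 0, 1, 0, 2],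
  [0, 0, 1, 0, 1, 0, 2, 1, 0, 1, 0, 1],
  [0, 1, 0, 2, 1, 0, 1, 0, 1, 2, 1, 0, 1, 0, 1],
  [0, 0, 1, 0, 1, 0],
  [0, 0, 1, 0, 1, 2, 1, 0, 1, 0, 1, 2, 1, 0, 1, 0, 1, 2],
  [0, 0, 1, 2, 1, 0, 1, 0, 1, 2, 1, 0, 0, 1],
  [1, 0, 1, 2, 1, 0, 0, 1],
  [2, 1],
  [0, 0, 1, 0, 1, 0, 1, 2, 1, 0, 1, 0, 1, 2, 1],
  [0, 1, 2, 1, 0, 1, 0, 2, 1, 0, 1, 0, 2],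
  [1, 2, 1, 0, 0],
  [1, 0, 1, 2, 1, 0, 1, 0, 2, 1, 0, 1],
  [0, 1, 2, 1, 0, 1, 0, 2, 1, 0, 1],
  [0, 0, 1, 0, 2, 1, 0, 1, 0, 2, 1, 0, 0],
  [2, 1, 0, 1, 0, 2, 1, 0, 0],
  [1, 2, 1, 0, 1, 0, 1, 2, 1, 0, 1],
  [0, 1, 0, 1, 2, 1, 0, 1],
  [0, 1, 0, 2],
  [0, 0, 1, 0, 1, 2, 1, 0, 1, 0, 1, 2],
  [0, 0, 1, 0, 2, 1, 0, 1, 0, 1, 2, 1, 0, 0, 1],
  [1, 0, 1, 0, 2, 1, 0, 0, 1],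
  [0, 1, 0, 1, 2, 1, 0, 1, 0, 1],
  [1, 2, 1, 0, 1, 0, 1, 2, 1, 0, 1, 0, 1],
  [0, 0, 1, 0, 1, 0, 2, 1, 0, 1, 0, 1, 2, 1],
  [0, 1, 0, 0, 2, 1],
  [2, 1, 0, 1, 0, 2],
  [0, 0, 1, 0, 2, 1, 0, 1, 0, 2],
  [1, 2, 1, 0, 1, 0, 2, 1, 0, 1, 2],
  [0, 0, 1, 2, 1, 0],
  [0, 1, 0, 1],
  [0, 1, 2, 1, 0, 1, 0, 1, 2, 1, 0, 1, 0, 1, 2, 1],
  [0, 1, 0, 2, 1, 0, 1, 0, 2, 1, 0],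
  [0, 0, 2, 1, 0, 1, 0, 2, 1, 0],
  [0, 0, 1, 0, 1, 0, 2, 1],
  [0, 1, 0, 2, 1, 0, 1, 0, 1, 2, 1],
  [0, 0, 2, 1, 0, 1, 0, 1, 2, 1, 0, 0],
  [0, 0, 1, 0, 1, 0, 1, 2, 1, 0, 0],
  [1, 2],
  [0, 0, 1, 0, 0, 1, 2, 1, 0, 1, 0, 1, 2],
  [0, 2, 1, 0, 1, 0, 2, 1, 0, 1, 0],
  [1, 0, 2, 1, 0, 1, 0, 2, 1, 0, 1, 0],
  [1, 0, 1, 2, 1, 0, 1, 0, 1, 2, 1, 0, 1, 2],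
  [2, 1, 0, 1],
  [0, 1, 2, 1, 0, 1, 0, 1, 2, 1, 0, 1],
  [0, 0, 1, 0, 1, 2, 1, 0, 1],
  [0, 2, 1],
  [1, 0, 1, 0, 1, 2, 1, 0, 1, 0, 1, 2, 1],
  [0, 0, 1, 0, 2, 1, 0, 1, 0, 2, 1, 0, 1, 2],
  [1, 0, 0, 2, 1, 0],
  [1, 0, 2, 1, 0, 1, 0, 2, 1, 0, 0],
  [0, 2, 1, 0, 1, 0, 2, 1, 0, 0],
  [0, 0, 1, 0, 1, 0, 1, 2, 1, 0, 1, 0],
  [0, 0, 2, 1, 0, 1, 0, 1, 2, 1, 0, 1, 0],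
  [2, 1, 0, 0, 1, 2],
  [0, 1, 0, 0, 2, 1, 0, 0, 1, 2],
  [1, 0, 1, 0],
  [1, 0, 1, 2, 1, 0, 1, 0, 1, 2, 1, 0, 1, 0, 1, 2],
  [0, 0, 1, 2, 1, 0, 1, 0, 1, 2],
  [1, 0, 1, 2],
  [0, 1, 0, 2, 1, 0, 1, 0, 1, 2, 1, 0, 1, 0, 2, 1],
  [0, 0, 1, 0, 0, 2, 1, 0, 1, 0, 1],
  [0, 0, 1, 2, 1, 0, 1, 0, 2, 1, 0, 1, 0, 2],
  [0, 1, 2, 1, 0, 0],
  [0, 1, 0, 0, 2, 1, 0, 1, 0, 2, 1],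
  [0, 1, 0, 1, 0, 2, 1, 0, 1, 0, 2, 1],
  [0, 1, 0, 1, 0, 2, 1, 0],
  [1, 0, 2, 1, 0, 1, 0, 1, 2, 1, 0],
  [0, 0, 1, 0, 1, 0, 2, 1, 0, 0, 1, 2],
  [1, 0, 2, 1, 0, 0, 1, 2],
  [0, 1, 0, 1, 2, 1, 0, 1, 0, 2, 1, 0, 1, 0],
  [0, 0, 1, 2, 1, 0, 1, 0, 2, 1, 0, 1, 0],
  [1, 0, 0, 1, 2, 1],
  [0, 1, 0, 0, 2, 1, 0, 1, 0, 1, 2, 1],
  [0, 2, 1, 0, 1, 0, 1, 2, 1, 0],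
  [0, 1, 0, 1, 0, 1, 2, 1, 0],
  [0, 0, 2, 1, 0, 1, 0, 1, 2, 1, 0, 1, 2],
  [0, 0, 1, 0, 0, 1, 2, 1, 0, 1],
  [0, 1, 0, 2, 1, 0, 1, 0],
  [0, 0, 1, 0, 1, 2, 1, 0, 1, 0, 1, 2, 1, 0, 1, 0],
  [1, 2, 1, 0, 1, 0, 1, 2, 1, 0, 1, 0, 2, 1],
  [0, 0, 1, 2, 1, 0, 1, 0, 1],
  [0, 1, 0, 0, 1],
  [0, 1, 0, 2, 1, 0, 1, 0, 1, 2, 1, 0, 1, 0, 1, 2, 1],
  [0, 0, 1, 0, 2, 1, 0, 1, 0, 1, 2],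
  [1, 0, 1, 0, 2],
  [0, 2, 1, 0],
  [0, 1, 0, 1, 2, 1, 0, 1, 0, 2, 1, 0, 1, 2],
  [0, 0, 1, 0, 2, 1, 0, 1, 0, 2, 1, 0, 1, 0, 2],
  [1, 0, 0, 2, 1, 0, 0],
  [1, 0, 2, 1, 0, 1, 0, 2, 1],
  [0, 2, 1, 0, 1, 0, 2, 1],
  [1, 2, 1, 0, 1, 0],
  [0, 1, 2, 1, 0, 1, 0, 1, 2, 1, 0, 1, 0, 2],
  [0, 0, 1, 2, 1, 0, 1, 0, 2, 1, 0, 1, 2],
  [0, 1, 2, 1, 0],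
  [2, 1, 0, 1, 0, 2, 1, 0, 1, 0],
  [0, 0, 1, 0, 2, 1, 0, 1, 0, 2, 1, 0, 1, 0],
  [0, 1, 0, 1, 0, 2, 1],
  [1, 0, 2, 1, 0, 1, 0, 1, 2, 1],
  [0, 1, 0, 1, 2, 1, 0, 0, 1, 2],
  [1, 0, 1, 0, 1, 2, 1, 0, 0, 1, 2],
  [0, 0, 1, 0, 1, 2, 1, 0, 1, 0, 1, 2, 1, 0, 1, 2],
  [0, 0, 2, 1, 0, 1],
  [0, 0, 1, 0, 0, 2, 1, 0, 1, 0, 1, 2],
  [0, 1, 0, 0, 1, 2],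
  [1, 0, 1, 2, 1, 0, 1, 0, 1, 2, 1, 0, 1, 0, 1],
  [0, 0, 1, 0, 2, 1, 0, 1, 0, 1],
  [1, 0, 1],
  [1, 2, 1, 0, 1, 0, 1, 2, 1, 0, 1, 0, 1, 2, 1],
  [1, 0, 1, 0, 1, 2, 1, 0, 1, 0, 2, 1],
  [1, 0, 0, 1, 2, 1, 0, 1, 0, 2, 1],
  [1, 0, 0, 1, 2, 1, 0],
  [2, 1, 0, 1, 0, 2, 1, 0, 1, 2],
  [0, 2, 1, 0, 1, 0, 1, 2, 1, 0, 0],
  [0, 1, 0, 1, 0, 1, 2, 1, 0, 0],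
  [1, 0, 2, 1, 0, 1, 0, 2, 1, 0, 1, 0, 2],
  [0, 1, 0, 0, 2, 1, 0, 0],
  [0, 1, 2, 1, 0, 1, 0, 1, 2, 1, 0, 1, 0, 2, 1],
  [1, 2, 1, 0, 1, 0, 1],
  [1, 0, 1, 0, 2, 1, 0, 0, 1, 2],
  [0, 1, 0, 2, 1, 0, 0, 1, 2],
  [0, 0, 2, 1, 0],
  [0, 0, 1, 0, 1, 2, 1, 0, 1, 0, 2, 1, 0, 1, 2],
  [2, 1, 0, 1, 2],
  [0, 0, 1, 0, 2, 1, 0, 1, 2],
  [0, 0, 1, 0, 0, 1, 2, 1, 0, 1, 0, 1],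
  [0, 0, 2, 1, 0, 1, 0, 1, 2, 1, 0, 1, 0, 2, 1],
  [2, 1, 0, 1, 0, 1, 2, 1, 0, 1, 2],
  [1, 0, 0, 1, 2, 1, 0, 1],
  [0, 1, 0, 1, 0, 1, 2, 1, 0, 0, 1],
  [0, 2, 1, 0, 1, 0, 1, 2, 1, 0, 0, 1],
  [1, 0, 0, 1, 2, 1, 0, 1, 0, 2],
  [1, 0, 1, 0, 1, 2, 1, 0, 1, 0, 2],
  [0, 0, 1, 0, 0, 1],
  [0, 0, 1, 0, 2, 1, 0, 1, 0, 1, 2, 1, 0, 1, 0, 1, 2, 1],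
  [0, 0, 1, 2, 1, 0, 1, 0, 1, 2, 1, 0, 1, 0],
  [1, 0, 1, 2, 1, 0, 1, 0],
  [0, 1, 0, 0, 1, 2, 1, 0, 1, 0, 1, 2, 1],
  [0, 0, 1, 2, 1],
  [0, 0, 2, 1, 0, 1, 0, 1],
  [0, 0, 1, 0, 1, 2, 1, 0, 1, 0, 1, 2, 1, 0, 1, 0, 2, 1],
  [0, 0, 1, 0, 1, 2, 1, 0],
  [0, 1, 2, 1, 0, 1, 0, 1, 2, 1, 0],
  [0, 0, 2, 1, 0, 1, 0, 1, 2, 1, 0, 1, 0, 1],
  [0, 0, 1, 0, 1, 0, 1, 2, 1, 0, 1, 0, 1],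
  [0, 1, 0, 0, 1, 2, 1, 0, 0, 1, 2],
  [1, 2, 1, 0, 0, 1, 2],
  [0, 1, 0, 1, 2, 1, 0, 1, 0, 1, 2, 1, 0, 0],
  [1, 0, 2, 1, 0, 0],
  [0, 0, 1, 0, 1, 0, 2, 1, 0, 1, 2],
  [0, 0, 1, 0, 0, 2, 1, 0, 1, 2],
  [0, 1, 0, 1, 0, 2, 1, 0, 1, 0, 2],
  [0, 1, 0, 0, 2, 1, 0, 1, 0, 2],
  [1, 0, 2, 1, 0, 1, 0, 1, 2, 1, 0, 1],
  [0, 1, 0, 1, 0, 2, 1, 0, 1],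
  [0, 1, 2, 1, 0, 0, 1],
  [0, 0, 1, 2, 1, 0, 1, 0, 2, 1, 0, 1, 0, 2, 1],
  [1, 0, 1, 2, 1, 0, 1, 0, 1, 2, 1],
  [0, 0, 1, 0, 2, 1],
  [0, 0],
  [0, 2, 1, 0, 1, 0, 1, 2, 1, 0, 1, 0, 1, 2],
  [0, 0, 1, 0, 2, 1, 0, 1, 0, 1, 2, 1, 0, 1, 0],
  [1, 0, 1, 0, 2, 1, 0, 1, 0],
  [0, 1, 0, 1, 2, 1, 0, 1, 2],
  [0, 0, 1, 2, 1, 0, 1, 2],
  [1, 0, 1, 2, 1, 0, 0, 1, 2],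
  [0, 0, 1, 0, 1, 0, 1, 2, 1, 0, 0, 1, 2],
  [0, 0, 1, 0, 0, 1, 2, 1, 0],
  [0, 0, 2, 1, 0, 1, 0, 2, 1, 0, 1, 2],
  [0, 0, 1, 0, 1, 2, 1, 0, 1, 0, 1, 2, 1, 0, 1, 0, 1],
  [0, 1, 0, 2, 1, 0, 1, 0, 1],
  [0, 0, 1, 0, 1, 2, 1, 0, 1, 0, 1],
  [0, 1, 2, 1, 0, 1, 0, 1, 2, 1, 0, 1, 0, 1],
  [2, 1, 0, 1, 0, 1, 2, 1, 0, 0],
  [1, 0, 1, 0, 1, 2, 1, 0, 0],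
  [1, 0, 0, 2, 1, 0, 0, 1],
  [0, 0, 1, 0, 2, 1, 0, 1, 0, 2, 1, 0, 1, 0, 2, 1],
  [0, 2, 1, 0, 1, 0, 2],
  [1, 0, 2, 1, 0, 1, 0, 2],
  [0, 1, 0, 1, 2, 1, 0, 1, 0, 1, 2, 1, 0, 1, 2],
  [0, 2, 1, 0, 1],
  [0, 2, 1, 0, 1, 0, 1, 2, 1, 0, 1, 0, 2],
  [0, 1, 0, 0, 1, 2, 1, 0, 1, 0],
  [1, 0, 1, 0, 2, 1, 0, 1, 0, 1, 2, 1],
  [0, 0, 1, 0, 0, 2, 1],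
  [0, 0, 1, 0, 1],
  [0, 0, 1, 2, 1, 0, 1, 0, 1, 2, 1, 0, 1, 0, 1, 2, 1],
  [0, 1, 0, 1, 2, 1, 0, 1, 0, 1, 2, 1, 0, 1, 0, 1, 2, 1],
  [0, 1, 0, 1, 0, 1],
  [0, 1, 2, 1, 0, 1, 0, 2, 1],
  [1, 0, 1, 2, 1, 0, 1, 0, 2, 1],
  [0, 1, 0, 1, 0, 1, 2, 1, 0, 1, 0, 1, 2],
  [0, 0, 2],
  [1, 0, 0, 2, 1, 0, 1, 0],
  [0, 0, 1, 0, 2, 1, 0, 1, 0, 1, 2, 1, 0, 1, 0, 2],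
  [1, 0, 1, 2, 1, 0],
  [0, 0, 1, 2, 1, 0, 1, 0, 1, 2, 1, 0],
  [0, 0, 1, 2, 1, 0, 0, 1],
  [1, 2, 1, 0, 1, 0, 2, 1, 0, 1, 0, 2, 1],
  [0, 1, 0, 0, 2, 1, 0, 1],
  [1, 0, 2, 1, 0, 1, 0, 1, 2, 1, 0, 1, 2],
  [0, 0, 1, 0, 0, 1, 2, 1, 0, 0, 1, 2],
  [0, 1, 2, 1, 0, 0, 1, 2],
  [1, 0, 2, 1, 0, 1, 0, 1, 2, 1, 0, 1, 0],
  [0, 1, 0, 1, 0, 2, 1, 0, 1, 0],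
  [0, 0, 1, 0, 1, 2, 1, 0, 0],
  [0, 1, 2, 1, 0, 1, 0, 1, 2, 1, 0, 0],
  [2, 1, 0, 1, 0, 1, 2, 1, 0, 1, 0, 1],
  [1, 0, 1, 0, 1, 2, 1, 0, 1, 0, 1],
  [1, 0, 1, 0, 2, 1, 0, 1, 2],
  [1, 0, 0, 2, 1, 0, 1, 2],
  [0, 1, 0, 0, 1, 2, 1, 0],
  [0, 2, 1, 0, 1, 0, 2, 1, 0, 1, 2],
  [1, 0, 0, 2, 1, 0, 1, 0, 1, 2],
  [0, 0, 1, 0, 0, 1, 2],
  [0, 1, 2, 1, 0, 1, 0],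
  [0, 0, 1, 2, 1, 0, 1, 0, 1, 2, 1, 0, 1, 0, 2],
  [0, 1, 0, 1, 0, 1, 2, 1, 0, 1, 0, 2, 1],
  [0, 1, 0, 0, 1, 2, 1, 0, 1, 0, 2, 1],
  [0, 0, 1, 0, 0, 2, 1, 0, 0, 1],
  [0, 1, 0, 2, 1, 0, 1, 0, 2, 1, 0, 1, 0, 2, 1],
  [1, 0, 2, 1, 0, 1, 0, 1, 2, 1, 0, 1, 0, 1, 2],
  [1, 0, 0],
  [0, 0, 1, 0, 1, 2, 1, 0, 0, 1, 2],
  [0, 1, 0, 1, 0, 1, 2, 1, 0, 0, 1, 2],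
  [2, 1, 0, 1, 0, 1, 2, 1, 0, 1, 0, 2],
  [1, 0, 0, 1, 2, 1, 0, 1, 0],
  [1, 0, 1, 0, 1, 2, 1, 0, 1],
  [2, 1, 0, 1, 0, 1, 2, 1, 0, 1],
  [0, 1, 0, 1, 2, 1, 0, 1, 0, 1, 2, 1, 0, 1, 0, 1],
  [1, 0, 2, 1, 0, 1, 0, 1],
  [1, 0, 1, 2, 1, 0, 1, 2],
  [0, 1, 2, 1, 0, 1, 2],
  [0, 0, 2, 1, 0, 0],
  [0, 0, 1, 0, 1, 2, 1, 0, 1, 0, 2, 1, 0, 1, 0, 2],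
  [0, 0, 1, 0, 2, 1, 0, 0, 1],
  [1, 0, 1, 2, 1, 0, 1, 0, 1, 2, 1, 0, 0, 1],
  [0, 1, 0, 1, 0, 1, 2, 1, 0, 1, 0],
  [0, 2, 1, 0, 1, 0, 1, 2, 1, 0, 1, 0],
  [1, 0, 0, 2, 1, 0, 1, 0, 2, 1],
  [1, 0, 1, 0, 2, 1, 0, 1, 0, 2, 1],
  [0, 1, 2, 1, 0, 1, 0, 1, 2],
  [0, 0, 1, 0, 1, 2],
  [2, 1, 0, 1, 0, 1, 2, 1, 0, 1, 0, 1, 2, 1],
  [0, 1],
  [1, 0, 1, 0, 2, 1, 0],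
  [0, 0, 1, 0, 2, 1, 0, 1, 0, 1, 2, 1, 0],
  [0, 1, 0, 1, 2, 1, 0, 1, 0, 1, 2, 1, 0, 1, 0, 2],
  [0, 2, 1, 0, 1, 0],
  [1, 0, 2, 1, 0, 1],
  [0, 1, 0, 1, 2, 1, 0, 1, 0, 1, 2, 1, 0, 1],
  [0, 0, 2, 1, 0, 0, 1, 2],
  [1, 0, 0, 2, 1, 0, 0, 1, 2],
  [0, 1, 0, 0, 1, 2, 1, 0, 1, 2],
  [0, 1, 0, 1, 0, 1, 2, 1, 0, 1, 2],
  [0, 0, 1, 0, 0, 1, 2, 1, 0, 0],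
  [0, 0, 2, 1, 0, 1, 0, 2, 1, 0, 1, 0, 2],
  [1, 0, 2, 1, 0, 1, 0, 1, 2, 1, 0, 1, 0, 2, 1],
  [0, 1, 0, 0, 2, 1, 0, 1, 0, 1],
  [0, 1, 2, 1, 0, 1],
  [0, 0, 1, 2, 1, 0, 1, 0, 1, 2, 1, 0, 1, 2],
  [1, 0, 0, 2],
  [0, 1, 0, 1, 0, 2, 1, 0, 1, 0, 1, 2],
  [0, 2, 1, 0, 1, 0, 2, 1, 0, 1],
  [1, 0, 2, 1, 0, 1, 0, 2, 1, 0, 1],
  [0, 1, 0, 1, 2, 1, 0, 1, 0, 2, 1, 0, 1, 0, 2, 1],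
  [0, 2, 1, 0, 0, 1],
  [0, 0, 1, 0, 1, 2, 1, 0, 1, 0, 2, 1, 0, 1, 0],
  [1, 2, 1, 0, 1, 0, 2, 1, 0, 1, 0],
  [1, 0, 2, 1, 0, 1, 0, 1, 2],
  [0, 1, 0, 1, 0, 2],
  [0, 0, 1, 0, 1, 0, 2, 1, 0, 0],
  [0, 1, 0, 2, 1, 0, 1, 0, 1, 2, 1, 0, 0],
  [0, 0, 2, 1, 0, 1, 0, 1, 2, 1, 0],
  [0, 0, 1, 0, 1, 0, 1, 2, 1, 0],
  [0, 1, 0, 2, 1, 0, 1, 0, 2, 1],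
  [0, 0, 2, 1, 0, 1, 0, 2, 1],
  [1, 2, 1, 0, 1, 0, 1, 2, 1, 0, 1, 0, 1, 2],
  [1, 0],
  [0, 1, 0, 0, 1, 2, 1],
  [0, 0, 1, 0, 0, 2, 1, 0, 1, 0, 1, 2, 1],
  [0, 0, 1, 0, 2, 1, 0, 1, 0],
  [1, 0, 1, 2, 1, 0, 1, 0, 1, 2, 1, 0, 1, 0],
  [0, 0, 2, 1, 0, 1, 0, 2, 1, 0, 1, 0],
  [0, 1, 0, 2, 1, 0, 1, 0, 2, 1, 0, 1, 0],
  [0, 0, 1, 0, 2, 1, 0, 1, 0, 2, 1, 0],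
  [2, 1, 0, 1, 0, 2, 1, 0],
  [1, 0, 2, 1, 0, 1, 0, 1, 2, 1, 0, 0, 1],
  [0, 1, 0, 1, 0, 2, 1, 0, 0, 1],
  [0, 1, 2],
  [1, 0, 0, 1, 2, 1, 0, 1, 0, 1, 2],
  [0, 1, 0, 0, 2, 1, 0, 1, 0, 1, 2],
  [1, 0, 0, 1, 2],
  [0, 1, 0, 1, 0, 1, 2, 1, 0, 1],
  [0, 2, 1, 0, 1, 0, 1, 2, 1, 0, 1],
  [0, 1, 2, 1, 0, 1, 0, 2, 1, 0, 1, 2],
  [1, 2, 1, 0],
  [0, 0, 1, 0, 1, 0, 1, 2, 1, 0, 1, 0, 2, 1],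
  [0, 0, 1, 0, 0, 1, 2, 1, 0, 1, 0, 2, 1],
  [2, 1, 0, 0],
  [1, 0, 1, 2, 1, 0, 1, 0, 2, 1, 0, 1, 0, 2],
  [1, 0, 1, 0, 2, 1],
  [0, 0, 1, 0, 2, 1, 0, 1, 0, 1, 2, 1],
  [0, 0, 1, 2, 1, 0, 1, 0],
  [1, 2, 1, 0, 1, 0, 1, 2, 1, 0, 1, 0, 2],
  [0, 1, 0, 2, 1, 0, 1, 0, 1, 2, 1, 0, 1, 0, 1, 2],
  [0, 1, 0, 0],
  [1, 0, 1, 0, 1, 2, 1, 0, 1, 0, 1, 2],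
  [0, 2],
  [2, 1, 0, 1, 0, 2, 1, 0, 1, 0, 2, 1],
  [1, 0, 0, 1, 2, 1, 0, 0, 1],
  [0, 1, 0, 1, 0, 1, 2],
  [0, 2, 1, 0, 1, 0, 1, 2],
  [0, 0, 1, 2, 1, 0, 1, 0, 2, 1, 0],
  [0, 1, 0, 1, 2, 1, 0, 1, 0, 2, 1, 0],
  [1, 0, 0, 2, 1, 0, 1],
  [0, 0, 1, 0, 2, 1, 0, 1, 0, 1, 2, 1, 0, 1, 2],
  [0, 1, 2, 1, 0, 1, 0, 2, 1, 0, 0],
  [1, 0, 1, 2, 1, 0, 1, 0, 2, 1, 0, 0],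
  [1, 2, 1, 0, 1, 0, 2, 1],
  [0, 0, 1, 0, 1, 2, 1, 0, 1, 0, 2, 1],
  [0, 1, 0, 1, 2, 1, 0, 0],
  [1, 2, 1, 0, 1, 0, 1, 2, 1, 0, 0],
  [0, 0, 1, 0, 1, 2, 1, 0, 1, 0, 1, 2, 1, 0],
  [0, 1, 0, 2, 1, 0],
  [0, 0, 1, 0, 0, 2, 1, 0, 1, 0],
  [0, 1, 0, 2, 1, 0, 1, 0, 1, 2, 1, 0, 1, 0, 2],
  [1, 0, 1, 2, 1, 0, 1, 0, 1, 2, 1, 0, 1, 0, 1, 2, 1],
  [1, 0, 1, 0, 1],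
  [1, 0, 1, 2, 1],
  [0, 0, 1, 2, 1, 0, 1, 0, 1, 2, 1],
  [1, 0, 0, 1, 2, 1, 0, 0],
  [2, 1, 0, 1, 0, 2, 1, 0, 1, 0, 2],
  [0, 0, 1, 0, 1, 2, 1, 0, 1, 0, 1, 2, 1, 0, 1, 0, 2],
  [0, 0, 2, 1, 0, 1, 0],
  [1, 0, 2, 1, 0, 0, 1],
  [0, 1, 0, 1, 2, 1, 0, 1, 0, 1, 2, 1, 0, 0, 1],
  [0, 0, 1, 0, 0, 1, 2, 1, 0, 1, 2],
  [0, 0, 1, 0, 1, 0, 1, 2, 1, 0, 1, 2],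
  [0, 2, 1, 0, 1, 0, 1, 2, 1],
  [0, 1, 0, 1, 0, 1, 2, 1],
  [0, 1, 0, 1, 2, 1, 0, 1, 0, 2, 1, 0, 1],
  [0, 0, 1, 2, 1, 0, 1, 0, 2, 1, 0, 1],
  [0, 2, 1, 0, 1, 0, 1, 2, 1, 0, 1, 0, 1, 2, 1],
  [0, 0, 1],
  [1, 0, 1, 0, 2, 1, 0, 1, 0, 1],
  [0, 0, 1, 0, 2, 1, 0, 1, 0, 1, 2, 1, 0, 1, 0, 1],
  [0, 0, 1, 0, 2],
  [1, 0, 1, 2, 1, 0, 1, 0, 1, 2],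
  [0, 1, 0, 2, 1, 0, 1],
  [0, 0, 1, 0, 1, 2, 1, 0, 1, 0, 1, 2, 1, 0, 1],
  [0, 0, 1, 0, 1, 2, 1, 0, 1, 0, 2],
  [1, 2, 1, 0, 1, 0, 2],
  [1, 2, 1, 0, 1, 0, 1, 2, 1, 0, 0, 1],
  [0, 1, 0, 1, 2, 1, 0, 0, 1],
  [0, 1, 0, 1, 0, 2, 1, 0, 1, 0, 1, 2, 1],
  [1, 0, 0, 2, 1],
  [0, 1, 0, 0, 2, 1, 0, 0, 1],
  [1, 0, 2, 1, 0, 1, 0, 2, 1, 0, 1, 0, 2, 1],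
  [0, 0, 1, 0, 1, 2, 1, 0, 1, 2],
  [1, 2, 1, 0, 1, 2],
  [0, 0, 2, 1, 0, 1, 0, 1, 2, 1, 0, 1, 0, 2],
  [0, 0, 1, 0, 0, 1, 2, 1, 0, 1, 0],
  [1, 0, 2, 1, 0, 1, 0, 2, 1, 0],
  [0, 2, 1, 0, 1, 0, 2, 1, 0],
  [0, 2, 1, 0, 0],
  [0, 1, 0, 1, 2, 1, 0, 1, 0, 2, 1, 0, 1, 0, 2],
  [1, 0, 1, 2, 1, 0, 1, 0, 1],
  [0, 0, 1, 2, 1, 0, 1, 0, 1, 2, 1, 0, 1, 0, 1],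
  [0, 0, 1, 2],
  [0, 1, 0, 0, 1, 2, 1, 0, 1, 0, 1, 2],
  [0, 0, 1, 0, 2, 1, 0, 1, 0, 1, 2, 1, 0, 1, 0, 1, 2],
  [0, 0, 1, 0, 0],
  [0, 0, 2, 1, 0, 1, 0, 2],
  [0, 1, 0, 2, 1, 0, 1, 0, 2],
  [0, 1, 0, 2, 1, 0, 1, 0, 1, 2, 1, 0, 0, 1],
  [0, 0, 1, 0, 1, 0, 2, 1, 0, 0, 1],
  [0, 0, 1, 0, 1, 0, 1, 2, 1, 0, 1],
  [0, 0, 2, 1, 0, 1, 0, 1, 2, 1, 0, 1],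
  [2, 1, 0, 1, 0, 2, 1, 0, 1],
  [0, 0, 1, 0, 2, 1, 0, 1, 0, 2, 1, 0, 1],
  [0, 0, 2, 1, 0, 1, 2],
  [0, 1, 0, 2, 1, 0, 1, 2],
  [0, 1, 2, 1, 0, 1, 0, 1, 2, 1, 0, 1, 0],
  [0, 0, 1, 0, 1, 2, 1, 0, 1, 0],
  [1, 0, 1, 0, 1, 2, 1, 0, 0, 1],
  [2, 1, 0, 1, 0, 1, 2, 1, 0, 0, 1],
  [0, 1, 0, 1, 0, 2, 1, 0, 0],
  [1, 0, 2, 1, 0, 1, 0, 1, 2, 1, 0, 0],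
  [1, 0, 0, 1, 2, 1, 0, 1, 0, 1, 2, 1],
  [0, 1, 2, 1],
  [0, 0, 1, 0, 0, 2],
  [1, 0, 1, 0, 2, 1, 0, 1, 0, 1, 2],
  [0, 0, 1, 2, 1, 0, 1, 0, 1, 2, 1, 0, 1, 0, 1, 2],
  [0, 0, 1, 0],
  [0, 1, 0, 0, 1, 2, 1, 0, 1, 0, 1],
  [0, 2, 1, 0, 1, 0, 1, 2, 1, 0, 1, 0, 2, 1],
  [1, 0, 1, 2, 1, 0, 1, 0, 2, 1, 0, 1, 0, 2, 1],
  [2, 1, 0, 0, 1],
  [1, 2, 1, 0, 1],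
  [0, 1, 2, 1, 0, 1, 0, 1, 2, 1, 0, 1, 2],
  [0, 0, 1, 0, 0, 1, 2, 1, 0, 1, 0, 2],
  [0, 0, 1, 0, 1, 0, 1, 2, 1, 0, 1, 0, 2]]

end CfsgLib.SpCentInv.Data
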