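import Mathlib

/-!
Linear substitutions of `GF(2)^4`, coded in sixteen bits, and the checks used to find the orbit of
`1` under a group of substitutions with a known point stabilizer.
-/

set_option autoImplicit false
set_option maxRecDepth 4000

namespace CfsgLib.SpCentInv.Lin

/-- The image of a vector under a coded substitution. -/
def app (C v : ℕ) : ℕ :=
  ((if v % 2 = 1 then C % 16 else 0) ^^^ (if v / 2 % 2 = 1 then C / 16 % 16 else 0)) ^^^
    ((if v / 4 % 2 = 1 then C / 256 % 16 else 0) ^^^ (if v / 8 % 2 = 1 then C / 4096 % 16 else 0))

/-- The code with given columns. -/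
def code (a b c d : ℕ) : ℕ := a + 16 * b + 256 * c + 4096 * d

/-- The code of a composite. -/
def comp (C D : ℕ) : ℕ :=
  code (app C (app D 1)) (app C (app D 2)) (app C (app D 4)) (app C (app D 8))

/-- The preimage of a vector. -/
def pre (C v : ℕ) : ℕ := ((List.range 16).find? fun w => app C w == v).getD 0

/-- The code of the inverse substitution. -/
def inv (C : ℕ) : ℕ := code (pre C 1) (pre C 2) (pre C 4) (pre C 8)

/-- The stabilizer of `1` coming from the centralizer. -/
def stab : List ℕ :=
  [9457, 10305, 12161, 17025, 18673, 20257, 33521, 33825, 36673, 62017, 62593, 63521]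

/-- A substitution that fixes `1` outside the stabilizer. -/
def bad (C : ℕ) : Bool := app C 1 == 1 && !stab.contains C

/-- A short word in `C` and the stabilizer is bad. -/
def viol (C : ℕ) : Bool :=
  stab.any fun m => bad (comp (comp C m) C) || bad (comp (comp C m) (inv C)) || bad (comp (comp (inv C) m) C)

/-- Representatives of the substitutions that send `1` to the given vector and survive. -/
def reps (o : ℕ) : List ℕ :=
  if o = 2 then [33810, 62482, 42546, 54834]
  else if o = 3 then [38163, 58643, 42531, 54819]
  else [47750, 64646, 60054, 56470]

/-- All images are different. -/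
def injB (C : ℕ) : Bool := (List.range 16).all fun v => v == 0 || app C v != 0

/-- Every substitution sending `1` to `o` is bad or equivalent to a representative. -/
def sieveB (o : ℕ) : Bool :=
  (List.range 16).all fun b => (List.range 16).all fun c => (List.range 16).all fun d =>
    !injB (code o b c d) || viol (code o b c d) || stab.any fun m => (reps o).contains (comp (code o b c d) m)

theorem sieve_two : sieveB 2 = true := by decide +kernel

theorem sieve_three : sieveB 3 = true := by decide +kernel

theorem sieve_six : sieveB 6 = true := by decide +kernel

/-- Two representatives generate a bad word. -/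
def pairB (p q : ℕ) : Bool :=
  (reps p).all fun a => (reps q).all fun b => stab.any fun m =>
    (bad (comp (comp a m) b) || viol (comp (comp a m) b)) ||
      (bad (comp (comp (inv a) m) b) || viol (comp (comp (inv a) m) b))

theorem pair_check : pairB 2 3 = true ∧ pairB 2 6 = true ∧ pairB 3 6 = true := by decide +kernel

/-- The representatives sending `1` to `6` do not preserve the seven-point set. -/
theorem seven_check : ∀ a ∈ reps 6, ∃ v ∈ [1, 6, 7, 10, 11, 12, 13], app a v ∉ [1, 6, 7, 10, 11, 12, 13] := by
  decide +kernel

end CfsgLib.SpCentInv.Lin
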