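import Cfsg.Agent.Lib.Recognition.SpCentInv.Model
import Cfsg.Agent.Lib.Recognition.SpCentInv.Linear

/-!
Finite facts about the group of codes.
-/

set_option autoImplicit false
set_option maxRecDepth 4000

namespace CfsgLib.SpCentInv

/-- The element with a given code. -/
def toK (n : ℕ) : K := if h : n < 576 then ⟨n, h⟩ else 1

/-- The central involution. -/
def z : K := toK Data.zN
/-- An outer involution. -/
def sg : K := toK Data.sgN
/-- An element of order three centralizing `z` and `sg`. -/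
def x : K := toK Data.xN
/-- A conjugate of `sg` in its elementary abelian group of order sixteen. -/
def s : K := toK Data.sN
/-- The image of `s` under `x`. -/
def s₃ : K := x * s * x⁻¹
/-- A conjugate of `sg` fixed by `x`. -/
def p : K := toK Data.pN
/-- The other conjugate of `sg` fixed by `x`. -/
def q : K := toK Data.qN

/-- The elementary abelian subgroup of order sixteen, as a list. -/
def aK : List K := Data.aList.map toK
/-- A Sylow two-subgroup, as a list. -/
def pK : List K := Data.pList.map toK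
/-- The class of `sg`. -/
def oneK : List K := Data.cOne.map toK
/-- The other noncentral involutions. -/
def restK : List K := Data.cRest.map toK
/-- The centralizer of `sg`, as a list. -/
def csK : List K := Data.csList.map toK

/-- The elements of `aK` in coordinates for the basis `z`, `sg`, `s`, `s₃`. -/
def el (v : ℕ) : K :=
  toK (([0, 360, 1, 361, 99, 27, 98, 26, 479, 359, 478, 358, 254, 566, 255, 567] : List ℕ).getD v 0)

theorem z_central : ∀ k : K, z * k = k * z := by decide +kernel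

theorem z_ne : z ≠ 1 ∧ z * z = 1 ∧ sg ≠ 1 ∧ sg * sg = 1 ∧ sg ≠ z := by decide +kernel

theorem center_unique : ∀ k : K, k * k = 1 → k * x = x * k → k * s = s * k → k * p = p * k → k = 1 ∨ k = z := by
  decide +kernel

theorem involution_cases : ∀ k : K, k * k = 1 → k = 1 ∨ k = z ∨ k ∈ oneK ∨ k ∈ restK := by
  decide +kernel

theorem oneK_spec : ∀ k ∈ oneK, k * k = 1 ∧ k ≠ 1 ∧ k ≠ z ∧ k ∉ restK := by decide +kernel

theorem restK_spec : ∀ k ∈ restK, k * k = 1 ∧ k ≠ 1 ∧ k ≠ z := by decide +kernel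

theorem oneK_conj_sg : ∀ k ∈ oneK, ∃ g : K, g * sg * g⁻¹ = k := by decide +kernel

theorem into_a : ∀ k : K, k ∈ oneK ∨ k ∈ restK → ∃ g : K, g * k * g⁻¹ ∈ aK := by
  decide +kernel

theorem oneK_conj : ∀ k ∈ oneK, ∀ g : K, g * k * g⁻¹ ∈ oneK := by decide +kernel

theorem aK_spec : ∀ a ∈ aK, ∀ b ∈ aK, a * b ∈ aK ∧ a * b = b * a ∧ a * a = 1 := by decide +kernel

theorem one_mem_aK : (1 : K) ∈ aK ∧ z ∈ aK ∧ sg ∈ aK ∧ s ∈ aK ∧ s₃ ∈ aK := by decide +kernel

theorem aK_nodup : aK.Nodup ∧ aK.length = 16 := by decide +kernel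

theorem aK_self : ∀ k : K, k * sg = sg * k → k * s = s * k → k * s₃ = s₃ * k → k ∈ aK := by
  decide +kernel

theorem el_spec : (∀ v < 16, el v ∈ aK) ∧ (∀ k ∈ aK, ∃ v < 16, el v = k) ∧
    (∀ v < 16, ∀ w < 16, el (v ^^^ w) = el v * el w) ∧ (∀ v < 16, ∀ w < 16, el v = el w → v = w) := by
  decide +kernel

theorem el_values : el 0 = 1 ∧ el 1 = z ∧ el 2 = sg ∧ el 4 = s ∧ el 8 = s₃ ∧ el 15 = x * s₃ * x⁻¹ := by
  decide +kernel

theorem el_oneK : ∀ v < 16, el v ∈ oneK ↔ v ∈ [2, 4, 8, 15] := by decide +kernel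

theorem el_restK : ∀ v < 16, el v ∈ restK ↔ v ∈ [3, 5, 9, 14, 6, 7, 10, 11, 12, 13] := by decide +kernel

/-- The normalizer of `aK`, as a predicate. -/
def NormA (k : K) : Prop := ∀ a ∈ aK, k * a * k⁻¹ ∈ aK

instance : DecidablePred NormA := fun k => inferInstanceAs (Decidable (∀ a ∈ aK, k * a * k⁻¹ ∈ aK))

theorem normA_card : (Finset.univ.filter NormA).card = 192 := by decide +kernel

theorem normA_orbit : ∀ o ∈ [[2, 4, 8, 15], [3, 5, 9, 14], [6, 7, 10, 11, 12, 13]], ∀ v ∈ (o : List ℕ),
    ∀ w ∈ o, ∃ k : K, NormA k ∧ k * el v * k⁻¹ = el w := by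
  decide +kernel

theorem normA_code : ∀ k : K, NormA k → ∃ m ∈ Lin.stab,
    k * el 1 * k⁻¹ = el (Lin.app m 1) ∧ k * el 2 * k⁻¹ = el (Lin.app m 2) ∧
    k * el 4 * k⁻¹ = el (Lin.app m 4) ∧ k * el 8 * k⁻¹ = el (Lin.app m 8) := by
  decide +kernel

theorem stab_code : ∀ m ∈ Lin.stab, ∃ k : K, NormA k ∧
    k * el 1 * k⁻¹ = el (Lin.app m 1) ∧ k * el 2 * k⁻¹ = el (Lin.app m 2) ∧
    k * el 4 * k⁻¹ = el (Lin.app m 4) ∧ k * el 8 * k⁻¹ = el (Lin.app m 8) := by
  decide +kernel

theorem pK_spec : (∀ a ∈ pK, ∀ b ∈ pK, a * b ∈ pK) ∧ (∀ a ∈ pK, a⁻¹ ∈ pK) ∧ (1 : K) ∈ pK ∧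
    (∀ a ∈ aK, a ∈ pK) ∧ pK.Nodup ∧ pK.length = 64 := by
  decide +kernel

theorem pK_center : ∀ k ∈ pK, (∀ b ∈ pK, k * b = b * k) → k = 1 ∨ k = z := by decide +kernel

theorem pK_oneK : ∀ k ∈ pK, k ∈ oneK → k ∈ aK := by decide +kernel

/-- The involutions of the Sylow two-subgroup. -/
def invP : List K := pK.filter fun k => k * k = 1 && !decide (k = 1)

/-- A list version of the statement on elementary abelian subgroups of the Sylow two-subgroup. -/
def elemB : Bool :=
  (invP.filter fun a => !decide (a ∈ aK)).all fun a =>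
    (invP.filter fun b => decide (b ≠ a) && decide (a * b = b * a)).all fun b =>
      (invP.filter fun c => decide (c ≠ a) && decide (c ≠ b) && decide (c ≠ a * b) && decide (a * c = c * a) &&
          decide (b * c = c * b)).all fun c =>
        (invP.filter fun d => decide (a * d = d * a) && decide (b * d = d * b) && decide (c * d = d * c)).all
          fun d => decide (d ∈ [a, b, a * b, c, a * c, b * c, a * b * c])

theorem elemB_true : elemB = true := by decide +kernel

theorem pK_elementary {a b c d : K} (ha : a ∈ invP) (haA : a ∉ aK) (hb : b ∈ invP) (hba : b ≠ a)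
    (hab : a * b = b * a) (hc : c ∈ invP) (hca : c ≠ a) (hcb : c ≠ b) (hcab : c ≠ a * b) (hac : a * c = c * a)
    (hbc : b * c = c * b) (hd : d ∈ invP) (had : a * d = d * a) (hbd : b * d = d * b) (hcd : c * d = d * c) :
    d ∈ [a, b, a * b, c, a * c, b * c, a * b * c] := by
  have h := elemB_true
  simp only [elemB, List.all_eq_true, List.mem_filter, Bool.and_eq_true, decide_eq_true_eq,
    Bool.not_eq_true', decide_eq_false_iff_not] at h
  exact h a ⟨ha, haA⟩ b ⟨hb, hba, hab⟩ c ⟨hc, ⟨⟨⟨hca, hcb⟩, hcab⟩, hac⟩, hbc⟩ d ⟨hd, ⟨had, hbd⟩, hcd⟩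

theorem oneK_trans : ∀ a ∈ oneK, ∀ b ∈ oneK, a * b = b * a → ∀ c ∈ oneK, b * c = c * b → a * c = c * a := by
  decide +kernel

theorem oneK_four : ∀ a ∈ oneK, (oneK.filter fun b => !decide (a * b = b * a)).length = 8 := by
  decide +kernel

theorem oneK_nodup : oneK.Nodup ∧ oneK.length = 12 ∧ restK.Nodup := by decide +kernel

theorem oneK_lines : ∀ a ∈ oneK, a * sg = sg * a ∨ a * p = p * a ∨ a * q = q * a := by decide +kernel

theorem x_fix : x * z = z * x ∧ x * sg = sg * x ∧ x * p = p * x ∧ x * q = q * x ∧ x ^ 3 = 1 ∧ x ≠ 1 ∧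
    sg ∈ oneK ∧ p ∈ oneK ∧ q ∈ oneK ∧ s ∈ oneK ∧ ¬ p * sg = sg * p ∧ ¬ p * q = q * p := by
  decide +kernel

theorem x_line : ∀ a ∈ oneK, a * (x * a * x⁻¹) = x * a * x⁻¹ * a := by decide +kernel

theorem x_fixed : ∀ a ∈ oneK, x * a = a * x → a = sg ∨ a = p ∨ a = q := by decide +kernel

theorem csK_spec : ∀ k : K, k * sg = sg * k ↔ k ∈ csK := by decide +kernel

theorem csK_nodup : csK.Nodup ∧ csK.length = 48 := by decide +kernel

theorem csK_normA : ∀ k ∈ csK, NormA k := by decide +kernel

theorem csK_tau : ∀ k : K, k * (z * sg) = z * sg * k ↔ k * sg = sg * k := by decide +kernel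

theorem csK_sylow_three : ∀ k ∈ csK, k * k * k = 1 → k ≠ 1 →
    ∃ c ∈ csK, c * k * c⁻¹ = x ∨ c * k * c⁻¹ = x * x := by
  decide +kernel

theorem csK_odd : ∀ k ∈ csK, k * k * k = 1 → k ≠ 1 →
    ∃ c ∈ csK, c * k * c⁻¹ ≠ k ∧ c * k * c⁻¹ ≠ k * k := by
  decide +kernel

theorem csK_fix_x : ∀ k ∈ csK, NormA k → k * x = x * k → k * s = s * k →
    k = 1 ∨ k = z ∨ k = sg ∨ k = z * sg := by
  decide +kernel

/-- The twist by the central involution on the outer coset. -/
def twist (k : K) : K := if k.val % 2 = 1 then k * z else k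

theorem twist_spec : (∀ k : K, twist (twist k) = k) ∧ twist z = z ∧ (∀ a ∈ aK, twist a ∈ aK) ∧
    twist (el 3) = el 2 := by
  decide +kernel

theorem normN_mod {a b e : ℕ} (he : e < 2) : normN a b e % 2 = e := by
  unfold normN; omega

theorem mul_parity (k l : K) : (k * l).val % 2 = (k.val % 2 + l.val % 2) % 2 := by
  show mulN k.val l.val % 2 = _
  unfold mulN
  split <;> rw [normN_mod (by omega)] <;> omega

theorem twist_mul (k l : K) : twist (k * l) = twist k * twist l := by
  have h := mul_parity k l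
  have hz := z_central
  have hzz := z_ne.2.1
  unfold twist
  rcases Nat.mod_two_eq_zero_or_one k.val with hk | hk <;>
    rcases Nat.mod_two_eq_zero_or_one l.val with hl | hl <;> simp only [hk, hl] at h <;>
    simp only [h, hk, hl]
  · simp
  · simp [mul_assoc]
  · simp [mul_assoc, hz]
  · simp only [show (1 + 1) % 2 = 0 from rfl, zero_ne_one, if_false, if_true]
    rw [mul_assoc k z, ← mul_assoc z l z, hz l, mul_assoc l z z, hzz, mul_one]

theorem stab_columns : ∀ m ∈ Lin.stab,
    Lin.code (Lin.app m 1) (Lin.app m 2) (Lin.app m 4) (Lin.app m 8) = m := by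
  decide +kernel

theorem el_sigma : el 3 = z * sg ∧ el 3 ∈ restK := by decide +kernel

/-- The twist as an automorphism. -/
def twistEquiv : K ≃* K where
  toFun := twist
  invFun := twist
  left_inv := twist_spec.1
  right_inv := twist_spec.1
  map_mul' := twist_mul

/-- The value of a word in `x`, `s`, `p`. -/
def wordVal : List ℕ → K
  | [] => 1
  | a :: l => ([x, s, p].getD a 1) * wordVal l

theorem wordList_spec : ∀ k : K, wordVal (Data.wordList.getD k.val []) = k := by decide +kernel

theorem gens_top : Subgroup.closure ({x, s, p} : Set K) = ⊤ := by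
  refine eq_top_iff.2 fun k _ => ?_
  rw [← wordList_spec k]
  induction Data.wordList.getD k.val [] with
  | nil => exact one_mem _
  | cons a l ih =>
    refine mul_mem ?_ ih
    rcases a with _ | _ | _ | a
    · exact Subgroup.subset_closure (by simp)
    · exact Subgroup.subset_closure (by simp)
    · exact Subgroup.subset_closure (by simp)
    · simp

/-- The number of pairs counted at the central involution. -/
theorem pairs_center : (((z :: oneK).product restK).filter fun u =>
    (List.range 12).any fun k => decide ((u.1 * u.2) ^ (k + 1) = z)).length = 108 := by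
  decide +kernel

end CfsgLib.SpCentInv
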