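import Cfsg.Agent.Lib.Recognition.CosetCert

/-!
A coset certificate checker for four generators whose final table is packed in one number and whose
known entries are a bit mask.
-/

set_option autoImplicit false

namespace CfsgLib.SpCentInv.FastCert

open CfsgLib.CosetCert

/-- The image of coset `v` under generator `a`. -/
def tget (T v a : ℕ) : ℕ := (T >>> (9 * (4 * v + a))) % 512

/-- Whether an entry is known. -/
def known (M v a : ℕ) : Bool := decide (a < 4) && M.testBit (4 * v + a)

/-- Record an entry. -/
def mark (M v a : ℕ) : ℕ := M ||| (2 ^ (4 * v + a))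

/-- Follow a word through the known entries. -/
def walkT (T M : ℕ) : ℕ → List ℕ → Option ℕ
  | v, [] => some v
  | v, a :: l => if known M v a then walkT T M (tget T v a) l else none

/-- Mark the entries holding by the choice of representatives. -/
def initT (hgens : List ℕ) (words : List (List ℕ)) (T : ℕ) : List (ℕ × ℕ) → ℕ → Option ℕ
  | [], M => some M
  | e :: l, M =>
      if decide (e.2 < 4) && initial hgens words (e.1, e.2, tget T e.1 e.2)
      then initT hgens words T l (mark M e.1 e.2) else none

/-- Deduce the last edges of scans of rotated relators. -/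
def scanT (rels : List (List ℕ)) (T : ℕ) : List (ℕ × ℕ × ℕ) → ℕ → Option ℕ
  | [], M => some M
  | s :: l, M =>
      let w := (rels.getD s.1 []).rotate s.2.1
      (w.getLast?).bind fun a => (walkT T M s.2.2 w.dropLast).bind fun u =>
        if decide (a < 4) && decide (tget T u a = s.2.2) then scanT rels T l (mark M u a) else none

/-- The whole check. -/
def check (hgens : List ℕ) (rels words : List (List ℕ)) (T : ℕ) (init : List (ℕ × ℕ))
    (steps : List (ℕ × ℕ × ℕ)) : Bool :=
  decide (0 < words.length) && (words.getD 0 [] == []) &&
    ((initT hgens words T init 0).bind (scanT rels T steps)).elim false fun M =>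
      (List.range words.length).all fun v => (List.range 4).all fun a =>
        known M v a && decide (tget T v a < words.length)

variable {G : Type*} [Group G] {g : ℕ → G} {H : Subgroup G}

variable (g H) in
/-- All known entries are valid. -/
def Good (words : List (List ℕ)) (T M : ℕ) : Prop :=
  ∀ v a, known M v a = true → Valid g H words (v, a, tget T v a)

theorem good_mark {words : List (List ℕ)} {T M v a : ℕ} (ha : a < 4) (hM : Good g H words T M)
    (h : Valid g H words (v, a, tget T v a)) : Good g H words T (mark M v a) := by
  intro v' a' hk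
  simp only [known, mark, Bool.and_eq_true, decide_eq_true_eq, Nat.testBit_lor, Bool.or_eq_true] at hk
  obtain ⟨ha', hk | hk⟩ := hk
  · exact hM v' a' (by simp [known, ha', hk])
  · rw [Nat.testBit_two_pow, decide_eq_true_eq] at hk
    obtain rfl : v = v' := by omega
    obtain rfl : a = a' := by omega
    exact h

theorem good_init {hgens : List ℕ} {words : List (List ℕ)} {T : ℕ} (hH : ∀ a ∈ hgens, g a ∈ H) :
    ∀ (l : List (ℕ × ℕ)) {M M' : ℕ}, Good g H words T M → initT hgens words T l M = some M' →
      Good g H words T M'
  | [], M, M', hM, h => by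
    simp only [initT, Option.some.injEq] at h
    exact h ▸ hM
  | e :: l, M, M', hM, h => by
    simp only [initT] at h
    split at h
    · next hc =>
      simp only [Bool.and_eq_true, decide_eq_true_eq] at hc
      exact good_init hH l (good_mark hc.1 hM (valid_of_initial hH hc.2)) h
    · simp at h

theorem walkT_spec {words : List (List ℕ)} {T M : ℕ} (hM : Good g H words T M) :
    ∀ (l : List ℕ) {v u : ℕ}, walkT T M v l = some u →
      eval g (words.getD v []) * eval g l * (eval g (words.getD u []))⁻¹ ∈ H := by
  intro l
  induction l with
  | nil =>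
    intro v u h
    obtain rfl : v = u := by simpa [walkT] using h
    simp [eval_nil]
  | cons a l ih =>
    intro v u h
    simp only [walkT] at h
    split at h
    · next hk =>
      have h2 := H.mul_mem (hM v a hk) (ih h)
      simp only at h2
      rw [eval_cons]
      convert h2 using 1
      group
    · simp at h

theorem good_scan {words rels : List (List ℕ)} {T : ℕ} (hrel : ∀ w ∈ rels, eval g w = 1) :
    ∀ (l : List (ℕ × ℕ × ℕ)) {M M' : ℕ}, Good g H words T M → scanT rels T l M = some M' →
      Good g H words T M'
  | [], M, M', hM, h => by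
    simp only [scanT, Option.some.injEq] at h
    exact h ▸ hM
  | s :: l, M, M', hM, h => by
    simp only [scanT, Option.bind_eq_some_iff] at h
    obtain ⟨a, ha, u, hu, hif⟩ := h
    split at hif
    · next hc =>
      simp only [Bool.and_eq_true, decide_eq_true_eq] at hc
      refine good_scan hrel l (good_mark hc.1 hM ?_) hif
      have hw : eval g ((rels.getD s.1 []).rotate s.2.1) = 1 := by
        rcases lt_or_ge s.1 rels.length with hs | hs
        · rw [List.getD_eq_getElem _ _ hs, eval, List.map_rotate]
          exact List.prod_rotate_eq_one_of_prod_eq_one (hrel _ (List.getElem_mem hs)) _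
        · rw [List.getD_eq_default _ _ hs] at ha
          simp at ha
      rw [← List.dropLast_append_getLast? a ha, eval_append, eval_singleton] at hw
      have h1 := walkT_spec hM _ hu
      rw [eq_inv_of_mul_eq_one_left hw] at h1
      simp only [Valid, hc.2]
      convert H.inv_mem h1 using 1
      group
    · simp at hif

/-- The bound on the group order given by a successful check. -/
theorem card_le [Finite G] {hgens : List ℕ} {rels words : List (List ℕ)} {T : ℕ} {init : List (ℕ × ℕ)}
    {steps : List (ℕ × ℕ × ℕ)} (hH : ∀ a ∈ hgens, g a ∈ H) (hrel : ∀ w ∈ rels, eval g w = 1)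
    (hcheck : check hgens rels words T init steps = true)
    (hgen : Subgroup.closure (g '' {a | a < 4}) = ⊤) :
    Nat.card G ≤ words.length * Nat.card H := by
  simp only [check, Bool.and_eq_true, decide_eq_true_eq, beq_iff_eq] at hcheck
  obtain ⟨⟨hpos, h0⟩, hrest⟩ := hcheck
  rcases hM : (initT hgens words T init 0).bind (scanT rels T steps) with - | M
  · rw [hM] at hrest; simp at hrest
  rw [hM] at hrest
  simp only [Option.elim, List.all_eq_true, List.mem_range, Bool.and_eq_true, decide_eq_true_eq] at hrest
  obtain ⟨M₀, hM₀, hM₁⟩ := Option.bind_eq_some_iff.1 hM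
  have hgood : Good g H words T M := good_scan hrel steps
    (good_init hH init (fun v a h => by simp [known] at h) hM₀) hM₁
  let S : Set G := {x | ∃ v < words.length, x * (eval g (words.getD v []))⁻¹ ∈ H}
  have hmul : ∀ a < 4, ∀ x ∈ S, x * g a ∈ S := by
    rintro a ha x ⟨v, hv, hx⟩
    obtain ⟨hk, hlt⟩ := hrest v hv a ha
    refine ⟨_, hlt, ?_⟩
    have h2 := H.mul_mem hx (hgood v a hk)
    simp only [] at h2
    convert h2 using 1
    group
  have hpow : ∀ a < 4, ∀ (m : ℕ), ∀ x ∈ S, x * g a ^ m ∈ S := by
    intro a ha m
    induction m with
    | zero => intro x hx; simpa using hx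
    | succ m ih => intro x hx; rw [pow_succ, ← mul_assoc]; exact hmul a ha _ (ih x hx)
  have hS : ∀ x, x ∈ S := by
    intro x
    have hx : x ∈ Subgroup.closure (g '' {a | a < 4}) := hgen ▸ Subgroup.mem_top x
    induction hx using Subgroup.closure_induction_right with
    | one => exact ⟨0, hpos, by rw [h0, eval_nil]; simp⟩
    | mul_right y _ w hw ih =>
      obtain ⟨a, ha, rfl⟩ := hw
      exact hmul a ha y ih
    | mul_inv_cancel y _ w hw ih =>
      obtain ⟨a, ha, rfl⟩ := hw
      have h1 : g a ^ (orderOf (g a) - 1) * g a = 1 := by
        rw [← pow_succ, Nat.sub_add_cancel (orderOf_pos (g a)), pow_orderOf_eq_one]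
      rw [← eq_inv_of_mul_eq_one_left h1]
      exact hpow a ha _ y ih
  let f : Fin words.length × H → G := fun p => (p.2 : G) * eval g (words.getD p.1 [])
  have hf : Function.Surjective f := by
    intro x
    obtain ⟨v, hv, hx⟩ := hS x
    exact ⟨(⟨v, hv⟩, ⟨_, hx⟩), inv_mul_cancel_right x _⟩
  have := Nat.card_le_card_of_surjective f hf
  simpa [Nat.card_prod] using this

end CfsgLib.SpCentInv.FastCert
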