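import Cfsg.Agent.Lib.Recognition.SpCentInv.Order

/-!
The commuting graph on the forty five conjugates of the involution.
-/

set_option autoImplicit false
set_option linter.unusedSectionVars false
set_option maxRecDepth 4000

namespace CfsgLib.SpCentInv

open Subgroup

theorem oneK_line_rep : ∀ a ∈ oneK, ∀ b ∈ oneK,
    (if a * sg = sg * a then sg else if a * p = p * a then p else q) =
      (if b * sg = sg * b then sg else if b * p = p * b then p else q) → a * b = b * a := by
  decide +kernel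

theorem line_nodup : ([sg, p, q] : List K).Nodup := by decide +kernel

namespace Hyp

variable {G : Type*} [Group G] [Finite G] (S : Hyp G) (hσ : IsConj S.t (S.φ sg))
include hσ

theorem card_conj : Nat.card {a : G // IsConj S.t a} = 45 := by
  classical
  let f : G ⧸ centralizer ({S.t} : Set G) → {a : G // IsConj S.t a} :=
    Quotient.lift (fun g => ⟨g * S.t * g⁻¹, isConj_iff.2 ⟨g, rfl⟩⟩) (by
      intro a b h
      have h' := mem_centralizer_singleton_iff.1 (QuotientGroup.leftRel_apply.1 h)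
      refine Subtype.ext ?_
      calc a * S.t * a⁻¹ = a * (S.t * (a⁻¹ * b)) * b⁻¹ := by group
        _ = a * (a⁻¹ * b * S.t) * b⁻¹ := by rw [h']
        _ = b * S.t * b⁻¹ := by group)
  have hf : Function.Bijective f := by
    constructor
    · intro a b
      induction a using QuotientGroup.induction_on with
      | _ a =>
      induction b using QuotientGroup.induction_on with
      | _ b =>
      intro h
      have h' : a * S.t * a⁻¹ = b * S.t * b⁻¹ := congrArg Subtype.val h
      refine QuotientGroup.eq.2 (mem_centralizer_singleton_iff.2 ?_)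
      calc a⁻¹ * b * S.t = a⁻¹ * (b * S.t * b⁻¹) * b := by group
        _ = a⁻¹ * (a * S.t * a⁻¹) * b := by rw [h']
        _ = S.t * (a⁻¹ * b) := by group
    · rintro ⟨a, ha⟩
      obtain ⟨c, rfl⟩ := isConj_iff.1 ha
      exact ⟨QuotientGroup.mk c, rfl⟩
  rw [← Nat.card_congr (Equiv.ofBijective f hf)]
  have h := card_mul_index (centralizer ({S.t} : Set G))
  rw [S.card_cent, S.card_eq hσ, Subgroup.index] at h
  omega

/-- The neighbours of a conjugate of `t`. -/
theorem neighbour_iff (c : G) (b : G) :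
    (IsConj S.t b ∧ b * (c * S.t * c⁻¹) = c * S.t * c⁻¹ * b ∧ b ≠ c * S.t * c⁻¹) ↔
      ∃ l ∈ oneK, c * S.φ l * c⁻¹ = b := by
  constructor
  · rintro ⟨h1, h2, h3⟩
    obtain ⟨l, hl⟩ := S.exists_eq (g := c⁻¹ * b * c) (by
      calc c⁻¹ * b * c * S.t = c⁻¹ * (b * (c * S.t * c⁻¹)) * c := by group
        _ = c⁻¹ * (c * S.t * c⁻¹ * b) * c := by rw [h2]
        _ = S.t * (c⁻¹ * b * c) := by group)
    have hb : c * S.φ l * c⁻¹ = b := by rw [hl]; group
    have hlc : IsConj S.t (S.φ l) := h1.trans (isConj_iff.2 ⟨c, hb⟩ : IsConj (S.φ l) b).symm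
    rcases (S.isConj_phi_iff hσ l).1 hlc with e | e
    · exact absurd (by rw [← hb, e, S.map_z]) h3
    · exact ⟨l, e, hb⟩
  · rintro ⟨l, hl, rfl⟩
    refine ⟨((S.isConj_phi_iff hσ l).2 (Or.inr hl)).trans (isConj_iff.2 ⟨c, rfl⟩), ?_, ?_⟩
    · calc c * S.φ l * c⁻¹ * (c * S.t * c⁻¹) = c * (S.φ l * S.t) * c⁻¹ := by group
        _ = c * (S.t * S.φ l) * c⁻¹ := by rw [S.commute_t]
        _ = c * S.t * c⁻¹ * (c * S.φ l * c⁻¹) := by group
    · intro h
      have := mul_left_cancel (mul_right_cancel h)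
      rw [← S.map_z] at this
      exact (oneK_spec l hl).2.2.1 (S.inj this)

omit hσ in
theorem conj_commute_iff (c a b : G) :
    c * a * c⁻¹ * (c * b * c⁻¹) = c * b * c⁻¹ * (c * a * c⁻¹) ↔ a * b = b * a := by
  rw [show c * a * c⁻¹ * (c * b * c⁻¹) = c * (a * b) * c⁻¹ by group,
    show c * b * c⁻¹ * (c * a * c⁻¹) = c * (b * a) * c⁻¹ by group, mul_left_inj, mul_right_inj]

/-- Two distinct neighbours in common of two noncommuting conjugates do not commute. -/
theorem common_noncommute {k l : K} (hk : k ∈ oneK) (hl : l ∈ oneK) (hkl : k * l = l * k) {b : G}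
    (hb : IsConj S.t b) (hbt : b * S.t ≠ S.t * b) (hbk : S.φ k * b = b * S.φ k)
    (hbl : S.φ l * b = b * S.φ l) : k = l := by
  by_contra hne
  obtain ⟨c, hc⟩ := isConj_iff.1 ((S.isConj_phi_iff hσ k).2 (Or.inr hk))
  have hbne : b ≠ S.φ k := fun e => hbt (e ▸ S.commute_t k)
  obtain ⟨b', hb', eb⟩ := (S.neighbour_iff hσ c b).1 ⟨hb, by rw [hc, hbk], by rwa [hc]⟩
  obtain ⟨t', ht', et⟩ := (S.neighbour_iff hσ c S.t).1 ⟨IsConj.refl _, by rw [hc, S.commute_t], by
    rw [hc, ← S.map_z]; exact fun e => (oneK_spec k hk).2.2.1 (S.inj e).symm⟩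
  obtain ⟨l', hl', el'⟩ := (S.neighbour_iff hσ c (S.φ l)).1 ⟨(S.isConj_phi_iff hσ l).2 (Or.inr hl), by
    rw [hc, ← map_mul, ← map_mul, hkl], by rw [hc]; exact fun e => hne (S.inj e).symm⟩
  refine hbt ?_
  rw [← eb, ← et, conj_commute_iff, ← map_mul, ← map_mul]
  refine congrArg S.φ (oneK_trans b' hb' l' hl' ?_ t' ht' ?_) <;> refine S.inj ?_ <;>
    rw [map_mul, map_mul, ← conj_commute_iff c]
  · rw [eb, el', hbl]
  · rw [et, el', S.commute_t]

theorem far_commute {k : K} (hk : k ∈ oneK) :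
    Nat.card {b : G // (IsConj S.t b ∧ b * S.t ≠ S.t * b) ∧ S.φ k * b = b * S.φ k} = 8 := by
  obtain ⟨c, hc⟩ := isConj_iff.1 ((S.isConj_phi_iff hσ k).2 (Or.inr hk))
  obtain ⟨t', ht', et⟩ := (S.neighbour_iff hσ c S.t).1 ⟨IsConj.refl _, by rw [hc, S.commute_t], by
    rw [hc, ← S.map_z]; exact fun e => (oneK_spec k hk).2.2.1 (S.inj e).symm⟩
  have hiff : ∀ l : K, c * S.φ l * c⁻¹ * S.t = S.t * (c * S.φ l * c⁻¹) ↔ t' * l = l * t' := by
    intro l
    rw [← et, conj_commute_iff, ← map_mul, ← map_mul, S.inj.eq_iff, eq_comm]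
  rw [← oneK_four t' ht']
  refine card_image_list _ (oneK_nodup.1.filter _) (fun l => c * S.φ l * c⁻¹)
    (fun a _ b _ h => S.inj (mul_left_cancel (mul_right_cancel h))) _ fun b => ?_
  constructor
  · rintro ⟨⟨h1, h2⟩, h3⟩
    obtain ⟨l, hl, rfl⟩ := (S.neighbour_iff hσ c b).1 ⟨h1, by rw [hc, h3], by
      rw [hc]; exact fun e => h2 (e ▸ S.commute_t k)⟩
    exact ⟨l, List.mem_filter.2 ⟨hl, by simpa using fun e => h2 ((hiff l).2 e)⟩, rfl⟩
  · rintro ⟨l, hl, rfl⟩
    obtain ⟨hl1, hl2⟩ := List.mem_filter.1 hl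
    obtain ⟨h1, h2, -⟩ := (S.neighbour_iff hσ c _).2 ⟨l, hl1, rfl⟩
    refine ⟨⟨h1, fun e => ?_⟩, by rw [← hc, h2]⟩
    simp [(hiff l).1 e] at hl2

/-- Each line at `t` meets the neighbours of a conjugate not commuting with `t`. -/
theorem exists_line_neighbour {b : G} (hb : IsConj S.t b) (hbt : b * S.t ≠ S.t * b) :
    ∀ m ∈ [sg, p, q], ∃ k ∈ oneK, S.φ k * b = b * S.φ k ∧
      (if k * sg = sg * k then sg else if k * p = p * k then p else q) = m := by
  classical
  cases nonempty_fintype G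
  set O : Finset K := oneK.toFinset
  set F : Finset G := Finset.univ.filter fun b => IsConj S.t b ∧ b * S.t ≠ S.t * b with hF
  let R : K → G → Prop := fun k b => S.φ k * b = b * S.φ k
  let line : K → K := fun k => if k * sg = sg * k then sg else if k * p = p * k then p else q
  let L : Finset K := [sg, p, q].toFinset
  have hL : L.card = 3 := List.toFinset_card_of_nodup line_nodup
  have hmem : ∀ k, line k ∈ L := fun k => by
    simp only [L, line, List.mem_toFinset]
    split_ifs <;> simp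
  have hinj : ∀ b ∈ F, Set.InjOn line (O.filter (R · b) : Set K) := by
    intro b hb k hk l hl e
    simp only [O, Finset.coe_filter, List.mem_toFinset, Set.mem_ofPred_eq] at hk hl
    obtain ⟨-, hb1, hb2⟩ := Finset.mem_filter.1 hb
    exact S.common_noncommute hσ hk.1 hl.1 (oneK_line_rep k hk.1 l hl.1 e) hb1 hb2 hk.2 hl.2
  have hle : ∀ b ∈ F, (O.filter (R · b)).card ≤ 3 := fun b hb => by
    rw [← hL]
    exact Finset.card_le_card_of_injOn line (fun k _ => hmem k) (hinj b hb)
  have hO : O.card = 12 := by rw [List.toFinset_card_of_nodup oneK_nodup.1, oneK_nodup.2.1]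
  have hFcard : F.card = 32 := by
    have h45 : (Finset.univ.filter fun b => IsConj S.t b).card = 45 := by
      rw [← S.card_conj hσ, Nat.card_eq_fintype_card, Fintype.card_subtype]
    have hnear : (Finset.univ.filter fun b => IsConj S.t b).filter (fun b => ¬ b * S.t ≠ S.t * b) =
        (z :: oneK).toFinset.image S.φ := by
      ext b
      simp only [Finset.mem_filter, Finset.mem_univ, true_and, Finset.mem_image, List.mem_toFinset, not_not,
        List.mem_cons]
      constructor
      · rintro ⟨h1, h2⟩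
        obtain ⟨k, rfl⟩ := S.exists_eq h2
        exact ⟨k, (S.isConj_phi_iff hσ k).1 h1, rfl⟩
      · rintro ⟨k, hk, rfl⟩
        exact ⟨(S.isConj_phi_iff hσ k).2 hk, S.commute_t k⟩
    have h := Finset.card_filter_add_card_filter_not (s := Finset.univ.filter fun b => IsConj S.t b)
      (fun b => b * S.t ≠ S.t * b)
    rw [h45, hnear, Finset.card_image_of_injective _ S.inj, List.toFinset_card_of_nodup
      (List.nodup_cons.2 ⟨fun h => (oneK_spec z h).2.2.1 rfl, oneK_nodup.1⟩), List.length_cons,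
      oneK_nodup.2.1, Finset.filter_filter] at h
    change F.card + 13 = 45 at h
    omega
  have hsum : ∑ b ∈ F, (O.filter (R · b)).card = ∑ _b ∈ F, 3 := by
    have h1 : ∑ b ∈ F, (O.filter (R · b)).card = ∑ k ∈ O, (F.filter (R k)).card := by
      simp only [Finset.card_filter]
      exact Finset.sum_comm
    have h2 : ∀ k ∈ O, (F.filter (R k)).card = 8 := by
      intro k hk
      rw [← S.far_commute hσ (List.mem_toFinset.1 hk), Nat.card_eq_fintype_card, Fintype.card_subtype,
        hF, Finset.filter_filter]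
    rw [h1, Finset.sum_congr rfl h2, Finset.sum_const, Finset.sum_const, hO, hFcard]
    rfl
  have hbF : b ∈ F := Finset.mem_filter.2 ⟨Finset.mem_univ _, hb, hbt⟩
  have h3 := (Finset.sum_eq_sum_iff_of_le hle).1 hsum b hbF
  have himg : (O.filter (R · b)).image line = L := by
    refine Finset.eq_of_subset_of_card_le (fun a ha => ?_) ?_
    · obtain ⟨k, -, rfl⟩ := Finset.mem_image.1 ha
      exact hmem k
    · rw [Finset.card_image_of_injOn (hinj b hbF), h3, hL]
  intro m hm
  have : m ∈ (O.filter (R · b)).image line := himg ▸ List.mem_toFinset.2 hm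
  obtain ⟨k, hk, e⟩ := Finset.mem_image.1 this
  obtain ⟨hk1, hk2⟩ := Finset.mem_filter.1 hk
  exact ⟨k, List.mem_toFinset.1 hk1, hk2, e⟩

/-- The last relation: the fixed point `p` commutes with its image under the swap. -/
theorem relation_p {g : G} (hg : S.Swap g) :
    S.φ p * (g * S.φ p * g) = g * S.φ p * g * S.φ p := by
  obtain ⟨-, -, hxp, -, -, -, -, hp1, -, -, hpsg, hpq⟩ := x_fix
  set b := g * S.φ p * g with hbdef
  have hb : IsConj S.t b := ((S.isConj_phi_iff hσ p).2 (Or.inr hp1)).trans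
    (isConj_iff.2 ⟨g, by rw [hbdef, hg.inv]⟩)
  have hback : g * S.φ sg * g = S.t := by
    rw [← hg.map_t]
    calc g * (g * S.t * g) * g = g * g * S.t * (g * g) := by group
      _ = S.t := by rw [hg.sq, one_mul, mul_one]
  have hbt : b * S.t ≠ S.t * b := by
    intro h
    have h' : S.φ p * (g * S.t * g) = g * S.t * g * S.φ p := by
      calc S.φ p * (g * S.t * g) = g * (g * S.φ p * g * S.t) * g := by
            rw [show g * (g * S.φ p * g * S.t) * g = g * g * S.φ p * g * S.t * g by group, hg.sq]; group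
        _ = g * (S.t * (g * S.φ p * g)) * g := by rw [← hbdef, h]
        _ = g * S.t * g * S.φ p * (g * g) := by group
        _ = _ := by rw [hg.sq, mul_one]
    rw [hg.map_t, ← map_mul, ← map_mul] at h'
    exact hpsg (S.inj h')
  have hbx : S.φ x * b = b * S.φ x := by
    have h1 : S.φ (x * x) * S.φ p = S.φ p * S.φ (x * x) := by
      rw [← map_mul, ← map_mul, mul_assoc, hxp, ← mul_assoc, hxp, mul_assoc]
    rw [← hg.map_x] at h1
    calc S.φ x * b = g * (g * S.φ x * g * S.φ p) * g := by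
          rw [hbdef, show g * (g * S.φ x * g * S.φ p) * g = g * g * S.φ x * (g * S.φ p * g) by group, hg.sq,
            one_mul]
      _ = g * (S.φ p * (g * S.φ x * g)) * g := by rw [h1]
      _ = b * S.φ x * (g * g) := by rw [hbdef]; group
      _ = _ := by rw [hg.sq, mul_one]
  obtain ⟨k, hk, hkb, hkm⟩ := S.exists_line_neighbour hσ hb hbt p (by simp)
  have hxb : S.φ (x * k * x⁻¹) * b = b * S.φ (x * k * x⁻¹) := by
    have hbx' : b = S.φ x * b * (S.φ x)⁻¹ := by rw [hbx, mul_inv_cancel_right]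
    rw [← S.phi_conj, hbx', conj_commute_iff, hkb]
  have e := S.common_noncommute hσ hk (oneK_conj k hk x) (x_line k hk) hb hbt hkb hxb
  have hxk : x * k = k * x := by
    conv_rhs => rw [e]
    rw [inv_mul_cancel_right]
  have hkp : k = p := by
    have hnd := line_nodup
    simp only [List.nodup_cons, List.mem_cons, List.not_mem_nil, or_false, not_or] at hnd
    split_ifs at hkm with h1 h2
    · exact absurd hkm hnd.1.1
    · rcases x_fixed k hk hxk with rfl | rfl | rfl
      · exact absurd rfl h1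
      · rfl
      · exact absurd h2.symm hpq
    · exact absurd hkm.symm hnd.2.1
  rw [hkp] at hkb
  exact hkb

/-- The centralizer and the swap generate. -/
theorem closure_eq_top {g : G} (hg : S.Swap g) (M : Subgroup G) (hK : ∀ k, S.φ k ∈ M) (hgM : g ∈ M) :
    M = ⊤ := by
  let Orb : G → Prop := fun b => ∃ m ∈ M, m * S.t * m⁻¹ = b
  have hone : ∀ k ∈ oneK, Orb (S.φ k) := by
    intro k hk
    obtain ⟨c, hc⟩ := oneK_conj_sg k hk
    refine ⟨S.φ c * g, mul_mem (hK c) hgM, ?_⟩
    rw [show S.φ c * g * S.t * (S.φ c * g)⁻¹ = S.φ c * (g * S.t * g⁻¹) * (S.φ c)⁻¹ by group, hg.inv, hg.map_t,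
      S.phi_conj, hc]
  have hall : ∀ b, IsConj S.t b → Orb b := by
    intro b hb
    by_cases hbt : b * S.t = S.t * b
    · obtain ⟨k, rfl⟩ := S.exists_eq hbt
      rcases (S.isConj_phi_iff hσ k).1 hb with e | e
      · exact ⟨1, one_mem _, by rw [e, S.map_z, one_mul, inv_one, mul_one]⟩
      · exact hone k e
    · obtain ⟨k, hk, hkb, -⟩ := S.exists_line_neighbour hσ hb hbt p (by simp)
      obtain ⟨m, hm, hmk⟩ := hone k hk
      obtain ⟨l, hl, rfl⟩ := (S.neighbour_iff hσ m b).1 ⟨hb, by rw [hmk, hkb], by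
        rw [hmk]; exact fun e => hbt (e ▸ S.commute_t k)⟩
      obtain ⟨m', hm', hm'l⟩ := hone l hl
      exact ⟨m * m', mul_mem hm hm', by rw [← hm'l]; group⟩
  rw [eq_top_iff]
  intro c _
  obtain ⟨m, hm, hmc⟩ := hall _ (isConj_iff.2 ⟨c, rfl⟩)
  obtain ⟨k, hk⟩ := S.exists_eq (g := m⁻¹ * c) (by
    calc m⁻¹ * c * S.t = m⁻¹ * (c * S.t * c⁻¹) * c := by group
      _ = m⁻¹ * (m * S.t * m⁻¹) * c := by rw [hmc]
      _ = S.t * (m⁻¹ * c) := by group)
  rw [show c = m * S.φ k by rw [hk, mul_inv_cancel_left]]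
  exact mul_mem hm (hK k)

end Hyp

end CfsgLib.SpCentInv
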