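import Cfsg.Agent.Lib.Recognition.SpCentInv.Classes

/-!
Finite facts used for the centralizer of the second involution.
-/

set_option autoImplicit false
set_option maxRecDepth 4000

namespace CfsgLib.SpCentInv

/-- The code of the exchange of `z` with `sg`. -/
def swapCode : ℕ := Lin.code 2 1 8 4

/-- An element of the centralizer of `sg` in normal form. -/
def csEl (v i : ℕ) : K := el v * x ^ i

/-- The image of a normal form under the exchange. -/
def csImg (v i : ℕ) : K := el (Lin.app swapCode v) * x ^ (2 * i)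

theorem csEl_mem : ∀ v < 16, ∀ i < 3, csEl v i ∈ csK := by decide +kernel

theorem csEl_surj : ∀ k ∈ csK, ∃ v < 16, ∃ i < 3, csEl v i = k := by decide +kernel

theorem csEl_nodup : (((List.range 16).product (List.range 3)).map fun a => csEl a.1 a.2).Nodup := by
  decide +kernel

theorem csEl_inj {v i w j : ℕ} (hv : v < 16) (hi : i < 3) (hw : w < 16) (hj : j < 3)
    (h : csEl v i = csEl w j) : v = w ∧ i = j := by
  have := List.inj_on_of_nodup_map csEl_nodup (x := (v, i)) (List.mem_product.2 ⟨List.mem_range.2 hv, List.mem_range.2 hi⟩)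
    (y := (w, j)) (List.mem_product.2 ⟨List.mem_range.2 hw, List.mem_range.2 hj⟩) h
  exact ⟨congrArg Prod.fst this, congrArg Prod.snd this⟩

theorem csK_comm_odd : ∀ k ∈ csK, k ^ 9 = 1 → k ≠ 1 → ∃ c ∈ csK, (c * k * c⁻¹ * k⁻¹) ^ 9 ≠ 1 := by
  decide +kernel

theorem cs_rest_odd : ∀ v ∈ [6, 7, 10, 11, 12, 13], ∀ k : K, k * el v = el v * k → k ^ 9 = 1 → k = 1 := by
  decide +kernel

theorem xor_sigma : ∀ a ∈ [2, 4, 8, 15], ∀ b ∈ [2, 4, 8, 15], a ≠ b → a ^^^ b ∈ [6, 7, 10, 11, 12, 13] := by
  decide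

theorem csK_fusion : ∀ k ∈ csK, k ∈ oneK → k * (z * sg) ∈ oneK ∨ k * (z * sg) = z → k = sg := by
  decide +kernel

theorem transposition_bad : ∃ a ∈ Lin.stab, ∃ b ∈ Lin.stab,
    Lin.bad (Lin.comp (Lin.comp (Lin.comp (Lin.comp (Lin.code 2 1 4 8) a) (Lin.code 2 1 4 8)) b)
      (Lin.code 2 1 4 8)) = true := by
  decide +kernel

/-- Perms of `4`, `8`, `15` commuting with the three-cycle. -/
theorem three_cycle : x * el 4 * x⁻¹ = el 8 ∧ x * el 8 * x⁻¹ = el 15 ∧ x * el 15 * x⁻¹ = el 4 := by
  decide +kernel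

theorem x_conj_cases : ∀ v ∈ [4, 8, 15], ∀ w ∈ [4, 8, 15], ∃ i < 3, x ^ i * el v * (x ^ i)⁻¹ = el w := by
  decide +kernel

theorem x_pow_fix : ∀ i < 3, NormA (x ^ i) ∧ x ^ i * z = z * x ^ i ∧ x ^ i * sg = sg * x ^ i ∧
    x ^ i * x = x * x ^ i := by
  decide +kernel

/-- The pairs counted at the second involution, inside the centralizer of both. -/
def innerPairs : List (ℕ × ℕ × ℕ) :=
  (List.product [1, 2, 4, 8, 15] ((List.range 16).product (List.range 3))).filter fun a =>
    decide (csEl a.2.1 a.2.2 ∈ restK) &&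
      (List.range 12).any fun k => decide ((el a.1 * csEl a.2.1 a.2.2) ^ (k + 1) = z * sg)

/-- The pairs counted at the second involution, outside the centralizer of the first. -/
def outerPairs : List (ℕ × ℕ × ℕ) :=
  (List.product [1, 2, 4, 8, 15] ((List.range 16).product (List.range 3))).filter fun a =>
    decide (csImg a.2.1 a.2.2 = (csEl a.2.1 a.2.2)⁻¹) &&
      (List.range 16).any fun v' => decide (csEl a.2.1 a.2.2 * el a.1 * (csEl a.2.1 a.2.2)⁻¹ = el v') &&
        decide (el a.1 * el (Lin.app swapCode v') = z * sg)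

theorem innerPairs_length : innerPairs.length = 3 ∧ innerPairs.Nodup := by decide +kernel

theorem outerPairs_length : outerPairs.length = 24 ∧ outerPairs.Nodup := by decide +kernel

theorem five_values : ∀ v ∈ [1, 2, 4, 8, 15], v < 16 ∧ (el v = z ∨ el v ∈ oneK) := by decide +kernel

theorem oneK_in_aK : ∀ k ∈ oneK, k ∈ aK → ∃ v ∈ [2, 4, 8, 15], el v = k := by decide +kernel

end CfsgLib.SpCentInv
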