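import Cfsg.Agent.Lib.Recognition.SpCentInv.Setup
import Cfsg.Agent.Lib.Recognition.SpFourThree.Target

/-!
The codes as the centralizer of a central involution of `PSp₄(3)`.
-/

set_option autoImplicit false
set_option linter.unusedSectionVars false
set_option maxRecDepth 8000

namespace CfsgLib.SpCentInv

open Matrix CfsgLib.SpFourThree

/-- Coordinates: the pair and the place in the pair. -/
def pairOf : Fin 2 ⊕ Fin 2 → Fin 2 := Sum.elim id id

/-- The place in the pair. -/
def placeOf : Fin 2 ⊕ Fin 2 → Fin 2 := Sum.elim (fun _ => 0) (fun _ => 1)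

/-- Two blocks on the two symplectic pairs. -/
def blocks (A B : Matrix (Fin 2) (Fin 2) (ZMod 3)) : Matrix (Fin 2 ⊕ Fin 2) (Fin 2 ⊕ Fin 2) (ZMod 3) :=
  Matrix.of fun i j => if pairOf i = pairOf j then (if pairOf i = 0 then A else B) (placeOf i) (placeOf j) else 0

theorem blocks_mul (A B C D : Matrix (Fin 2) (Fin 2) (ZMod 3)) :
    blocks A B * blocks C D = blocks (A * C) (B * D) := by
  ext i j
  rcases i with i | i <;> rcases j with j | j <;> fin_cases i <;> fin_cases j <;>
    simp [blocks, pairOf, placeOf, Matrix.mul_apply, Fintype.sum_sum_type, Fin.sum_univ_two]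

/-- The exchange of the two pairs. -/
def swapM : Matrix (Fin 2 ⊕ Fin 2) (Fin 2 ⊕ Fin 2) (ZMod 3) :=
  Matrix.of fun i j => if pairOf i ≠ pairOf j ∧ placeOf i = placeOf j then 1 else 0

theorem swapM_blocks (A B : Matrix (Fin 2) (Fin 2) (ZMod 3)) : swapM * blocks A B = blocks B A * swapM := by
  ext i j
  rcases i with i | i <;> rcases j with j | j <;> fin_cases i <;> fin_cases j <;>
    simp [blocks, swapM, pairOf, placeOf, Matrix.mul_apply, Fintype.sum_sum_type, Fin.sum_univ_two]

theorem swapM_sq : swapM * swapM = 1 := by decide +kernel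

/-- The matrix of an element of `SL₂(3)`. -/
def smat (a : Fin 24) : Matrix (Fin 2) (Fin 2) (ZMod 3) :=
  Matrix.of fun i j => ((((Data.mats.getD a.val []).getD (2 * i.val + j.val) 0 : ℕ)) : ZMod 3)

theorem smat_mul : ∀ a b : Fin 24, smat (Tri.sm a b) = smat a * smat b := by decide +kernel

theorem smat_one : smat 0 = 1 := by decide +kernel

theorem smat_neg : ∀ a : Fin 24, smat (Tri.sn a) = -smat a := by decide +kernel

theorem smat_surj : ∀ a b c d : ZMod 3, a * d - b * c = 1 →
    ∃ m : Fin 24, smat m 0 0 = a ∧ smat m 0 1 = b ∧ smat m 1 0 = c ∧ smat m 1 1 = d := by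
  decide +kernel

theorem blocks_left_mem : ∀ a : Fin 24,
    blocks (smat a) (smat 0) * Matrix.J (Fin 2) (ZMod 3) * (blocks (smat a) (smat 0))ᵀ = Matrix.J (Fin 2) (ZMod 3) := by
  decide +kernel

theorem swapM_mem : swapM * Matrix.J (Fin 2) (ZMod 3) * swapMᵀ = Matrix.J (Fin 2) (ZMod 3) := by
  decide +kernel

/-- The exchange as a symplectic element. -/
def spSwap : Sp43 := ⟨swapM, SymplecticGroup.mem_iff.2 swapM_mem⟩

/-- An element of the first factor. -/
def spLeft (a : Fin 24) : Sp43 := ⟨blocks (smat a) (smat 0), SymplecticGroup.mem_iff.2 (blocks_left_mem a)⟩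

/-- The matrix of a triple. -/
def triM (w : Tri) : Matrix (Fin 2 ⊕ Fin 2) (Fin 2 ⊕ Fin 2) (ZMod 3) :=
  if w.e then blocks (smat w.a) (smat w.b) * swapM else blocks (smat w.a) (smat w.b)

theorem blocks_eq (a b : Fin 24) :
    blocks (smat a) (smat b) = blocks (smat a) (smat 0) * (swapM * blocks (smat b) (smat 0) * swapM) := by
  rw [swapM_blocks, mul_assoc (blocks (smat 0) (smat b)), swapM_sq, mul_one, blocks_mul, smat_one, mul_one,
    one_mul]

theorem triM_mem (w : Tri) : triM w ∈ symplecticGroup (Fin 2) (ZMod 3) := by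
  have h : blocks (smat w.a) (smat w.b) ∈ symplecticGroup (Fin 2) (ZMod 3) :=
    (blocks_eq w.a w.b).symm ▸ (spLeft w.a * (spSwap * spLeft w.b * spSwap)).2
  unfold triM
  split
  · exact mul_mem h spSwap.2
  · exact h

theorem triM_mul (v w : Tri) : triM (v.mul w) = triM v * triM w := by
  obtain ⟨a, b, _ | _⟩ := v <;> obtain ⟨c, d, _ | _⟩ := w <;>
    simp only [triM, Tri.mul, Bool.false_eq_true, if_false, if_true, Bool.not_false, Bool.not_true, smat_mul,
      ← blocks_mul]
  · rw [mul_assoc]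
  · rw [mul_assoc, mul_assoc (blocks (smat a) (smat b)) swapM, swapM_blocks, ← mul_assoc]
  · rw [mul_assoc (blocks (smat a) (smat b)) swapM, ← mul_assoc swapM, swapM_blocks, mul_assoc _ swapM swapM,
      swapM_sq, mul_one]

theorem blocks_neg (A B : Matrix (Fin 2) (Fin 2) (ZMod 3)) : blocks (-A) (-B) = -blocks A B := by
  ext i j
  rcases i with i | i <;> rcases j with j | j <;> fin_cases i <;> fin_cases j <;>
    simp [blocks, pairOf, placeOf]

theorem triM_neg (w : Tri) : triM w.neg = -triM w := by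
  obtain ⟨a, b, _ | _⟩ := w <;> simp [triM, Tri.neg, smat_neg, blocks_neg]

/-- The projection to `PSp₄(3)`. -/
noncomputable def mkP : Sp43 →* Cfsg.PSp 2 (ZMod 3) := QuotientGroup.mk' _

theorem mkP_eq {A B : Sp43} (h : (A : Matrix (Fin 2 ⊕ Fin 2) (Fin 2 ⊕ Fin 2) (ZMod 3)) = B.1 ∨ A.1 = -B.1) :
    mkP A = mkP B := by
  rcases h with h | h
  · rw [show A = B from Subtype.ext h]
  · refine (QuotientGroup.eq.2 ?_).symm
    rw [CfsgLib.Sp.mem_center_iff]
    right
    have hB : (B⁻¹ : Sp43).1 * B.1 = 1 := congrArg Subtype.val (inv_mul_cancel B)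
    show (B⁻¹ : Sp43).1 * A.1 = -1
    rw [h, mul_neg, hB]

/-- The element of a triple. -/
def spTri (w : Tri) : Sp43 := ⟨triM w, triM_mem w⟩

theorem mkP_ofTri (w : Tri) : mkP (spTri (K.ofTri w).rep) = mkP (spTri w) := by
  refine mkP_eq ?_
  rcases K.rep_ofTri w with h | h
  · exact Or.inl (by rw [h])
  · exact Or.inr (by show triM _ = -triM _; rw [h, triM_neg])

/-- The codes in `PSp₄(3)`. -/
noncomputable def psi : K →* Cfsg.PSp 2 (ZMod 3) :=
  MonoidHom.mk' (fun k => mkP (spTri k.rep)) fun k l => by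
    show mkP (spTri (k * l).rep) = _
    rw [K.mul_eq, mkP_ofTri, show spTri (k.rep.mul l.rep) = spTri k.rep * spTri l.rep from
      Subtype.ext (triM_mul _ _), map_mul]

theorem triM_central : ∀ k : K,
    (Model.eqB (triM k.rep) 1 ∨ Model.eqB (triM k.rep) (-1)) → k = 1 := by
  decide +kernel

theorem psi_injective : Function.Injective psi := by
  refine (injective_iff_map_eq_one psi).2 fun k hk => triM_central k ?_
  have h := (QuotientGroup.eq_one_iff _).1 hk
  rw [CfsgLib.Sp.mem_center_iff] at h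
  refine h.imp (fun e i j => ?_) fun e i j => ?_ <;> exact congrFun (congrFun e i) j

/-- The signs of the pairs. -/
def signM : Matrix (Fin 2 ⊕ Fin 2) (Fin 2 ⊕ Fin 2) (ZMod 3) := blocks 1 (-1)

theorem z_signM : Model.eqB (triM z.rep) signM ∨ Model.eqB (triM z.rep) (-signM) := by decide +kernel

theorem commute_signM {A : Matrix (Fin 2 ⊕ Fin 2) (Fin 2 ⊕ Fin 2) (ZMod 3)} (h : A * signM = signM * A) :
    A = blocks (Matrix.of fun a b => A ((if a = 0 then Sum.inl else Sum.inr) 0) ((if b = 0 then Sum.inl else Sum.inr) 0))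
      (Matrix.of fun a b => A ((if a = 0 then Sum.inl else Sum.inr) 1) ((if b = 0 then Sum.inl else Sum.inr) 1)) := by
  have key : ∀ i j, pairOf i ≠ pairOf j → A i j = 0 := by
    intro i j hij
    have h' := congrFun (congrFun h i) j
    have hd : ∀ a : ZMod 3, a = -a → a = 0 := by decide
    apply hd
    rcases i with i | i <;> rcases j with j | j <;> fin_cases i <;> fin_cases j <;>
      simp [signM, blocks, pairOf, placeOf, Matrix.mul_apply, Matrix.one_apply, Fintype.sum_sum_type, Fin.sum_univ_two] at h' hij ⊢ <;>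
      first | exact h' | exact h'.symm
  ext i j
  rcases i with i | i <;> rcases j with j | j <;> fin_cases i <;> fin_cases j <;>
    simp [blocks, pairOf, placeOf] <;> exact key _ _ (by simp [pairOf])

theorem blocks_symp {C D : Matrix (Fin 2) (Fin 2) (ZMod 3)}
    (h : blocks C D ∈ symplecticGroup (Fin 2) (ZMod 3)) : ∃ a b : Fin 24, smat a = C ∧ smat b = D := by
  have h' := SymplecticGroup.mem_iff.1 h
  have h0 := congrFun (congrFun h' (Sum.inl 0)) (Sum.inr 0)
  have h1 := congrFun (congrFun h' (Sum.inl 1)) (Sum.inr 1)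
  simp [blocks, pairOf, placeOf, Matrix.mul_apply, Fintype.sum_sum_type, Fin.sum_univ_two, Matrix.J,
    Matrix.fromBlocks, Matrix.transpose_apply] at h0 h1
  have hd : ∀ a b c d : ZMod 3, b * c + -(a * d) = -1 → a * d - b * c = 1 := by decide
  obtain ⟨a, ha⟩ := smat_surj (C 0 0) (C 0 1) (C 1 0) (C 1 1) (hd _ _ _ _ h0)
  obtain ⟨b, hb⟩ := smat_surj (D 0 0) (D 0 1) (D 1 0) (D 1 1) (hd _ _ _ _ h1)
  refine ⟨a, b, ?_, ?_⟩ <;> ext i j <;> fin_cases i <;> fin_cases j
  exacts [ha.1, ha.2.1, ha.2.2.1, ha.2.2.2, hb.1, hb.2.1, hb.2.2.1, hb.2.2.2]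

theorem swapM_signM : swapM * signM = -(signM * swapM) := by decide +kernel

theorem centralizer_signM {A : Sp43} (h : A.1 * signM = signM * A.1 ∨ A.1 * signM = -(signM * A.1)) :
    ∃ w : Tri, triM w = A.1 := by
  rcases h with h | h
  · obtain ⟨a, b, ha, hb⟩ := blocks_symp (commute_signM h ▸ A.2)
    exact ⟨⟨a, b, false⟩, by rw [triM, if_neg (by simp), ha, hb, ← commute_signM h]⟩
  · have h' : (A * spSwap).1 * signM = signM * (A * spSwap).1 := by
      show A.1 * swapM * signM = signM * (A.1 * swapM)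
      rw [mul_assoc, swapM_signM, mul_neg, ← mul_assoc, h, neg_mul, neg_neg, mul_assoc]
    obtain ⟨a, b, ha, hb⟩ := blocks_symp (commute_signM h' ▸ (A * spSwap).2)
    refine ⟨⟨a, b, true⟩, ?_⟩
    rw [triM, if_pos rfl, ha, hb, ← commute_signM h']
    show A.1 * swapM * swapM = A.1
    rw [mul_assoc, swapM_sq, mul_one]

/-- The central involution in `PSp₄(3)`. -/
noncomputable def t1 : Cfsg.PSp 2 (ZMod 3) := psi z

theorem psi_range : psi.range = Subgroup.centralizer ({t1} : Set (Cfsg.PSp 2 (ZMod 3))) := by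
  ext g
  rw [Subgroup.mem_centralizer_singleton_iff]
  constructor
  · rintro ⟨k, rfl⟩
    rw [t1, ← map_mul, ← map_mul, z_central]
  · intro hg
    obtain ⟨A, rfl⟩ := QuotientGroup.mk'_surjective _ g
    have hA : mkP (A * spTri z.rep) = mkP (spTri z.rep * A) := hg
    have hc := QuotientGroup.eq.1 hA
    rw [CfsgLib.Sp.mem_center_iff] at hc
    have hval : ∀ X Y : Sp43, ((X⁻¹ * Y : Sp43).1 = 1 ∨ (X⁻¹ * Y : Sp43).1 = -1) → Y.1 = X.1 ∨ Y.1 = -X.1 := by
      intro X Y h
      have e : Y.1 = X.1 * (X⁻¹ * Y : Sp43).1 := by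
        show Y.1 = (X * (X⁻¹ * Y)).1
        rw [mul_inv_cancel_left]
      rcases h with h | h <;> rw [e, h]
      · exact Or.inl (mul_one _)
      · exact Or.inr (by rw [mul_neg, mul_one])
    have h2 : triM z.rep * A.1 = A.1 * triM z.rep ∨ triM z.rep * A.1 = -(A.1 * triM z.rep) := hval _ _ hc
    have hz : triM z.rep = signM ∨ triM z.rep = -signM :=
      z_signM.imp (fun e => Matrix.ext e) fun e => Matrix.ext e
    obtain ⟨w, hw⟩ := centralizer_signM (A := A) (by
      rcases hz with e | e <;> rw [e] at h2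
      · exact h2.imp (fun h => h.symm) fun h => by rw [h, neg_neg]
      · simp only [neg_mul, mul_neg, neg_inj] at h2
        exact h2.imp (fun h => h.symm) fun h => by rw [h, neg_neg])
    exact ⟨K.ofTri w, by
      show mkP (spTri (K.ofTri w).rep) = mkP A
      rw [mkP_ofTri, show spTri w = A from Subtype.ext hw]⟩

/-- A central involution of a Sylow two-subgroup is conjugate to `t1`. -/
theorem isConj_t1 (U : Sylow 2 (Cfsg.PSp 2 (ZMod 3))) {t₀ : Cfsg.PSp 2 (ZMod 3)} (ht₀ : orderOf t₀ = 2)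
    (hU : t₀ ∈ (U : Subgroup (Cfsg.PSp 2 (ZMod 3))))
    (hc : ∀ u ∈ (U : Subgroup (Cfsg.PSp 2 (ZMod 3))), u * t₀ = t₀ * u) : IsConj t₀ t1 := by
  have : Fact (Nat.Prime 2) := ⟨Nat.prime_two⟩
  have : Finite (Cfsg.PSp 2 (ZMod 3)) := Nat.finite_of_card_ne_zero (by rw [target_card]; norm_num)
  have h64 : Nat.card (pSub.map psi) = 2 ^ 6 := by
    rw [Subgroup.card_map_of_injective psi_injective, card_pSub]; rfl
  have hfac : (25920 : ℕ).factorization 2 = 6 := by
    rw [show (25920 : ℕ) = 2 ^ 6 * 405 from rfl,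
      Nat.factorization_mul (by norm_num) (by norm_num), Nat.Prime.factorization_pow Nat.prime_two]
    simp [Nat.factorization_eq_zero_of_not_dvd (show ¬ 2 ∣ 405 by norm_num)]
  let R : Sylow 2 (Cfsg.PSp 2 (ZMod 3)) := Sylow.ofCard (pSub.map psi) (by rw [h64, target_card, hfac])
  obtain ⟨c, hcU⟩ := MulAction.exists_smul_eq (Cfsg.PSp 2 (ZMod 3)) U R
  have hmem : c * t₀ * c⁻¹ ∈ pSub.map psi := by
    show c * t₀ * c⁻¹ ∈ (R : Subgroup _)
    rw [← hcU, Sylow.coe_subgroup_smul]
    exact Subgroup.smul_mem_pointwise_smul t₀ (MulAut.conj c) _ hU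
  obtain ⟨k, hk, hke⟩ := hmem
  refine isConj_iff.2 ⟨c, ?_⟩
  rw [← hke, t1]
  congr 1
  refine (pK_center k hk fun b hb => ?_).resolve_left fun e => ?_
  · have hb' : psi b ∈ (R : Subgroup _) := ⟨b, hb, rfl⟩
    rw [← hcU, Sylow.coe_subgroup_smul, Subgroup.mem_pointwise_smul_iff_inv_smul_mem] at hb'
    have hb2 : c⁻¹ * psi b * c ∈ (U : Subgroup _) := by simpa [MulAut.smul_def] using hb'
    refine psi_injective ?_
    rw [map_mul, map_mul, hke]
    calc c * t₀ * c⁻¹ * psi b = c * (t₀ * (c⁻¹ * psi b * c)) * c⁻¹ := by group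
      _ = c * (c⁻¹ * psi b * c * t₀) * c⁻¹ := by rw [hc _ hb2]
      _ = psi b * (c * t₀ * c⁻¹) := by group
  · rw [e, map_one] at hke
    rw [conj_eq_one_iff.1 hke.symm, orderOf_one] at ht₀
    norm_num at ht₀

end CfsgLib.SpCentInv
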