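import Cfsg.Agent.Lib.Recognition.SpCentInv.Graph
import Cfsg.Agent.Lib.Recognition.SpCentInv.Cert
import Cfsg.Agent.Lib.Recognition.SpCentInv.Target
import Mathlib.FieldTheory.Finite.Basic

/-!
`PSp₄(3)` is determined by the centralizer of a central involution.
-/

set_option autoImplicit false
set_option linter.unusedSectionVars false
set_option maxRecDepth 4000

namespace CfsgLib.SpCentInv

open Subgroup CfsgLib.CosetCert

theorem word_four : wordVal [0, 1, 0, 1, 2, 1, 0, 1, 0, 1, 2, 1, 0, 1, 0, 1, 2, 1] = z ∧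
    wordVal [0, 0, 2, 1, 0, 1, 0, 1, 2, 1, 0, 1, 0, 1, 2] = sg := by
  decide +kernel

theorem word_small : wordVal [0, 1, 0, 0] = s₃ ∧ s₃ * s₃ = 1 ∧ x * x * x = 1 ∧ p * p = 1 ∧
    wordVal [1, 1] = 1 ∧ wordVal [2, 2] = 1 ∧ wordVal [2, 0, 2, 0, 0] = 1 ∧
    wordVal [2, 1, 2, 1, 2, 1] = 1 ∧ wordVal [0, 1, 0, 0, 1, 0, 1, 0, 0, 1] = 1 := by
  decide +kernel

namespace Hyp

variable {G : Type*} [Group G] (S : Hyp G)

/-- The four letters. -/
def letter (g : G) (a : ℕ) : G := [S.φ x, S.φ s, S.φ p, g].getD a 1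

theorem eval_of_lt (g : G) : ∀ l : List ℕ, (∀ a ∈ l, a < 3) → eval (S.letter g) l = S.φ (wordVal l)
  | [], _ => (map_one S.φ).symm
  | a :: l, h => by
    rw [eval_cons, eval_of_lt g l fun b hb => h b (List.mem_cons_of_mem _ hb), wordVal, map_mul]
    congr 1
    have := h a List.mem_cons_self
    interval_cases a <;> rfl

theorem eval_swap (g : G) (l : List ℕ) : eval (S.letter g) (3 :: l) = g * eval (S.letter g) l :=
  eval_cons _ _ _

variable [Finite G] (hσ : IsConj S.t (S.φ sg))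
include hσ

theorem letters_rel {g : G} (hg : S.Swap g) : ∀ w ∈ Cert.relWords, eval (S.letter g) w = 1 := by
  have hK : ∀ l : List ℕ, (∀ a ∈ l, a < 3) → wordVal l = 1 → eval (S.letter g) l = 1 := fun l h e => by
    rw [S.eval_of_lt g l h, e, map_one]
  obtain ⟨h30, h33, hxxx, hpp, hw1, hw2, hw7, hw8, hw9⟩ := word_small
  intro w hw
  simp only [Cert.relWords, List.mem_cons, List.not_mem_nil, or_false] at hw
  rcases hw with rfl | rfl | rfl | rfl | rfl | rfl | rfl | rfl | rfl | rfl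
  · exact hK _ (by simp) hw1
  · exact hK _ (by simp) hw2
  · rw [eval_swap, eval_swap, eval_nil, mul_one, hg.sq]
  · rw [eval_swap, show ([0, 3, 0] : List ℕ) = [0] ++ (3 :: [0]) from rfl, eval_append, eval_swap, eval_singleton,
      show S.letter g 0 = S.φ x from rfl, ← mul_assoc, ← mul_assoc, hg.map_x, ← map_mul, hxxx, map_one]
  · rw [eval_swap, show ([0, 1, 0, 1, 2, 1, 0, 1, 0, 1, 2, 1, 0, 1, 0, 1, 2, 1, 3, 0, 0, 2, 1, 0, 1, 0, 1, 2, 1, 0,
        1, 0, 1, 2] : List ℕ) = [0, 1, 0, 1, 2, 1, 0, 1, 0, 1, 2, 1, 0, 1, 0, 1, 2, 1] ++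
        (3 :: [0, 0, 2, 1, 0, 1, 0, 1, 2, 1, 0, 1, 0, 1, 2]) from rfl, eval_append, eval_swap,
      S.eval_of_lt g _ (by simp), S.eval_of_lt g _ (by simp), word_four.1, word_four.2, S.map_z, ← mul_assoc,
      ← mul_assoc, hg.map_t, ← map_mul, z_ne.2.2.2.1, map_one]
  · rw [eval_swap, show ([1, 3, 0, 1, 0, 0] : List ℕ) = [1] ++ (3 :: [0, 1, 0, 0]) from rfl, eval_append,
      eval_swap, eval_singleton, S.eval_of_lt g _ (by simp), h30, show S.letter g 1 = S.φ s from rfl,
      ← mul_assoc, ← mul_assoc, hg.map_s, ← map_mul, h33, map_one]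
  · have hc := S.relation_p hσ hg
    have e2 : S.letter g 2 = S.φ p := rfl
    rw [eval_cons, eval_swap, eval_cons, eval_swap, eval_cons, eval_swap, eval_cons, eval_swap, eval_nil,
      mul_one, e2]
    have hp2 : S.φ p * S.φ p = 1 := by rw [← map_mul, hpp, map_one]
    calc S.φ p * (g * (S.φ p * (g * (S.φ p * (g * (S.φ p * g))))))
        = S.φ p * (g * S.φ p * g) * (S.φ p * (g * S.φ p * g)) := by group
      _ = g * S.φ p * g * (S.φ p * S.φ p) * (g * S.φ p * g) := by nth_rw 1 [hc]; group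
      _ = 1 := by
        rw [hp2, mul_one, show g * S.φ p * g * (g * S.φ p * g) = g * S.φ p * (g * g) * S.φ p * g by group,
          hg.sq, mul_one, mul_assoc g, hp2, mul_one, hg.sq]
  · exact hK _ (by simp) hw7
  · exact hK _ (by simp) hw8
  · exact hK _ (by simp) hw9

theorem letters_top {g : G} (hg : S.Swap g) : closure (S.letter g '' {a | a < 4}) = ⊤ := by
  refine S.closure_eq_top hσ hg _ (fun k => ?_) (subset_closure ⟨3, by norm_num, rfl⟩)
  have hle : (closure ({x, s, p} : Set K)).map S.φ ≤ closure (S.letter g '' {a | a < 4}) := by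
    rw [MonoidHom.map_closure, closure_le]
    rintro _ ⟨k, hk, rfl⟩
    rcases hk with rfl | rfl | rfl
    exacts [subset_closure ⟨0, by norm_num, rfl⟩, subset_closure ⟨1, by norm_num, rfl⟩,
      subset_closure ⟨2, by norm_num, rfl⟩]
  exact hle (mem_map_of_mem S.φ (gens_top ▸ mem_top k))

end Hyp

variable {G P : Type*} [Group G] [Group P] [Finite G] [Finite P]

/-- Two groups with the given centralizer, the second simple, are isomorphic. -/
theorem nonempty_equiv [IsSimpleGroup P] (S : Hyp G) (T : Hyp P) (hσ : IsConj S.t (S.φ sg))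
    (hτ : IsConj T.t (T.φ sg)) : Nonempty (G ≃* P) := by
  obtain ⟨g, hg⟩ := S.exists_Swap hσ
  obtain ⟨h, hh⟩ := T.exists_Swap hτ
  let ℓ : ℕ → G × P := fun a => (S.letter g a, T.letter h a)
  have hev : ∀ w, eval ℓ w = (eval (S.letter g) w, eval (T.letter h) w) := by
    intro w
    induction w with
    | nil => rfl
    | cons a w ih => rw [eval_cons, eval_cons, eval_cons, ih]; rfl
  set Γ : Subgroup (G × P) := closure (ℓ '' {a | a < 4}) with hΓ
  let ℓ' : ℕ → Γ := fun a => if ha : a < 4 then ⟨ℓ a, subset_closure ⟨a, ha, rfl⟩⟩ else 1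
  have hℓ' : ∀ a, (ℓ' a : G × P) = ℓ a := by
    intro a
    simp only [ℓ']
    split
    · rfl
    · next ha =>
      exact Prod.ext (List.getD_eq_default _ _ (by simp; omega)).symm
        (List.getD_eq_default _ _ (by simp; omega)).symm
  have hev' : ∀ w, ((eval ℓ' w : Γ) : G × P) = eval ℓ w := by
    intro w
    induction w with
    | nil => rfl
    | cons a w ih => rw [eval_cons, eval_cons, Subgroup.coe_mul, ih, hℓ']
  let H : Subgroup Γ := (S.φ.prod T.φ).range.comap Γ.subtype
  have hHcard : Nat.card H ≤ 576 := by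
    rw [← K.card_eq]
    refine le_trans (Nat.card_le_card_of_injective (fun a : H => (⟨(a : Γ).1, a.2⟩ : (S.φ.prod T.φ).range))
      fun a b hab => Subtype.ext (Subtype.ext (congrArg (fun u : (S.φ.prod T.φ).range => (u : G × P)) hab))) ?_
    exact Nat.card_le_card_of_surjective _ (S.φ.prod T.φ).rangeRestrict_surjective
  have hgen : closure (ℓ' '' {a | a < 4}) = ⊤ := by
    apply map_injective Γ.subtype_injective
    rw [MonoidHom.map_closure, ← MonoidHom.range_eq_map, range_subtype, Set.image_image]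
    simp only [Subgroup.subtype_apply, hℓ']
    exact hΓ.symm
  have hbound : Nat.card Γ ≤ 270 * 576 := by
    have h1 := FastCert.card_le (g := ℓ') (H := H) (hgens := [0, 1, 2]) (fun a ha => ?_)
      (fun w hw => Subtype.ext ?_) Cert.cert_ok hgen
    · rw [Cert.repWords_length] at h1
      exact h1.trans (Nat.mul_le_mul le_rfl hHcard)
    · show (ℓ' a : G × P) ∈ (S.φ.prod T.φ).range
      rw [hℓ']
      simp only [List.mem_cons, List.not_mem_nil, or_false] at ha
      rcases ha with rfl | rfl | rfl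
      exacts [⟨x, rfl⟩, ⟨s, rfl⟩, ⟨p, rfl⟩]
    · rw [hev', hev, S.letters_rel hσ hg w hw, T.letters_rel hτ hh w hw]; rfl
  let π₁ : Γ →* G := (MonoidHom.fst G P).comp Γ.subtype
  let π₂ : Γ →* P := (MonoidHom.snd G P).comp Γ.subtype
  have hsurj₁ : Function.Surjective π₁ := by
    rw [← MonoidHom.range_eq_top, MonoidHom.range_comp, range_subtype, hΓ, MonoidHom.map_closure,
      ← S.letters_top hσ hg, Set.image_image]
    rfl
  have hsurj₂ : Function.Surjective π₂ := by
    rw [← MonoidHom.range_eq_top, MonoidHom.range_comp, range_subtype, hΓ, MonoidHom.map_closure,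
      ← T.letters_top hτ hh, Set.image_image]
    rfl
  have hG := S.card_eq hσ
  have hP := T.card_eq hτ
  have hker : π₁.ker = ⊥ := by
    have hNn : (π₁.ker.map π₂).Normal := (MonoidHom.normal_ker π₁).map _ hsurj₂
    rcases hNn.eq_bot_or_eq_top with hb | hb
    · refine eq_bot_iff.2 fun a ha => mem_bot.2 (Subtype.ext (Prod.ext ?_ ?_))
      · exact MonoidHom.mem_ker.1 ha
      · exact mem_bot.1 (hb ▸ mem_map_of_mem π₂ ha : π₂ a ∈ (⊥ : Subgroup P))
    · exfalso
      have h1 : 25920 ≤ Nat.card π₁.ker := by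
        rw [← hP, ← Subgroup.card_top (G := P), ← hb]
        exact Nat.card_le_card_of_surjective
          (fun a : π₁.ker => (⟨π₂ a, mem_map_of_mem π₂ a.2⟩ : π₁.ker.map π₂))
          (by rintro ⟨_, ⟨a, ha, rfl⟩⟩; exact ⟨⟨a, ha⟩, rfl⟩)
      have h2 : Nat.card Γ = Nat.card G * Nat.card π₁.ker := by
        rw [card_eq_card_quotient_mul_card_subgroup π₁.ker,
          Nat.card_congr (QuotientGroup.quotientKerEquivOfSurjective π₁ hsurj₁).toEquiv]
      rw [h2, hG] at hbound
      have := Nat.mul_le_mul (le_refl 25920) h1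
      omega
  let e : Γ ≃* G := MulEquiv.ofBijective π₁ ⟨(MonoidHom.ker_eq_bot_iff π₁).1 hker, hsurj₁⟩
  let f : G →* P := π₂.comp e.symm.toMonoidHom
  exact ⟨MulEquiv.ofBijective f (Nat.bijective_iff_surjective_and_card _ |>.2
    ⟨hsurj₂.comp e.symm.surjective, hG.trans hP.symm⟩)⟩

/-- The hypothesis structure of a centralizer isomorphic to the group of codes. -/
theorem exists_hyp (hG : ∀ H : Subgroup G, H.index ≠ 2) {t : G} (ht : orderOf t = 2)
    (e : K ≃* centralizer ({t} : Set G)) : ∃ S : Hyp G, S.t = t := by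
  let φ : K →* G := (centralizer ({t} : Set G)).subtype.comp e.toMonoidHom
  have ht2 : t * t = 1 := by rw [← pow_two, ← ht, pow_orderOf_eq_one]
  set k := e.symm ⟨t, mem_centralizer_singleton_iff.2 rfl⟩ with hk
  have hφk : φ k = t := by simp [φ, hk]
  have hinj : Function.Injective φ := (centralizer ({t} : Set G)).subtype_injective.comp e.injective
  have hcomm : ∀ l, k * l = l * k := fun l => hinj (by
    rw [map_mul, map_mul, hφk]
    exact (mem_centralizer_singleton_iff.1 (e l).2).symm)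
  have hkz : k = z := by
    rcases center_unique k (hinj (by rw [map_mul, hφk, map_one, ht2])) (hcomm x) (hcomm s) (hcomm p) with h | h
    · rw [h, map_one] at hφk
      rw [← hφk, orderOf_one] at ht
      norm_num at ht
    · exact h
  refine ⟨⟨t, φ, hinj, ?_, hkz ▸ hφk, hG⟩, rfl⟩
  rw [MonoidHom.range_comp, MonoidHom.range_eq_top.2 e.surjective, ← MonoidHom.range_eq_map, range_subtype]

/-- A group without subgroups of index two with the involution centralizer of `PSp₄(3)` is `PSp₄(3)`. -/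
theorem nonempty_equiv_psp (hG : ∀ H : Subgroup G, H.index ≠ 2) {F : Type*} [Field F] [Fintype F]
    (hF : Fintype.card F = 3) (U : Sylow 2 (Cfsg.PSp 2 F)) (t₀ : Cfsg.PSp 2 F) (ht₀ : orderOf t₀ = 2)
    (ht₀U : t₀ ∈ (U : Subgroup (Cfsg.PSp 2 F)))
    (ht₀c : ∀ u ∈ (U : Subgroup (Cfsg.PSp 2 F)), u * t₀ = t₀ * u) (t : G) (ht : orderOf t = 2)
    (e : ↥(centralizer ({t} : Set G)) ≃* ↥(centralizer ({t₀} : Set (Cfsg.PSp 2 F)))) :
    Nonempty (G ≃* Cfsg.PSp 2 F) := by
  have : Fact (Nat.Prime 3) := ⟨Nat.prime_three⟩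
  have : Fact (Nat.Prime 2) := ⟨Nat.prime_two⟩
  obtain ⟨f⟩ := CfsgLib.SpFourThree.nonempty_psp_congr (m := 2)
    (ZMod.ringEquivOfPrime F Nat.prime_three hF).symm
  have hPfin : Finite (Cfsg.PSp 2 (ZMod 3)) :=
    Nat.finite_of_card_ne_zero (by rw [SpFourThree.target_card]; norm_num)
  have hFfin : Finite (Cfsg.PSp 2 F) := Finite.of_equiv _ f.symm.toEquiv
  let U' : Sylow 2 (Cfsg.PSp 2 (ZMod 3)) := U.mapSurjective (f := f.toMonoidHom) f.surjective
  obtain ⟨c, hc⟩ := isConj_iff.1 (isConj_t1 U' (t₀ := f t₀)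
    (by rw [MulEquiv.orderOf_eq, ht₀])
    (by show f t₀ ∈ (U : Subgroup _).map f.toMonoidHom; exact mem_map_of_mem _ ht₀U)
    (by
      intro u hu
      change u ∈ (U : Subgroup _).map f.toMonoidHom at hu
      obtain ⟨v, hv, rfl⟩ := hu
      show f v * f t₀ = f t₀ * f v
      rw [← map_mul, ← map_mul, ht₀c v hv]))
  let θ : Cfsg.PSp 2 F ≃* Cfsg.PSp 2 (ZMod 3) := f.trans (MulAut.conj c)
  have hθ : θ t₀ = t1 := hc
  have hmap : (centralizer ({t₀} : Set (Cfsg.PSp 2 F))).map θ.toMonoidHom = psi.range := by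
    rw [psi_range]
    ext a
    simp only [mem_map, mem_centralizer_singleton_iff]
    constructor
    · rintro ⟨b, hb, rfl⟩
      show θ b * t1 = t1 * θ b
      rw [← hθ, ← map_mul, ← map_mul, hb]
    · intro ha
      refine ⟨θ.symm a, θ.injective ?_, θ.apply_symm_apply a⟩
      rw [map_mul, map_mul, θ.apply_symm_apply, hθ, ha]
  let eK : K ≃* centralizer ({t} : Set G) := ((MonoidHom.ofInjective psi_injective).trans
    (MulEquiv.subgroupCongr hmap.symm)).trans
      ((equivMapOfInjective _ θ.toMonoidHom θ.injective).symm.trans e.symm)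
  obtain ⟨S, -⟩ := exists_hyp hG ht eK
  have : IsSimpleGroup (Cfsg.PSp 2 (ZMod 3)) := SpFourThree.target_simple
  have hnoindex : ∀ H : Subgroup (Cfsg.PSp 2 (ZMod 3)), H.index ≠ 2 := by
    intro H hH
    rcases (normal_of_index_eq_two hH).eq_bot_or_eq_top with rfl | rfl
    · rw [index_bot, SpFourThree.target_card] at hH; norm_num at hH
    · rw [index_top] at hH; norm_num at hH
  let T₀ : Hyp (Cfsg.PSp 2 (ZMod 3)) := ⟨t1, psi, psi_injective, psi_range, rfl, hnoindex⟩
  obtain ⟨S', -, hσ⟩ := S.exists_normalized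
  obtain ⟨T', -, hτ⟩ := T₀.exists_normalized
  obtain ⟨r⟩ := nonempty_equiv S' T' hσ hτ
  exact ⟨r.trans f.symm⟩

end CfsgLib.SpCentInv
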