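import Mathlib
import Cfsg.Agent.Lib.Recognition.SpCentInv.Data

/-!
The group `(SL₂(3) ∘ SL₂(3)).2` on the codes `0, …, 575`.
-/

set_option autoImplicit false

namespace CfsgLib.SpCentInv

open Data

/-- Entry of a packed table with five-bit entries. -/
def entry (t i : ℕ) : ℕ := (t >>> (5 * i)) % 32

/-- Product in `SL₂(3)`. -/
def sMul (a b : ℕ) : ℕ := entry mulTab (a * 24 + b)

/-- Inverse in `SL₂(3)`. -/
def sInv (a : ℕ) : ℕ := entry invTab a

/-- Negation in `SL₂(3)`. -/
def sNeg (a : ℕ) : ℕ := entry negTab a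

/-- Representative of a class modulo sign. -/
def sRep (b : ℕ) : ℕ := entry repTab b

/-- Class modulo sign, with the sign. -/
def sCan (b : ℕ) : ℕ := entry canTab b

/-- The code of a triple. -/
def normN (a b e : ℕ) : ℕ :=
  ((if sCan b % 2 = 0 then a else sNeg a) * 12 + sCan b / 2) * 2 + e

/-- The product of two codes. -/
def mulN (x y : ℕ) : ℕ :=
  if x % 2 = 0 then
    normN (sMul (x / 24) (y / 24)) (sMul (sRep (x / 2 % 12)) (sRep (y / 2 % 12))) (y % 2)
  else
    normN (sMul (x / 24) (sRep (y / 2 % 12))) (sMul (sRep (x / 2 % 12)) (y / 24)) (1 - y % 2)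

theorem sMul_lt : ∀ a < 24, ∀ b < 24, sMul a b < 24 := by decide +kernel

theorem sInv_lt : ∀ a < 24, sInv a < 24 := by decide +kernel

theorem sNeg_lt : ∀ a < 24, sNeg a < 24 := by decide +kernel

theorem sRep_lt : ∀ b < 12, sRep b < 24 := by decide +kernel

theorem sCan_lt : ∀ b < 24, sCan b / 2 < 12 := by decide +kernel

theorem sMul_assoc : ∀ a < 24, ∀ b < 24, ∀ c < 24, sMul (sMul a b) c = sMul a (sMul b c) := by
  decide +kernel

theorem s_facts : ∀ a < 24, sMul 0 a = a ∧ sMul a 0 = a ∧ sMul (sInv a) a = 0 ∧ sNeg (sNeg a) = a ∧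
    ∀ b < 24, sMul (sNeg a) b = sNeg (sMul a b) ∧ sMul a (sNeg b) = sNeg (sMul a b) := by
  decide +kernel

theorem sCan_rep : ∀ b < 24,
    sRep (sCan b / 2) = (if sCan b % 2 = 0 then b else sNeg b) ∧
      sCan (sNeg b) / 2 = sCan b / 2 ∧ (sCan (sNeg b) % 2 = 0 ↔ sCan b % 2 = 1) := by
  decide +kernel

theorem sCan_of_rep : ∀ b < 12, sCan (sRep b) = 2 * b := by decide +kernel

/-- Triples. -/
@[ext] structure Tri where
  /-- The first coordinate. -/
  a : Fin 24
  /-- The second coordinate. -/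
  b : Fin 24
  /-- The swap. -/
  e : Bool

namespace Tri

/-- Product in `SL₂(3)`. -/
def sm (a b : Fin 24) : Fin 24 := ⟨sMul a b, sMul_lt _ a.2 _ b.2⟩

/-- Negation in `SL₂(3)`. -/
def sn (a : Fin 24) : Fin 24 := ⟨sNeg a, sNeg_lt _ a.2⟩

/-- The product of triples. -/
def mul (x y : Tri) : Tri :=
  if x.e then ⟨sm x.a y.b, sm x.b y.a, !y.e⟩ else ⟨sm x.a y.a, sm x.b y.b, y.e⟩

/-- The twist by the central sign. -/
def neg (x : Tri) : Tri := ⟨sn x.a, sn x.b, x.e⟩

theorem sm_assoc (a b c : Fin 24) : sm (sm a b) c = sm a (sm b c) :=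
  Fin.ext (sMul_assoc _ a.2 _ b.2 _ c.2)

theorem sm_neg_left (a b : Fin 24) : sm (sn a) b = sn (sm a b) :=
  Fin.ext ((s_facts _ a.2).2.2.2.2 _ b.2).1

theorem sm_neg_right (a b : Fin 24) : sm a (sn b) = sn (sm a b) :=
  Fin.ext ((s_facts _ a.2).2.2.2.2 _ b.2).2

theorem sn_sn (a : Fin 24) : sn (sn a) = a := Fin.ext (s_facts _ a.2).2.2.2.1

theorem mul_assoc' (x y w : Tri) : mul (mul x y) w = mul x (mul y w) := by
  obtain ⟨a, b, _ | _⟩ := x <;> obtain ⟨c, d, _ | _⟩ := y <;> obtain ⟨f, g, _ | _⟩ := w <;>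
    simp [mul, sm_assoc]

theorem neg_mul' (x y : Tri) : mul (neg x) y = neg (mul x y) := by
  obtain ⟨a, b, _ | _⟩ := x <;> obtain ⟨c, d, _ | _⟩ := y <;> simp [mul, neg, sm_neg_left]

theorem mul_neg' (x y : Tri) : mul x (neg y) = neg (mul x y) := by
  obtain ⟨a, b, _ | _⟩ := x <;> obtain ⟨c, d, _ | _⟩ := y <;> simp [mul, neg, sm_neg_right]

theorem neg_neg' (x : Tri) : neg (neg x) = x := by simp [neg, sn_sn]

end Tri

/-- The group of codes. -/
@[ext] structure K where
  /-- The code. -/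
  val : ℕ
  /-- The bound. -/
  lt : val < 576
deriving DecidableEq

theorem normN_lt {a b e : ℕ} (ha : a < 24) (hb : b < 24) (he : e < 2) : normN a b e < 576 := by
  have h1 := sCan_lt b hb
  have h2 : (if sCan b % 2 = 0 then a else sNeg a) < 24 := by
    split
    · exact ha
    · exact sNeg_lt a ha
  unfold normN
  omega

theorem mulN_lt {x y : ℕ} (hx : x < 576) (hy : y < 576) : mulN x y < 576 := by
  have h1 := sRep_lt (x / 2 % 12) (by omega)
  have h2 := sRep_lt (y / 2 % 12) (by omega)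
  unfold mulN
  split
  · exact normN_lt (sMul_lt _ (by omega) _ (by omega)) (sMul_lt _ h1 _ h2) (by omega)
  · exact normN_lt (sMul_lt _ (by omega) _ h2) (sMul_lt _ h1 _ (by omega)) (by omega)

namespace K

/-- The representing triple. -/
def rep (x : K) : Tri :=
  ⟨⟨x.val / 24, by have := x.lt; omega⟩, ⟨sRep (x.val / 2 % 12), sRep_lt _ (by omega)⟩,
    decide (x.val % 2 = 1)⟩

/-- The code of a triple. -/
def ofTri (w : Tri) : K :=
  ⟨normN w.a w.b (if w.e then 1 else 0), normN_lt w.a.2 w.b.2 (by split <;> omega)⟩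

instance : Mul K := ⟨fun x y => ⟨mulN x.val y.val, mulN_lt x.lt y.lt⟩⟩

instance : One K := ⟨⟨0, by omega⟩⟩

theorem mul_val (x y : K) : (x * y).val = mulN x.val y.val := rfl

theorem ofTri_rep (x : K) : ofTri x.rep = x := by
  have hx := x.lt
  apply K.ext
  show normN (x.val / 24) (sRep (x.val / 2 % 12)) _ = x.val
  rw [normN, sCan_of_rep _ (by omega), if_pos (by omega)]
  rcases Nat.mod_two_eq_zero_or_one x.val with h | h
  · simp [rep, h]; omega
  · simp [rep, h]; omega

theorem ofTri_neg (w : Tri) : ofTri w.neg = ofTri w := by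
  obtain ⟨h1, h2, h3⟩ := sCan_rep _ w.b.2
  apply K.ext
  show normN (sNeg w.a) (sNeg w.b) _ = normN w.a w.b _
  simp only [normN, Tri.neg, h2]
  congr 4
  have := (s_facts _ w.a.2).2.2.2.1
  split_ifs with h4 h5 h5 <;> omega

theorem rep_ofTri (w : Tri) : (ofTri w).rep = w ∨ (ofTri w).rep = w.neg := by
  obtain ⟨a, b, e⟩ := w
  obtain ⟨h1, -, -⟩ := sCan_rep _ b.2
  have h4 := sCan_lt _ b.2
  have h5 := sNeg_lt _ a.2
  have h6 := a.2
  by_cases hc : sCan b % 2 = 0
  · left
    simp only [rep, ofTri, normN, if_pos hc]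
    rw [if_pos hc] at h1
    refine Tri.ext (Fin.ext ?_) (Fin.ext ?_) ?_
    · show (((a : ℕ) * 12 + sCan b / 2) * 2 + _) / 24 = a
      cases e <;> simp <;> omega
    · show sRep ((((a : ℕ) * 12 + sCan b / 2) * 2 + _) / 2 % 12) = b
      refine Eq.trans ?_ h1
      congr 1
      cases e <;> simp <;> omega
    · cases e <;> simp [Nat.add_mod]
  · right
    simp only [rep, ofTri, normN, if_neg hc, Tri.neg]
    rw [if_neg hc] at h1
    refine Tri.ext (Fin.ext ?_) (Fin.ext ?_) ?_
    · show ((sNeg a * 12 + sCan b / 2) * 2 + _) / 24 = sNeg a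
      cases e <;> simp <;> omega
    · show sRep (((sNeg a * 12 + sCan b / 2) * 2 + _) / 2 % 12) = sNeg b
      refine Eq.trans ?_ h1
      congr 1
      cases e <;> simp <;> omega
    · cases e <;> simp [Nat.add_mod]

theorem mul_eq (x y : K) : x * y = ofTri (x.rep.mul y.rep) := by
  apply K.ext
  show mulN x.val y.val = _
  rcases Nat.mod_two_eq_zero_or_one x.val with h | h <;>
    rcases Nat.mod_two_eq_zero_or_one y.val with h' | h' <;>
    simp [mulN, rep, ofTri, Tri.mul, Tri.sm, h, h']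

theorem ofTri_mul (v w : Tri) : ofTri (v.mul w) = ofTri v * ofTri w := by
  rw [mul_eq]
  rcases rep_ofTri v with h | h <;> rcases rep_ofTri w with h' | h' <;>
    simp [h, h', Tri.neg_mul', Tri.mul_neg', ofTri_neg, Tri.neg_neg']

theorem mul_assoc' (x y w : K) : x * y * w = x * (y * w) := by
  rw [← ofTri_rep x, ← ofTri_rep y, ← ofTri_rep w]
  simp only [← ofTri_mul, Tri.mul_assoc']

theorem one_mul_aux : ∀ n < 576, mulN 0 n = n ∧ mulN n 0 = n := by decide +kernel

/-- The code of the inverse. -/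
def invN (x : ℕ) : ℕ :=
  if x % 2 = 0 then normN (sInv (x / 24)) (sInv (sRep (x / 2 % 12))) 0
  else normN (sInv (sRep (x / 2 % 12))) (sInv (x / 24)) 1

theorem invN_aux : ∀ n < 576, invN n < 576 ∧ mulN (invN n) n = 0 := by decide +kernel

instance : Inv K := ⟨fun x => ⟨invN x.val, (invN_aux _ x.lt).1⟩⟩

instance : Group K :=
  Group.ofLeftAxioms mul_assoc' (fun x => K.ext (by show mulN 0 x.val = x.val; exact (one_mul_aux _ x.lt).1))
    (fun x => K.ext (by show mulN (invN x.val) x.val = 0; exact (invN_aux _ x.lt).2))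

theorem one_val : (1 : K).val = 0 := rfl

theorem inv_val (x : K) : x⁻¹.val = invN x.val := rfl

/-- The equivalence with `Fin 576`. -/
def equivFin : K ≃ Fin 576 where
  toFun x := ⟨x.val, x.lt⟩
  invFun i := ⟨i.val, i.2⟩
  left_inv _ := rfl
  right_inv _ := rfl

instance : Fintype K := Fintype.ofEquiv _ equivFin.symm

theorem card_eq : Nat.card K = 576 := by
  rw [Nat.card_congr equivFin, Nat.card_eq_fintype_card, Fintype.card_fin]

/-- The element with a given code. -/
def of (n : ℕ) (h : n < 576 := by decide +kernel) : K := ⟨n, h⟩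

theorem forall_of (P : ℕ → Prop) (h : ∀ n < 576, P n) (x : K) : P x.val := h _ x.lt

end K

end CfsgLib.SpCentInv
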