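import Cfsg.Agent.Lib.Recognition.SpCentInv.Setup

/-!
The conjugates of the involution in the elementary abelian subgroup of order sixteen.
-/

set_option autoImplicit false
set_option linter.unusedSectionVars false

namespace CfsgLib.SpCentInv

open Subgroup

namespace Lin

theorem app_small : ∀ v < 16, ∀ b : Bool, v ^^^ (if b then v else 0) = if b then 0 else v := by
  decide +kernel

/-- Two additive maps on `0, …, 15` with the same values on the basis agree. -/
theorem ext_of_add {f g : ℕ → ℕ} (hf : ∀ v < 16, ∀ w < 16, f (v ^^^ w) = f v ^^^ f w)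
    (hg : ∀ v < 16, ∀ w < 16, g (v ^^^ w) = g v ^^^ g w)
    (h1 : f 1 = g 1) (h2 : f 2 = g 2) (h4 : f 4 = g 4) (h8 : f 8 = g 8) : ∀ v < 16, f v = g v := by
  have h0 : f 0 = g 0 := by
    have a := hf 1 (by norm_num) 1 (by norm_num)
    have b := hg 1 (by norm_num) 1 (by norm_num)
    simp only [Nat.xor_self] at a b
    rw [a, b]
  have key : ∀ v < 16, ∀ w < 16, f v = g v → f w = g w → f (v ^^^ w) = g (v ^^^ w) := by
    intro v hv w hw a b; rw [hf v hv w hw, hg v hv w hw, a, b]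
  have h3 := key 1 (by norm_num) 2 (by norm_num) h1 h2
  have h5 := key 1 (by norm_num) 4 (by norm_num) h1 h4
  have h6 := key 2 (by norm_num) 4 (by norm_num) h2 h4
  have h7 := key 3 (by norm_num) 4 (by norm_num) h3 h4
  intro v hv
  interval_cases v
  exacts [h0, h1, h2, h3, h4, h5, h6, h7, h8, key 1 (by norm_num) 8 (by norm_num) h1 h8,
    key 2 (by norm_num) 8 (by norm_num) h2 h8, key 3 (by norm_num) 8 (by norm_num) h3 h8,
    key 4 (by norm_num) 8 (by norm_num) h4 h8, key 5 (by norm_num) 8 (by norm_num) h5 h8,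
    key 6 (by norm_num) 8 (by norm_num) h6 h8, key 7 (by norm_num) 8 (by norm_num) h7 h8]

theorem xor_lt_sixteen : ∀ v < 16, ∀ w < 16, v ^^^ w < 16 := by decide +kernel

theorem xor_four : ∀ a < 16, ∀ b < 16, ∀ c < 16, (a ^^^ b) ^^^ c = a ^^^ (b ^^^ c) ∧ a ^^^ b = b ^^^ a := by
  decide +kernel

theorem app_add (C v w : ℕ) (hv : v < 16) (hw : w < 16) : app C (v ^^^ w) = app C v ^^^ app C w := by
  have key : ∀ v < 16, ∀ w < 16,
      ((v ^^^ w) % 2 = 1 ↔ ¬ (v % 2 = 1 ↔ w % 2 = 1)) ∧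
      ((v ^^^ w) / 2 % 2 = 1 ↔ ¬ (v / 2 % 2 = 1 ↔ w / 2 % 2 = 1)) ∧
      ((v ^^^ w) / 4 % 2 = 1 ↔ ¬ (v / 4 % 2 = 1 ↔ w / 4 % 2 = 1)) ∧
      ((v ^^^ w) / 8 % 2 = 1 ↔ ¬ (v / 8 % 2 = 1 ↔ w / 8 % 2 = 1)) := by decide +kernel
  obtain ⟨k1, k2, k3, k4⟩ := key v hv w hw
  have sel : ∀ (p q r : Prop) [Decidable p] [Decidable q] [Decidable r] (c : ℕ), (r ↔ ¬ (p ↔ q)) →
      (if r then c else 0) = (if p then c else 0) ^^^ (if q then c else 0) := by
    intro p q r _ _ _ c h
    by_cases hp : p <;> by_cases hq : q <;> simp [h, hp, hq]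
  unfold app
  rw [sel _ _ _ _ k1, sel _ _ _ _ k2, sel _ _ _ _ k3, sel _ _ _ _ k4]
  ac_rfl

theorem app_code : ∀ a < 16, ∀ b < 16, app (code a b 0 0) 1 = a ∧ app (code a b 0 0) 2 = b := by
  decide +kernel

theorem app_code_basis {a b c d : ℕ} (ha : a < 16) (hb : b < 16) (hc : c < 16) (hd : d < 16) :
    app (code a b c d) 1 = a ∧ app (code a b c d) 2 = b ∧ app (code a b c d) 4 = c ∧ app (code a b c d) 8 = d := by
  have e1 : code a b c d % 16 = a := by unfold code; omega
  have e2 : code a b c d / 16 % 16 = b := by unfold code; omega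
  have e3 : code a b c d / 256 % 16 = c := by unfold code; omega
  have e4 : code a b c d / 4096 % 16 = d := by unfold code; omega
  simp [app, e1, e2, e3, e4]

end Lin

namespace Hyp

variable {G : Type*} [Group G] (S : Hyp G)

/-- The normalizer of `A`. -/
def N : Subgroup G := normalizer (S.A : Set G)

theorem exists_img {n : G} (hn : n ∈ S.N) {v : ℕ} (hv : v < 16) :
    ∃ w < 16, S.φ (el w) = n * S.φ (el v) * n⁻¹ :=
  S.mem_A_iff.1 ((mem_normalizer_iff.1 hn _).1 (S.mem_A.2 (el_spec.1 v hv)))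

open Classical in
/-- The substitution induced by an element of the normalizer. -/
noncomputable def act (n : G) (v : ℕ) : ℕ :=
  if h : ∃ w < 16, S.φ (el w) = n * S.φ (el v) * n⁻¹ then h.choose else 0

theorem act_spec {n : G} (hn : n ∈ S.N) {v : ℕ} (hv : v < 16) :
    S.act n v < 16 ∧ S.φ (el (S.act n v)) = n * S.φ (el v) * n⁻¹ := by
  unfold act
  rw [dif_pos (S.exists_img hn hv)]
  exact (S.exists_img hn hv).choose_spec

theorem act_unique {n : G} (hn : n ∈ S.N) {v w : ℕ} (hv : v < 16) (hw : w < 16)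
    (h : S.φ (el w) = n * S.φ (el v) * n⁻¹) : S.act n v = w := by
  obtain ⟨h1, h2⟩ := S.act_spec hn hv
  exact el_spec.2.2.2 _ h1 _ hw (S.inj (h2.trans h.symm))

theorem act_add {n : G} (hn : n ∈ S.N) : ∀ v < 16, ∀ w < 16, S.act n (v ^^^ w) = S.act n v ^^^ S.act n w := by
  intro v hv w hw
  obtain ⟨h1, h2⟩ := S.act_spec hn hv
  obtain ⟨h3, h4⟩ := S.act_spec hn hw
  refine S.act_unique hn (Lin.xor_lt_sixteen v hv w hw) (Lin.xor_lt_sixteen _ h1 _ h3) ?_
  rw [el_spec.2.2.1 _ h1 _ h3, el_spec.2.2.1 v hv w hw, map_mul, map_mul, h2, h4]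
  group

/-- The code of the substitution induced by an element of the normalizer. -/
noncomputable def code (n : G) : ℕ := Lin.code (S.act n 1) (S.act n 2) (S.act n 4) (S.act n 8)

theorem app_code {n : G} (hn : n ∈ S.N) : ∀ v < 16, Lin.app (S.code n) v = S.act n v := by
  obtain ⟨h1, h2, h4, h8⟩ := Lin.app_code_basis (S.act_spec hn (v := 1) (by norm_num)).1
    (S.act_spec hn (v := 2) (by norm_num)).1 (S.act_spec hn (v := 4) (by norm_num)).1
    (S.act_spec hn (v := 8) (by norm_num)).1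
  exact Lin.ext_of_add (fun v hv w hw => Lin.app_add _ v w hv hw) (S.act_add hn) h1 h2 h4 h8

theorem act_mul {n n' : G} (hn : n ∈ S.N) (hn' : n' ∈ S.N) {v : ℕ} (hv : v < 16) :
    S.act (n * n') v = S.act n (S.act n' v) := by
  obtain ⟨h1, h2⟩ := S.act_spec hn' hv
  obtain ⟨h3, h4⟩ := S.act_spec hn h1
  refine S.act_unique (mul_mem hn hn') hv h3 ?_
  rw [h4, h2]; group

theorem code_mul {n n' : G} (hn : n ∈ S.N) (hn' : n' ∈ S.N) :
    S.code (n * n') = Lin.comp (S.code n) (S.code n') := by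
  have key : ∀ v < 16, S.act (n * n') v = Lin.app (S.code n) (Lin.app (S.code n') v) := by
    intro v hv
    rw [S.act_mul hn hn' hv, S.app_code hn' v hv, S.app_code hn _ (S.act_spec hn' hv).1]
  rw [code, Lin.comp, key 1 (by norm_num), key 2 (by norm_num), key 4 (by norm_num), key 8 (by norm_num)]

theorem code_inv {n : G} (hn : n ∈ S.N) : S.code n⁻¹ = Lin.inv (S.code n) := by
  have key : ∀ v < 16, S.act n⁻¹ v = Lin.pre (S.code n) v := by
    intro v hv
    obtain ⟨h1, h2⟩ := S.act_spec (inv_mem hn) hv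
    have hiff : ∀ w < 16, Lin.app (S.code n) w = v ↔ w = S.act n⁻¹ v := by
      intro w hw
      rw [S.app_code hn w hw]
      constructor
      · intro h
        refine (S.act_unique (inv_mem hn) hv hw ?_).symm
        rw [← h, (S.act_spec hn hw).2]; group
      · rintro rfl
        exact S.act_unique hn h1 hv (by rw [h2]; group)
    unfold Lin.pre
    rcases hf : (List.range 16).find? (fun w => Lin.app (S.code n) w == v) with - | w
    · have := List.find?_eq_none.1 hf _ (List.mem_range.2 h1)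
      exact absurd (beq_iff_eq.2 ((hiff _ h1).2 rfl)) this
    · have hw := List.mem_range.1 (List.mem_of_find?_eq_some hf)
      have h := beq_iff_eq.1 (List.find?_some hf :)
      exact ((hiff w hw).1 h).symm
  rw [code, Lin.inv, key 1 (by norm_num), key 2 (by norm_num), key 4 (by norm_num), key 8 (by norm_num)]

theorem phi_mem_N {k : K} (hk : NormA k) : S.φ k ∈ S.N := by
  have : Finite S.A := Nat.finite_of_card_ne_zero (by rw [S.card_A]; norm_num)
  have hmap : S.A.map (MulAut.conj (S.φ k)).toMonoidHom = S.A := by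
    refine eq_of_le_of_card_ge ?_ ?_
    · rintro _ ⟨a, ⟨l, hl, rfl⟩, rfl⟩
      exact ⟨k * l * k⁻¹, hk l hl, by simp [map_mul, map_inv]⟩
    · exact (card_map_of_injective (MulAut.conj (S.φ k)).injective).ge
  rw [N, mem_normalizer_iff]
  intro a
  constructor
  · intro ha; exact hmap ▸ mem_map_of_mem (MulAut.conj (S.φ k)).toMonoidHom ha
  · intro ha
    rw [← hmap] at ha
    obtain ⟨b, hb, hba⟩ := ha
    rwa [(MulAut.conj (S.φ k)).injective hba] at hb

theorem normA_of_mem {k : K} (hk : S.φ k ∈ S.N) : NormA k := by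
  intro a ha
  have := (mem_normalizer_iff.1 hk _).1 (S.mem_A.2 ha)
  rw [← map_inv, ← map_mul, ← map_mul] at this
  exact S.mem_A.1 this

theorem stab_lt {m : ℕ} (hm : m ∈ Lin.stab) : ∀ v < 16, Lin.app m v < 16 := by
  have h : ∀ m ∈ Lin.stab, ∀ v < 16, Lin.app m v < 16 := by decide +kernel
  exact h m hm

theorem code_phi {k : K} (hk : NormA k) : S.code (S.φ k) ∈ Lin.stab := by
  obtain ⟨m, hm, h1, h2, h4, h8⟩ := normA_code k hk
  have e : ∀ v < 16, k * el v * k⁻¹ = el (Lin.app m v) → S.act (S.φ k) v = Lin.app m v := fun v hv h =>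
    S.act_unique (S.phi_mem_N hk) hv (stab_lt hm v hv) (by rw [← h, map_mul, map_mul, map_inv])
  rw [code, e 1 (by norm_num) h1, e 2 (by norm_num) h2, e 4 (by norm_num) h4, e 8 (by norm_num) h8,
    stab_columns m hm]
  exact hm

theorem exists_code {m : ℕ} (hm : m ∈ Lin.stab) : ∃ k, NormA k ∧ S.code (S.φ k) = m := by
  obtain ⟨k, hk, h1, h2, h4, h8⟩ := stab_code m hm
  refine ⟨k, hk, ?_⟩
  have e : ∀ v < 16, k * el v * k⁻¹ = el (Lin.app m v) → S.act (S.φ k) v = Lin.app m v := fun v hv h =>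
    S.act_unique (S.phi_mem_N hk) hv (stab_lt hm v hv) (by rw [← h, map_mul, map_mul, map_inv])
  rw [code, e 1 (by norm_num) h1, e 2 (by norm_num) h2, e 4 (by norm_num) h4, e 8 (by norm_num) h8,
    stab_columns m hm]

theorem not_bad {n : G} (hn : n ∈ S.N) : Lin.bad (S.code n) = false := by
  rw [Lin.bad, Bool.and_eq_false_iff]
  by_cases h : S.act n 1 = 1
  · right
    obtain ⟨-, h2⟩ := S.act_spec hn (v := 1) (by norm_num)
    rw [h, el_values.2.1, S.map_z] at h2
    obtain ⟨k, rfl⟩ := S.exists_eq (g := n) (eq_mul_inv_iff_mul_eq.1 h2).symm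
    simp [S.code_phi (S.normA_of_mem hn)]
  · left
    rw [S.app_code hn 1 (by norm_num)]
    simpa using h

theorem not_viol {n : G} (hn : n ∈ S.N) : Lin.viol (S.code n) = false := by
  rw [Lin.viol, List.any_eq_false]
  intro m hm
  obtain ⟨k, hk, rfl⟩ := S.exists_code hm
  have hk' := S.phi_mem_N hk
  rw [← S.code_inv hn, ← S.code_mul hn hk', ← S.code_mul (mul_mem hn hk') hn,
    ← S.code_mul (mul_mem hn hk') (inv_mem hn), ← S.code_mul (inv_mem hn) hk',
    ← S.code_mul (mul_mem (inv_mem hn) hk') hn, S.not_bad (mul_mem (mul_mem hn hk') hn),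
    S.not_bad (mul_mem (mul_mem hn hk') (inv_mem hn)), S.not_bad (mul_mem (mul_mem (inv_mem hn) hk') hn)]
  simp

theorem act_one_phi {k : K} (hk : NormA k) : S.act (S.φ k) 1 = 1 :=
  S.act_unique (S.phi_mem_N hk) (by norm_num) (by norm_num)
    (by rw [el_values.2.1, ← map_inv, ← map_mul, ← map_mul, ← z_central k, mul_inv_cancel_right])

/-- An element carrying `1` to `o` can be taken among the representatives. -/
theorem exists_rep {o : ℕ} (hs : Lin.sieveB o = true) {n : G} (hn : n ∈ S.N)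
    (h : S.act n 1 = o) : ∃ n' ∈ S.N, S.code n' ∈ Lin.reps o ∧ S.act n' 1 = o := by
  simp only [Lin.sieveB, List.all_eq_true, List.mem_range, Bool.or_eq_true, Bool.not_eq_true',
    List.any_eq_true, List.contains_iff_mem] at hs
  have hlt := fun v hv => (S.act_spec hn (v := v) hv).1
  have he : S.code n = Lin.code o (S.act n 2) (S.act n 4) (S.act n 8) := by rw [code, h]
  rcases hs _ (hlt 2 (by norm_num)) _ (hlt 4 (by norm_num)) _ (hlt 8 (by norm_num)) with (hi | hv) | ⟨m, hm, hr⟩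
  · rw [← he] at hi
    exfalso
    have : Lin.injB (S.code n) = true := by
      simp only [Lin.injB, List.all_eq_true, List.mem_range, Bool.or_eq_true, beq_iff_eq, bne_iff_ne]
      intro v hv
      refine or_iff_not_imp_left.2 fun hv0 h0 => hv0 ?_
      rw [S.app_code hn v hv] at h0
      obtain ⟨-, h2⟩ := S.act_spec hn hv
      rw [h0, el_values.1, map_one] at h2
      exact el_spec.2.2.2 v hv 0 (by norm_num) (S.inj (by rw [conj_eq_one_iff.1 h2.symm, el_values.1, map_one]))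
    simp [this] at hi
  · rw [← he, S.not_viol hn] at hv; simp at hv
  · obtain ⟨k, hk, rfl⟩ := S.exists_code hm
    refine ⟨n * S.φ k, mul_mem hn (S.phi_mem_N hk), ?_, ?_⟩
    · rw [S.code_mul hn (S.phi_mem_N hk), he]; exact hr
    · rw [S.act_mul hn (S.phi_mem_N hk) (by norm_num), S.act_one_phi hk, h]

/-- The point is in the orbit of `1`. -/
def InOrb (v : ℕ) : Prop := ∃ n ∈ S.N, S.act n 1 = v

theorem not_both {o o' : ℕ} (hs : Lin.sieveB o = true) (hs' : Lin.sieveB o' = true)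
    (hp : Lin.pairB o o' = true) (h : S.InOrb o) : ¬ S.InOrb o' := by
  rintro ⟨n', hn', h'⟩
  obtain ⟨n, hn, h⟩ := h
  obtain ⟨a, ha, hra, -⟩ := S.exists_rep hs hn h
  obtain ⟨b, hb, hrb, -⟩ := S.exists_rep hs' hn' h'
  simp only [Lin.pairB, List.all_eq_true, List.any_eq_true, Bool.or_eq_true] at hp
  obtain ⟨m, hm, hw⟩ := hp _ hra _ hrb
  obtain ⟨k, hk, rfl⟩ := S.exists_code hm
  have hk' := S.phi_mem_N hk
  rw [← S.code_inv ha, ← S.code_mul ha hk', ← S.code_mul (mul_mem ha hk') hb,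
    ← S.code_mul (inv_mem ha) hk', ← S.code_mul (mul_mem (inv_mem ha) hk') hb,
    S.not_bad (mul_mem (mul_mem ha hk') hb), S.not_viol (mul_mem (mul_mem ha hk') hb),
    S.not_bad (mul_mem (mul_mem (inv_mem ha) hk') hb), S.not_viol (mul_mem (mul_mem (inv_mem ha) hk') hb)] at hw
  simp at hw

theorem inOrb_class {o : List ℕ} (ho : o ∈ [[2, 4, 8, 15], [3, 5, 9, 14], [6, 7, 10, 11, 12, 13]]) {v w : ℕ}
    (hv : v ∈ o) (hw : w ∈ o) (h : S.InOrb v) : S.InOrb w := by
  have hlt : ∀ o ∈ [[2, 4, 8, 15], [3, 5, 9, 14], [6, 7, 10, 11, 12, 13]], ∀ v ∈ (o : List ℕ), v < 16 := by decide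
  obtain ⟨n, hn, h1⟩ := h
  obtain ⟨k, hk, hkv⟩ := normA_orbit o ho v hv w hw
  refine ⟨S.φ k * n, mul_mem (S.phi_mem_N hk) hn, ?_⟩
  rw [S.act_mul (S.phi_mem_N hk) hn (by norm_num), h1]
  exact S.act_unique (S.phi_mem_N hk) (hlt o ho v hv) (hlt o ho w hw) (by rw [← hkv, map_mul, map_mul, map_inv])

variable [Finite G]

theorem inOrb_iff {v : ℕ} (hv : v < 16) : S.InOrb v ↔ IsConj S.t (S.φ (el v)) := by
  constructor
  · rintro ⟨n, hn, h⟩
    obtain ⟨-, h2⟩ := S.act_spec hn (v := 1) (by norm_num)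
    rw [h, el_values.2.1, S.map_z] at h2
    exact isConj_iff.2 ⟨n, h2.symm⟩
  · intro h
    obtain ⟨g, hg⟩ := isConj_iff.1 h
    obtain ⟨n, hn, hn'⟩ := S.conj_in_normalizer S.t_mem_A (g := g) (hg ▸ S.mem_A.2 (el_spec.1 v hv))
    refine ⟨n, hn, S.act_unique hn (by norm_num) hv ?_⟩
    rw [el_values.2.1, S.map_z, hn', hg]

theorem point_cases : ∀ v < 16, v ≠ 0 → v = 1 ∨ v ∈ [2, 4, 8, 15] ∨ v ∈ [3, 5, 9, 14] ∨
    v ∈ [6, 7, 10, 11, 12, 13] := by
  decide

/-- Not all the conjugates of the involution in `A` are of the third kind. -/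
theorem not_six_only (h2 : ¬ S.InOrb 2) (h3 : ¬ S.InOrb 3) : ¬ S.InOrb 6 := by
  intro h6
  obtain ⟨n, hn, hn1⟩ := h6
  obtain ⟨a, ha, hra, -⟩ := S.exists_rep Lin.sieve_six hn hn1
  have hseven : ∀ v < 16, S.InOrb v → v ∈ [1, 6, 7, 10, 11, 12, 13] := by
    rintro v hv ⟨m, hm, hv'⟩
    have hv0 : v ≠ 0 := by
      rintro rfl
      obtain ⟨-, e⟩ := S.act_spec hm (v := 1) (by norm_num)
      rw [hv', el_values.1, map_one, el_values.2.1, S.map_z] at e
      exact S.t_ne (conj_eq_one_iff.1 e.symm)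
    rcases point_cases v hv hv0 with rfl | h | h | h
    · simp
    · exact absurd (S.inOrb_class (List.mem_cons_self) h (by simp) ⟨m, hm, hv'⟩) h2
    · exact absurd (S.inOrb_class (List.mem_cons_of_mem _ List.mem_cons_self) h (by simp) ⟨m, hm, hv'⟩) h3
    · simp only [List.mem_cons, List.not_mem_nil, or_false] at h ⊢
      exact Or.inr h
  obtain ⟨v, hv, hva⟩ := Lin.seven_check _ hra
  have hvlt : v < 16 := by
    simp only [List.mem_cons, List.not_mem_nil, or_false] at hv; omega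
  have horb : S.InOrb v := by
    by_cases hv1 : v = 1
    · exact ⟨1, one_mem _, hv1.symm ▸ S.act_unique (one_mem _) (by norm_num) (by norm_num) (by simp)⟩
    · refine S.inOrb_class (List.mem_cons_of_mem _ (List.mem_cons_of_mem _ List.mem_cons_self))
        (by simp : 6 ∈ [6, 7, 10, 11, 12, 13]) ?_ ⟨n, hn, hn1⟩
      simp only [List.mem_cons, List.not_mem_nil, or_false] at hv ⊢
      exact hv.resolve_left hv1
  obtain ⟨m, hm, hm1⟩ := horb
  rw [S.app_code ha v hvlt] at hva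
  exact hva (hseven _ (S.act_spec ha hvlt).1 ⟨a * m, mul_mem ha hm, by rw [S.act_mul ha hm (by norm_num), hm1]⟩)

end Hyp

end CfsgLib.SpCentInv
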