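import Cfsg.Agent.Lib.Recognition.SpCentInv.Second
import Cfsg.Agent.S0213

/-!
The order of a group with the given involution centralizer.
-/

set_option autoImplicit false
set_option linter.unusedSectionVars false
set_option maxRecDepth 4000

namespace CfsgLib.SpCentInv

open Subgroup

theorem exists_small_period : ∀ w : K, ∃ m < 12, w ^ (m + 1) = 1 := by decide +kernel

theorem exists_small_pow {w a : K} (ha : a ≠ 1) (h : a ∈ zpowers w) : ∃ k < 12, w ^ (k + 1) = a := by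
  obtain ⟨m, hm, hw⟩ := exists_small_period w
  obtain ⟨i, hi⟩ := h
  have hred : w ^ (i % ((m + 1 : ℕ) : ℤ)) = a := by
    have e := Int.mul_ediv_add_emod i ((m + 1 : ℕ) : ℤ)
    have hi' : w ^ i = a := hi
    rw [← hi']
    conv_rhs => rw [← e, zpow_add, zpow_mul, zpow_natCast, hw, one_zpow, one_mul]
  obtain ⟨r, hr⟩ := Int.eq_ofNat_of_zero_le (Int.emod_nonneg i (b := ((m + 1 : ℕ) : ℤ)) (by omega))
  have hlt := Int.emod_lt_of_pos i (b := ((m + 1 : ℕ) : ℤ)) (by omega)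
  rw [hr, zpow_natCast] at hred
  rcases Nat.eq_zero_or_pos r with rfl | hr0
  · exact absurd (by simpa using hred.symm) ha
  · exact ⟨r - 1, by omega, by rw [Nat.sub_add_cancel hr0]; exact hred⟩

theorem pairs_center_nodup : ((z :: oneK).product restK).Nodup := by decide +kernel

theorem swap_values : (∀ v < 16, Lin.app swapCode v < 16) ∧ Lin.app swapCode 6 = 9 := by decide +kernel

theorem oneK_csK : ∀ k ∈ oneK, k ∈ csK → k ∈ aK := by decide +kernel

theorem commute_of_zpowers {M : Type*} [Group M] {i j a : M} (hi : i * i = 1) (hj : j * j = 1)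
    (ha : a * a = 1) (h : a ∈ zpowers (i * j)) : i * a = a * i ∧ j * a = a * j := by
  obtain ⟨k, hk⟩ := h
  change (i * j) ^ k = a at hk
  have hii : i⁻¹ = i := inv_eq_of_mul_eq_one_right hi
  have hjj : j⁻¹ = j := inv_eq_of_mul_eq_one_right hj
  have hai : a⁻¹ = a := inv_eq_of_mul_eq_one_right ha
  have e1 : i * a * i⁻¹ = a := by
    calc i * a * i⁻¹ = (i * (i * j) * i⁻¹) ^ k := by rw [conj_zpow, hk]
      _ = (i * j)⁻¹ ^ k := by
        congr 1
        rw [← mul_assoc, hi, one_mul, mul_inv_rev, hii, hjj]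
      _ = a := by rw [inv_zpow, hk, hai]
  have e2 : i * j * a * (i * j)⁻¹ = a := by
    rw [← hk, ((Commute.refl (i * j)).zpow_right k).eq, mul_inv_cancel_right]
  refine ⟨mul_inv_eq_iff_eq_mul.1 e1, mul_inv_eq_iff_eq_mul.1 ?_⟩
  calc j * a * j⁻¹ = i⁻¹ * (i * j * a * (i * j)⁻¹) * i := by group
    _ = i⁻¹ * a * i := by rw [e2]
    _ = i⁻¹ * (i * a * i⁻¹) * i := by rw [e1]
    _ = a := by group

theorem card_image_list {α β : Type*} (L : List α) (hL : L.Nodup) (f : α → β)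
    (hf : ∀ a ∈ L, ∀ b ∈ L, f a = f b → a = b) (P : β → Prop) (h : ∀ b, P b ↔ ∃ a ∈ L, f a = b) :
    Nat.card {b // P b} = L.length := by
  classical
  rw [Nat.card_congr (Equiv.subtypeEquivRight (q := fun b => b ∈ (L.map f).toFinset) fun b => by
      rw [h, List.mem_toFinset, List.mem_map]), Nat.card_eq_fintype_card, Fintype.card_coe,
    List.toFinset_card_of_nodup (hL.map_on hf), List.length_map]

namespace Hyp

variable {G : Type*} [Group G] [Finite G] (S : Hyp G)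

/-- An involution with the prescribed action on the centralizer of `sg`. -/
structure Swap (g : G) : Prop where
  mem_N : g ∈ S.N
  mem_H : g ∈ S.H
  sq : g * g = 1
  map_t : g * S.t * g = S.φ sg
  map_x : g * S.φ x * g = S.φ (x * x)
  map_s : g * S.φ s * g = S.φ s₃

variable {S}

theorem Swap.inv {g : G} (hg : S.Swap g) : g⁻¹ = g := inv_eq_of_mul_eq_one_right hg.sq

theorem Swap.code {g : G} (hg : S.Swap g) : S.code g = swapCode := by
  have hc : ∀ a b : K, g * S.φ a * g = S.φ b → S.φ b = g * S.φ a * g⁻¹ := fun a b h => by rw [hg.inv, h]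
  have hr : ∀ a b : K, g * S.φ a * g = S.φ b → g * S.φ b * g = S.φ a := fun a b h => by
    rw [← h]
    calc g * (g * S.φ a * g) * g = g * g * S.φ a * (g * g) := by group
      _ = _ := by rw [hg.sq, one_mul, mul_one]
  have ht : g * S.φ z * g = S.φ sg := by rw [S.map_z]; exact hg.map_t
  rw [Hyp.code, S.act_unique hg.mem_N (w := 2) (by norm_num) (by norm_num)
      (by rw [el_values.2.2.1, el_values.2.1]; exact hc _ _ ht),
    S.act_unique hg.mem_N (w := 1) (by norm_num) (by norm_num)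
      (by rw [el_values.2.2.1, el_values.2.1]; exact hc _ _ (hr _ _ ht)),
    S.act_unique hg.mem_N (w := 8) (by norm_num) (by norm_num)
      (by rw [el_values.2.2.2.1, el_values.2.2.2.2.1]; exact hc _ _ hg.map_s),
    S.act_unique hg.mem_N (w := 4) (by norm_num) (by norm_num)
      (by rw [el_values.2.2.2.1, el_values.2.2.2.2.1]; exact hc _ _ (hr _ _ hg.map_s))]
  rfl

theorem Swap.conj_el {g : G} (hg : S.Swap g) {v : ℕ} (hv : v < 16) :
    g * S.φ (el v) * g = S.φ (el (Lin.app swapCode v)) := by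
  rw [← hg.code, S.app_code hg.mem_N v hv, (S.act_spec hg.mem_N hv).2, hg.inv]

theorem Swap.conj_csEl {g : G} (hg : S.Swap g) {v : ℕ} (hv : v < 16) (i : ℕ) :
    g * S.φ (csEl v i) * g = S.φ (csImg v i) := by
  rw [csEl, csImg, map_mul, map_mul, ← hg.conj_el hv, pow_mul, map_pow, map_pow, pow_two, ← hg.map_x]
  conv_rhs => rw [show g * S.φ x * g = g * S.φ x * g⁻¹ by rw [hg.inv], conj_pow, hg.inv]
  calc g * (S.φ (el v) * S.φ x ^ i) * g = g * S.φ (el v) * (g * g) * S.φ x ^ i * g := by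
        rw [hg.sq]; group
    _ = _ := by group

theorem Swap.not_mem {g : G} (hg : S.Swap g) (k l : K) : g * S.φ k ≠ S.φ l := by
  intro h
  have hg' : g = S.φ (l * k⁻¹) := by rw [map_mul, map_inv, ← h, mul_inv_cancel_right]
  have h1 := hg.map_t
  have h2 := hg.sq
  rw [hg'] at h1 h2
  rw [S.commute_t, mul_assoc, h2, mul_one] at h1
  exact z_ne.2.2.2.2 (S.inj (h1.symm.trans S.map_z.symm))

variable (S)

theorem exists_Swap (hσ : IsConj S.t (S.φ sg)) : ∃ g, S.Swap g := by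
  obtain ⟨g, h1, h2, h3, h4, h5, h6⟩ := S.exists_g hσ
  exact ⟨g, ⟨h1, h2, h3, h4, h5, h6⟩⟩

variable (hσ : IsConj S.t (S.φ sg))
include hσ

theorem mem_H_cases {g : G} (hg : S.Swap g) {h : G} (hh : h ∈ S.H) :
    ∃ k ∈ csK, h = S.φ k ∨ h = g * S.φ k := by
  rcases S.conj_t_H hσ hh with e | e
  · obtain ⟨k, hk, rfl⟩ := S.cent_t_H hh (mul_inv_eq_iff_eq_mul.1 e)
    exact ⟨k, hk, Or.inl rfl⟩
  · have hfix : g * h * S.t * (g * h)⁻¹ = S.t := by
      calc g * h * S.t * (g * h)⁻¹ = g * (h * S.t * h⁻¹) * g⁻¹ := by group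
        _ = g * (g * S.t * g) * g⁻¹ := by rw [e, hg.map_t]
        _ = g * g * S.t * (g * g⁻¹) := by group
        _ = S.t := by rw [hg.sq, mul_inv_cancel, one_mul, mul_one]
    obtain ⟨k, hk, hkh⟩ := S.cent_t_H (mul_mem hg.mem_H hh) (mul_inv_eq_iff_eq_mul.1 hfix)
    exact ⟨k, hk, Or.inr (by rw [hkh, ← mul_assoc, hg.sq, one_mul])⟩

theorem card_H : Nat.card S.H = 96 := by
  obtain ⟨g, hg⟩ := S.exists_Swap hσ
  let f : K ⊕ K → G := Sum.elim S.φ fun k => g * S.φ k
  have h := card_image_list (csK.map Sum.inl ++ csK.map Sum.inr)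
    (List.nodup_append.2 ⟨csK_nodup.1.map Sum.inl_injective, csK_nodup.1.map Sum.inr_injective, by
      intro a ha b hb
      obtain ⟨k, -, rfl⟩ := List.mem_map.1 ha
      obtain ⟨l, -, rfl⟩ := List.mem_map.1 hb
      exact Sum.inl_ne_inr⟩) f (by
      rintro (a | a) - (b | b) - h
      · exact congrArg Sum.inl (S.inj h)
      · exact absurd h.symm (hg.not_mem b a)
      · exact absurd h (hg.not_mem a b)
      · exact congrArg Sum.inr (S.inj (mul_left_cancel h))) (fun b => b ∈ S.H) (by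
      intro b
      constructor
      · intro hb
        obtain ⟨k, hk, rfl | rfl⟩ := S.mem_H_cases hσ hg hb
        · exact ⟨Sum.inl k, List.mem_append_left _ (List.mem_map_of_mem hk), rfl⟩
        · exact ⟨Sum.inr k, List.mem_append_right _ (List.mem_map_of_mem hk), rfl⟩
      · rintro ⟨a, ha, rfl⟩
        rcases List.mem_append.1 ha with ha | ha <;> obtain ⟨k, hk, rfl⟩ := List.mem_map.1 ha
        · exact S.phi_mem_H.2 hk
        · exact mul_mem hg.mem_H (S.phi_mem_H.2 hk))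
  rw [List.length_append, List.length_map, List.length_map, csK_nodup.2] at h
  exact h

theorem not_isConj_u : ¬ IsConj S.t S.u := by
  rw [← S.phi_el_three, S.isConj_el_iff hσ (by norm_num)]
  decide

theorem isConj_u_el {v : ℕ} (hv : v ∈ [3, 5, 9, 14, 6, 7, 10, 11, 12, 13]) : IsConj S.u (S.φ (el v)) := by
  obtain ⟨g, hg⟩ := S.exists_Swap hσ
  have key : ∀ a b : ℕ, ∀ o ∈ [[2, 4, 8, 15], [3, 5, 9, 14], [6, 7, 10, 11, 12, 13]], a ∈ (o : List ℕ) →
      b ∈ o → IsConj (S.φ (el a)) (S.φ (el b)) := by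
    intro a b o ho ha hb
    obtain ⟨k, -, hk⟩ := normA_orbit o ho a ha b hb
    exact isConj_iff.2 ⟨S.φ k, by rw [S.phi_conj, hk]⟩
  rw [← S.phi_el_three]
  by_cases h3 : v ∈ [3, 5, 9, 14]
  · exact key 3 v _ (List.mem_cons_of_mem _ List.mem_cons_self) (by simp) h3
  · have h6 : v ∈ [6, 7, 10, 11, 12, 13] := by
      simp only [List.mem_cons, List.not_mem_nil, or_false] at hv h3 ⊢; omega
    refine ((key 3 9 _ (List.mem_cons_of_mem _ List.mem_cons_self) (by simp) (by simp)).trans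
      (isConj_iff.2 ⟨g, ?_⟩)).trans
      (key 6 v _ (List.mem_cons_of_mem _ (List.mem_cons_of_mem _ List.mem_cons_self)) (by simp) h6)
    rw [hg.inv, ← swap_values.2, ← hg.conj_el (by norm_num)]
    calc g * (g * S.φ (el 6) * g) * g = g * g * S.φ (el 6) * (g * g) := by group
      _ = _ := by rw [hg.sq, one_mul, mul_one]

theorem isConj_u_phi {k : K} (hk : k ∈ restK) : IsConj S.u (S.φ k) := by
  obtain ⟨c, v, hv, hv0, hv1, hcv⟩ := exists_conj_el (Or.inr hk)
  have hconj : IsConj (S.φ k) (S.φ (el v)) := isConj_iff.2 ⟨S.φ c, by rw [S.phi_conj, hcv]⟩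
  refine IsConj.trans (S.isConj_u_el hσ ?_) hconj.symm
  rcases point_cases v hv hv0 with h | h | h | h
  · exact absurd h hv1
  · exfalso
    have ht := ((S.isConj_el_iff hσ hv).2 (List.mem_cons_of_mem _ h)).trans hconj.symm
    rcases (S.isConj_phi_iff hσ k).1 ht with e | e
    · exact (restK_spec k hk).2.2 e
    · exact (oneK_spec k e).2.2.2 hk
  · simp only [List.mem_cons, List.not_mem_nil, or_false] at h ⊢; omega
  · simp only [List.mem_cons, List.not_mem_nil, or_false] at h ⊢; omega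

theorem involution_phi {k : K} (hk : k * k = 1) (h1 : k ≠ 1) :
    IsConj S.t (S.φ k) ∨ IsConj S.u (S.φ k) := by
  rcases involution_cases k hk with e | e | e | e
  · exact absurd e h1
  · exact Or.inl ((S.isConj_phi_iff hσ k).2 (Or.inl e))
  · exact Or.inl ((S.isConj_phi_iff hσ k).2 (Or.inr e))
  · exact Or.inr (S.isConj_u_phi hσ e)

theorem involution_cases' {a : G} (ha : orderOf a = 2) : IsConj S.t a ∨ IsConj S.u a := by
  have : Fact (Nat.Prime 2) := ⟨Nat.prime_two⟩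
  obtain ⟨R', hR'⟩ := (IsPGroup.of_card (p := 2) (G := zpowers a) (n := 1)
    (by rw [Nat.card_zpowers, ha, pow_one])).exists_le_sylow
  obtain ⟨R₀, hR₀⟩ := S.exists_sylow
  obtain ⟨c, hc⟩ := MulAction.exists_smul_eq G R' R₀
  have h1 : c * a * c⁻¹ ∈ S.P := by
    rw [← hR₀, ← hc, Sylow.coe_subgroup_smul]
    exact Subgroup.smul_mem_pointwise_smul a (MulAut.conj c) _ (hR' (mem_zpowers a))
  obtain ⟨l, -, hl⟩ := h1
  have hca : IsConj (S.φ l) a := (isConj_iff.2 ⟨c, hl.symm⟩ : IsConj a (S.φ l)).symm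
  have ha2 : a * a = 1 := by rw [← pow_two, ← ha]; exact pow_orderOf_eq_one a
  have ha1 : a ≠ 1 := fun e => by rw [e, orderOf_one] at ha; norm_num at ha
  refine (S.involution_phi hσ (k := l) (S.inj ?_) ?_).imp (·.trans hca) (·.trans hca)
  · rw [map_mul, map_one, hl]
    calc c * a * c⁻¹ * (c * a * c⁻¹) = c * (a * a) * c⁻¹ := by group
      _ = 1 := by rw [ha2]; group
  · intro e
    rw [e, map_one] at hl
    exact ha1 (conj_eq_one_iff.1 hl.symm)

theorem not_conj_both {a : G} (h : IsConj S.t a) : ¬ IsConj S.u a :=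
  fun h' => S.not_isConj_u hσ (h.trans h'.symm)

theorem isConj_u_phi_iff {k : K} : IsConj S.u (S.φ k) ↔ k ∈ restK := by
  refine ⟨fun h => ?_, S.isConj_u_phi hσ⟩
  obtain ⟨c, hc⟩ := isConj_iff.1 h
  have hk2 : k * k = 1 := S.inj (by
    rw [map_mul, ← hc, map_one]
    calc c * S.u * c⁻¹ * (c * S.u * c⁻¹) = c * (S.u * S.u) * c⁻¹ := by group
      _ = 1 := by rw [S.u_sq]; group)
  rcases involution_cases k hk2 with e | e | e | e
  · rw [e, map_one] at hc
    exact absurd (conj_eq_one_iff.1 hc) S.u_ne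
  · exact absurd h (S.not_conj_both hσ ((S.isConj_phi_iff hσ k).2 (Or.inl e)))
  · exact absurd h (S.not_conj_both hσ ((S.isConj_phi_iff hσ k).2 (Or.inr e)))
  · exact e

theorem not_conj_outer {g : G} (hg : S.Swap g) {k : K} (hk : k ∈ csK) : ¬ IsConj S.t (g * S.φ k) := by
  intro h
  obtain ⟨c, hc⟩ := isConj_iff.1 h
  have hw2 : g * S.φ k * (g * S.φ k) = 1 := by rw [← hc]; exact S.conj_involution.1
  have hwN : g * S.φ k ∈ S.N := mul_mem hg.mem_N (S.phi_mem_N (csK_normA k hk))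
  have : Fact (Nat.Prime 2) := ⟨Nat.prime_two⟩
  have hZ : IsPGroup 2 (zpowers (g * S.φ k)) := IsPGroup.of_card (n := 1) (by
    rw [Nat.card_zpowers, pow_one]
    exact orderOf_eq_prime (by rw [pow_two, hw2]) fun e => hg.not_mem k 1 (by rw [e, map_one]))
  have hR : IsPGroup 2 (zpowers (g * S.φ k) ⊔ S.A : Subgroup G) :=
    hZ.to_sup_of_normal_right' (S.isPGroup_P.to_le S.A_le_P) (zpowers_le.2 hwN)
  have h2 := S.commute_of_two_group hσ hR (mem_sup_right S.t_mem_A)
    (mem_sup_left (mem_zpowers (g * S.φ k))) (IsConj.refl _) h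
  have e : g * S.t * g = S.t := by
    have h3 : S.t * g = g * S.t := by
      have := S.commute_t k
      calc S.t * g = S.t * (g * S.φ k) * (S.φ k)⁻¹ := by group
        _ = g * (S.φ k * S.t) * (S.φ k)⁻¹ := by rw [h2]; group
        _ = g * (S.t * S.φ k) * (S.φ k)⁻¹ := by rw [this]
        _ = g * S.t := by group
    rw [mul_assoc, h3, ← mul_assoc, hg.sq, one_mul]
  rw [hg.map_t] at e
  exact z_ne.2.2.2.2 (S.inj (e.trans S.map_z.symm))

/-- The conjugates of `t` centralizing `u`. -/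
theorem conj_t_mem_H {g : G} (hg : S.Swap g) {a : G} (ha : IsConj S.t a) (haH : a ∈ S.H) :
    ∃ v ∈ [1, 2, 4, 8, 15], a = S.φ (el v) := by
  obtain ⟨k, hk, rfl | rfl⟩ := S.mem_H_cases hσ hg haH
  · have hA : k ∈ aK := by
      rcases (S.isConj_phi_iff hσ k).1 ha with e | e
      · exact e ▸ one_mem_aK.2.1
      · exact oneK_csK k e hk
    obtain ⟨v, hv, rfl⟩ := el_spec.2.1 k hA
    exact ⟨v, (S.isConj_el_iff hσ hv).1 ha, rfl⟩
  · exact absurd ha (S.not_conj_outer hσ hg hk)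

theorem five_sq {v : ℕ} (hv : v ∈ [1, 2, 4, 8, 15]) : v < 16 ∧ el v * el v = 1 :=
  have h := (five_values v hv).1
  ⟨h, (aK_spec _ (el_spec.1 v h) _ (el_spec.1 v h)).2.2⟩

theorem orderOf_u : orderOf S.u = 2 := orderOf_eq_prime (by rw [pow_two, S.u_sq]) S.u_ne

theorem sq_of_conj {a b : G} (h : IsConj a b) (ha : a * a = 1) : b * b = 1 := by
  obtain ⟨c, rfl⟩ := isConj_iff.1 h
  calc c * a * c⁻¹ * (c * a * c⁻¹) = c * (a * a) * c⁻¹ := by group
    _ = 1 := by rw [ha]; group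

theorem card_pairs_t :
    Nat.card {p : G × G // IsConj S.t p.1 ∧ IsConj S.u p.2 ∧ S.t ∈ zpowers (p.1 * p.2)} = 108 := by
  refine (card_image_list _ (pairs_center_nodup.filter _) (fun a => (S.φ a.1, S.φ a.2)) ?_ _ ?_).trans
    pairs_center
  · rintro ⟨a, b⟩ - ⟨c, d⟩ - h
    exact Prod.ext (S.inj (congrArg Prod.fst h)) (S.inj (congrArg Prod.snd h))
  rintro ⟨i, j⟩
  constructor
  · rintro ⟨hi, hj, hm⟩
    obtain ⟨e1, e2⟩ := commute_of_zpowers (sq_of_conj S hσ hi S.t_sq) (sq_of_conj S hσ hj S.u_sq) S.t_sq hm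
    obtain ⟨a, rfl⟩ := S.exists_eq e1
    obtain ⟨b, rfl⟩ := S.exists_eq e2
    have hm' : z ∈ zpowers (a * b) := by
      obtain ⟨k, hk⟩ := hm
      change (S.φ a * S.φ b) ^ k = S.t at hk
      rw [← map_mul, ← map_zpow, ← S.map_z] at hk
      exact ⟨k, S.inj hk⟩
    obtain ⟨k, hk, hkz⟩ := exists_small_pow z_ne.1 hm'
    refine ⟨(a, b), List.mem_filter.2 ⟨List.mem_product.2 ⟨?_, (S.isConj_u_phi_iff hσ).1 hj⟩, ?_⟩, rfl⟩
    · rcases (S.isConj_phi_iff hσ a).1 hi with e | e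
      · exact e ▸ List.mem_cons_self
      · exact List.mem_cons_of_mem _ e
    · exact List.any_eq_true.2 ⟨k, List.mem_range.2 hk, decide_eq_true hkz⟩
  · rintro ⟨⟨a, b⟩, hab, e⟩
    obtain ⟨hab, hany⟩ := List.mem_filter.1 hab
    obtain ⟨ha, hb⟩ := List.mem_product.1 hab
    obtain ⟨k, -, hk⟩ := List.any_eq_true.1 hany
    obtain ⟨rfl, rfl⟩ := Prod.mk.injEq _ _ _ _ ▸ e
    refine ⟨(S.isConj_phi_iff hσ a).2 (List.mem_cons.1 ha), S.isConj_u_phi hσ hb, ?_⟩
    rw [← map_mul, ← S.map_z, ← of_decide_eq_true hk, map_pow]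
    exact pow_mem (mem_zpowers _) _

theorem outer_pair_sq {g : G} (hg : S.Swap g) {v w i v' : ℕ} (hv' : v' < 16) (hw : w < 16)
    (hc : csEl w i * el v * (csEl w i)⁻¹ = el v') (himg : csImg w i * csEl w i = 1) :
    S.φ (el v) * (g * S.φ (csEl w i)) * (S.φ (el v) * (g * S.φ (csEl w i))) =
      S.φ (el v * el (Lin.app swapCode v')) := by
  calc _ = S.φ (el v) * g * (S.φ (csEl w i) * S.φ (el v) * (S.φ (csEl w i))⁻¹) * (g * g) * S.φ (csEl w i) *
        g * S.φ (csEl w i) := by rw [hg.sq]; group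
    _ = S.φ (el v) * (g * S.φ (el v') * g) * (g * S.φ (csEl w i) * g * S.φ (csEl w i)) := by
      rw [S.phi_conj, hc]; group
    _ = _ := by rw [hg.conj_el hv', hg.conj_csEl hw, ← map_mul S.φ (csImg w i), himg, map_one, mul_one, map_mul]

theorem outer_pair_zpowers {g : G} (hg : S.Swap g) {v w i : ℕ} (hv : v ∈ [1, 2, 4, 8, 15]) (hw : w < 16)
    (hi : i < 3) (himg : csImg w i * csEl w i = 1) :
    S.u ∈ zpowers (S.φ (el v) * (g * S.φ (csEl w i))) ↔
      ∃ v' < 16, csEl w i * el v * (csEl w i)⁻¹ = el v' ∧ el v * el (Lin.app swapCode v') = z * sg := by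
  obtain ⟨hv16, -⟩ := five_sq S hσ hv
  obtain ⟨v', hv', hv'e⟩ := el_spec.2.1 _ (csK_normA _ (csEl_mem w hw i hi) _ (el_spec.1 v hv16))
  have hsq := S.outer_pair_sq hσ hg hv' hw hv'e.symm himg
  set a := S.φ (el v) * (g * S.φ (csEl w i)) with ha
  constructor
  · rintro ⟨k, hk⟩
    change a ^ k = S.u at hk
    refine ⟨v', hv', hv'e.symm, ?_⟩
    have hz : S.φ (el v * el (Lin.app swapCode v')) * S.φ (el v * el (Lin.app swapCode v')) = 1 := by
      rw [← map_mul, ← map_one S.φ]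
      congr 1
      have h := el_spec.1 v hv16
      have h' := el_spec.1 _ (swap_values.1 v' hv')
      exact (aK_spec _ (aK_spec _ h _ h').1 _ (aK_spec _ h _ h').1).2.2
    have h4 : a ^ (4 : ℤ) = 1 := by
      rw [show (4 : ℤ) = 2 + 2 from rfl, zpow_add, zpow_two, hsq, hz]
    have key : a ^ (k % 4) = S.u := by
      rw [← hk]
      conv_rhs => rw [← Int.mul_ediv_add_emod k 4, zpow_add, zpow_mul, h4, one_zpow, one_mul]
    have hodd : ∀ b : G, b = a ∨ b = a * a * a → b ≠ S.u := by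
      intro b hb hbu
      have hfix : S.u * S.t * S.u⁻¹ = S.t := by rw [S.commute_u_t, mul_inv_cancel_right]
      have hmove : ∀ k : K, (S.φ k * a) * S.t * (S.φ k * a)⁻¹ ≠ S.t := by
        intro k hk
        obtain ⟨l, hl⟩ := S.exists_eq (g := S.φ k * a) (mul_inv_eq_iff_eq_mul.1 hk)
        refine hg.not_mem (csEl w i) ((el v)⁻¹ * k⁻¹ * l) ?_
        rw [map_mul, map_mul, map_inv, map_inv, hl, ha]
        group
      rcases hb with rfl | rfl
      · refine hmove 1 ?_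
        rw [map_one, one_mul, hbu, hfix]
      · refine hmove (el v * el (Lin.app swapCode v')) ?_
        rw [← hsq, hbu, hfix]
    have hcases : k % 4 = 0 ∨ k % 4 = 1 ∨ k % 4 = 2 ∨ k % 4 = 3 := by omega
    rcases hcases with e | e | e | e <;> rw [e] at key
    · exact absurd (key.symm.trans (zpow_zero a)) S.u_ne
    · exact absurd (by simpa using key) (hodd a (Or.inl rfl))
    · rw [zpow_two, hsq] at key
      exact S.inj key
    · refine absurd ?_ (hodd (a * a * a) (Or.inr rfl))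
      rw [show (3 : ℤ) = 2 + 1 from rfl, zpow_add, zpow_two, zpow_one] at key
      exact key
  · rintro ⟨v'', hv'', he, hu⟩
    have : v'' = v' := el_spec.2.2.2 _ hv'' _ hv' (by rw [← he, ← hv'e])
    subst this
    rw [u, ← hu, ← hsq, ← pow_two]
    exact pow_mem (mem_zpowers _) _

theorem card_pairs_u :
    Nat.card {p : G × G // IsConj S.t p.1 ∧ IsConj S.u p.2 ∧ S.u ∈ zpowers (p.1 * p.2)} = 27 := by
  obtain ⟨g, hg⟩ := S.exists_Swap hσ
  let f : (ℕ × ℕ × ℕ) ⊕ (ℕ × ℕ × ℕ) → G × G :=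
    Sum.elim (fun a => (S.φ (el a.1), S.φ (csEl a.2.1 a.2.2))) fun a => (S.φ (el a.1), g * S.φ (csEl a.2.1 a.2.2))
  have hmem : ∀ {a : ℕ × ℕ × ℕ}, a ∈ List.product [1, 2, 4, 8, 15] ((List.range 16).product (List.range 3)) ↔
      a.1 ∈ [1, 2, 4, 8, 15] ∧ a.2.1 < 16 ∧ a.2.2 < 3 := fun {a} => by
    obtain ⟨v, w, n⟩ := a
    simp only [List.product, List.mem_flatMap, List.mem_map, Prod.mk.injEq, List.mem_range]
    aesop
  refine (card_image_list (innerPairs.map Sum.inl ++ outerPairs.map Sum.inr) ?_ f ?_ _ ?_).trans ?_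
  · refine List.nodup_append.2 ⟨innerPairs_length.2.map Sum.inl_injective,
      outerPairs_length.2.map Sum.inr_injective, ?_⟩
    intro a ha b hb
    obtain ⟨k, -, rfl⟩ := List.mem_map.1 ha
    obtain ⟨l, -, rfl⟩ := List.mem_map.1 hb
    exact Sum.inl_ne_inr
  · have hin : ∀ {a : ℕ × ℕ × ℕ}, (a ∈ innerPairs ∨ a ∈ outerPairs) →
        a.1 ∈ [1, 2, 4, 8, 15] ∧ a.2.1 < 16 ∧ a.2.2 < 3 := by
      rintro a (h | h) <;> exact hmem.1 (List.mem_filter.1 h).1
    have hsame : ∀ {a b : ℕ × ℕ × ℕ}, (a ∈ innerPairs ∨ a ∈ outerPairs) → (b ∈ innerPairs ∨ b ∈ outerPairs) →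
        S.φ (el a.1) = S.φ (el b.1) → S.φ (csEl a.2.1 a.2.2) = S.φ (csEl b.2.1 b.2.2) → a = b := by
      intro a b ha hb h1 h2
      obtain ⟨ha1, ha2, ha3⟩ := hin ha
      obtain ⟨hb1, hb2, hb3⟩ := hin hb
      have e1 := el_spec.2.2.2 _ (five_values _ ha1).1 _ (five_values _ hb1).1 (S.inj h1)
      obtain ⟨e2, e3⟩ := csEl_inj ha2 ha3 hb2 hb3 (S.inj h2)
      exact Prod.ext e1 (Prod.ext e2 e3)
    intro a₀ ha₀ b₀ hb₀ h
    rcases List.mem_append.1 ha₀ with ha₁ | ha₁ <;> obtain ⟨a, ha, rfl⟩ := List.mem_map.1 ha₁ <;>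
      rcases List.mem_append.1 hb₀ with hb₁ | hb₁ <;> obtain ⟨b, hb, rfl⟩ := List.mem_map.1 hb₁ <;>
      obtain ⟨h1, h2⟩ := Prod.mk.injEq _ _ _ _ ▸ h
    · exact congrArg Sum.inl (hsame (Or.inl ha) (Or.inl hb) h1 h2)
    · exact absurd h2.symm (hg.not_mem _ _)
    · exact absurd h2 (hg.not_mem _ _)
    · exact congrArg Sum.inr (hsame (Or.inr ha) (Or.inr hb) h1 (mul_left_cancel h2))
  swap
  · rw [List.length_append, List.length_map, List.length_map, innerPairs_length.1, outerPairs_length.1]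
  rintro ⟨i, j⟩
  constructor
  · rintro ⟨hi, hj, hm⟩
    obtain ⟨e1, e2⟩ := commute_of_zpowers (sq_of_conj S hσ hi S.t_sq) (sq_of_conj S hσ hj S.u_sq) S.u_sq hm
    obtain ⟨v, hv, rfl⟩ := S.conj_t_mem_H hσ hg hi (S.mem_H.2 e1)
    obtain ⟨k, hk, rfl | rfl⟩ := S.mem_H_cases hσ hg (S.mem_H.2 e2)
    · obtain ⟨w, hw, n, hn, rfl⟩ := csEl_surj k hk
      refine ⟨Sum.inl (v, w, n), List.mem_append_left _ (List.mem_map_of_mem (List.mem_filter.2
        ⟨hmem.2 ⟨hv, hw, hn⟩, ?_⟩)), rfl⟩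
      obtain ⟨m, hm⟩ := hm
      change (S.φ (el v) * S.φ (csEl w n)) ^ m = S.u at hm
      rw [← map_mul, ← map_zpow, u] at hm
      obtain ⟨r, hr, hre⟩ := exists_small_pow (fun e => S.u_ne (by rw [u, e, map_one])) ⟨m, S.inj hm⟩
      rw [Bool.and_eq_true]
      exact ⟨decide_eq_true ((S.isConj_u_phi_iff hσ).1 hj),
        List.any_eq_true.2 ⟨r, List.mem_range.2 hr, decide_eq_true hre⟩⟩
    · obtain ⟨w, hw, n, hn, rfl⟩ := csEl_surj k hk
      refine ⟨Sum.inr (v, w, n), List.mem_append_right _ (List.mem_map_of_mem (List.mem_filter.2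
        ⟨hmem.2 ⟨hv, hw, hn⟩, ?_⟩)), rfl⟩
      have himg : csImg w n * csEl w n = 1 := by
        refine S.inj ?_
        rw [map_mul, ← hg.conj_csEl hw, map_one, ← sq_of_conj S hσ hj S.u_sq]
        group
      obtain ⟨v', hv', hc, hu⟩ := (S.outer_pair_zpowers hσ hg hv hw hn himg).1 hm
      rw [Bool.and_eq_true]
      exact ⟨decide_eq_true (eq_inv_of_mul_eq_one_left himg), List.any_eq_true.2 ⟨v', List.mem_range.2 hv', by
        rw [Bool.and_eq_true]; exact ⟨decide_eq_true hc, decide_eq_true hu⟩⟩⟩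
  · rintro ⟨a, ha₀, e⟩
    rcases List.mem_append.1 ha₀ with ha₁ | ha₁ <;> obtain ⟨⟨v, w, n⟩, ha, rfl⟩ := List.mem_map.1 ha₁ <;>
      obtain ⟨rfl, rfl⟩ := Prod.mk.injEq _ _ _ _ ▸ e <;>
      obtain ⟨hp, hcond⟩ := List.mem_filter.1 ha <;> obtain ⟨hv, hw, hn⟩ := hmem.1 hp <;>
      rw [Bool.and_eq_true] at hcond <;> obtain ⟨hc1, hc2⟩ := hcond <;>
      obtain ⟨r, hr, hr2⟩ := List.any_eq_true.1 hc2
    · refine ⟨(S.isConj_el_iff hσ (five_values v hv).1).2 hv, S.isConj_u_phi hσ (of_decide_eq_true hc1), ?_⟩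
      rw [← map_mul, u, ← of_decide_eq_true hr2, map_pow]
      exact pow_mem (mem_zpowers _) _
    · rw [Bool.and_eq_true] at hr2
      have himg : csImg w n * csEl w n = 1 := by rw [of_decide_eq_true hc1, inv_mul_cancel]
      refine ⟨(S.isConj_el_iff hσ (five_values v hv).1).2 hv, ?_, (S.outer_pair_zpowers hσ hg hv hw hn himg).2
        ⟨r, List.mem_range.1 hr, of_decide_eq_true hr2.1, of_decide_eq_true hr2.2⟩⟩
      have hsq : g * S.φ (csEl w n) * (g * S.φ (csEl w n)) = 1 := by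
        rw [← map_one S.φ, ← himg, map_mul, ← hg.conj_csEl hw]
        group
      rcases S.involution_cases' hσ (orderOf_eq_prime (by rw [pow_two, hsq]) fun e =>
        hg.not_mem (csEl w n) 1 (by rw [e, map_one])) with h | h
      · exact absurd h (S.not_conj_outer hσ hg (csEl_mem w hw n hn))
      · exact h

theorem card_eq : Nat.card G = 25920 := by
  have h := Cfsg.Agent.S0213.result S.t S.u S.orderOf_t (S.orderOf_u hσ) (S.not_isConj_u hσ)
    (fun a ha => S.involution_cases' hσ ha)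
  rw [h, S.card_pairs_t hσ, S.card_pairs_u hσ, S.card_cent]
  show Nat.card S.H * 108 + 576 * 27 = 25920
  rw [S.card_H hσ]

end Hyp

end CfsgLib.SpCentInv
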