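import Cfsg.Agent.Lib.Recognition.SpCentInv.HFacts

/-!
The centralizer of the second involution and the swapping involution.
-/

set_option autoImplicit false
set_option linter.unusedSectionVars false

namespace CfsgLib.SpCentInv

open Subgroup

/-- A finite group of odd order with an involutory automorphism without fixed points consists of inverted
elements; two such give an automorphism centralizing it. -/
theorem commute_of_two {G : Type*} [Group G] [Finite G] (O : Subgroup G) (ho : Odd (Nat.card O)) {a b : G}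
    (ha : a * a = 1) (hb : b * b = 1) (hna : ∀ o ∈ O, a * o * a⁻¹ ∈ O) (hnb : ∀ o ∈ O, b * o * b⁻¹ ∈ O)
    (hfa : ∀ o ∈ O, a * o = o * a → o = 1) (hfb : ∀ o ∈ O, b * o = o * b → o = 1) :
    ∀ o ∈ O, a * b * o = o * (a * b) := by
  have key : ∀ a : G, a * a = 1 → (∀ o ∈ O, a * o * a⁻¹ ∈ O) → (∀ o ∈ O, a * o = o * a → o = 1) →
      ∀ o ∈ O, a * o * a⁻¹ = o⁻¹ := by
    intro a ha hna hfa
    let f : O → O := fun o => ⟨(o : G)⁻¹ * (a * o * a⁻¹), mul_mem (inv_mem o.2) (hna _ o.2)⟩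
    have hinj : Function.Injective f := by
      intro o o' h
      have h' : (o : G)⁻¹ * (a * o * a⁻¹) = (o' : G)⁻¹ * (a * o' * a⁻¹) := congrArg Subtype.val h
      have h2 := hfa _ (mul_mem o'.2 (inv_mem o.2)) (by
        have h3 : (o' : G) * (o : G)⁻¹ = a * ((o' : G) * (o : G)⁻¹) * a⁻¹ := by
          calc (o' : G) * (o : G)⁻¹ = (o' : G) * ((o : G)⁻¹ * (a * o * a⁻¹)) * (a * o * a⁻¹)⁻¹ := by group
            _ = (o' : G) * ((o' : G)⁻¹ * (a * o' * a⁻¹)) * (a * o * a⁻¹)⁻¹ := by rw [h']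
            _ = _ := by group
        exact (mul_inv_eq_iff_eq_mul.1 h3.symm))
      exact Subtype.ext (mul_inv_eq_one.1 h2).symm
    intro o ho
    obtain ⟨⟨w, hw⟩, hwf⟩ := (Finite.injective_iff_surjective.1 hinj) ⟨o, ho⟩
    have e : o = w⁻¹ * (a * w * a⁻¹) := congrArg Subtype.val hwf.symm
    have hai : a⁻¹ = a := inv_eq_of_mul_eq_one_right ha
    rw [e, hai]
    calc a * (w⁻¹ * (a * w * a)) * a = a * w⁻¹ * a * w * (a * a) := by group
      _ = a * w⁻¹ * a * w := by rw [ha, mul_one]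
      _ = (w⁻¹ * (a * w * a))⁻¹ := by rw [mul_inv_rev, mul_inv_rev, mul_inv_rev, hai, inv_inv]; group
  intro o ho'
  have h1 := key b hb hnb hfb o ho'
  have h2 := key a ha hna hfa o⁻¹ (inv_mem ho')
  rw [inv_inv] at h2
  refine mul_inv_eq_iff_eq_mul.1 ?_
  calc a * b * o * (a * b)⁻¹ = a * (b * o * b⁻¹) * a⁻¹ := by group
    _ = o := by rw [h1, h2]

namespace Hyp

variable {G : Type*} [Group G] (S : Hyp G)

/-- The second involution. -/
def u : G := S.φ (z * sg)

theorem u_eq : S.u = S.t * S.φ sg := by rw [u, map_mul, S.map_z]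

theorem phi_el_three : S.φ (el 3) = S.u := by rw [u, el_sigma.1]

theorem commute_u_t : S.u * S.t = S.t * S.u := S.commute_t _

theorem u_sq : S.u * S.u = 1 := by
  rw [u, ← map_mul, ← map_one S.φ]; congr 1

theorem u_ne : S.u ≠ 1 := by
  intro h
  have : z * sg = 1 := S.inj (h.trans (map_one _).symm)
  revert this; decide +kernel

/-- The centralizer of `u`. -/
def H : Subgroup G := centralizer ({S.u} : Set G)

theorem mem_H {g : G} : g ∈ S.H ↔ g * S.u = S.u * g := mem_centralizer_singleton_iff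

theorem phi_mem_H {k : K} : S.φ k ∈ S.H ↔ k ∈ csK := by
  rw [S.mem_H, u, ← map_mul, ← map_mul, S.inj.eq_iff, ← csK_spec k, ← csK_tau k]

theorem cent_t_H {g : G} (hg : g ∈ S.H) (ht : g * S.t = S.t * g) : ∃ k ∈ csK, S.φ k = g := by
  obtain ⟨k, rfl⟩ := S.exists_eq ht
  exact ⟨k, S.phi_mem_H.1 hg, rfl⟩

variable [Finite G]

/-- Conjugates of the involution in a two-subgroup commute. -/
theorem commute_of_two_group (hσ : IsConj S.t (S.φ sg)) {R : Subgroup G} (hR : IsPGroup 2 R) {a b : G}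
    (ha : a ∈ R) (hb : b ∈ R) (hta : IsConj S.t a) (htb : IsConj S.t b) : a * b = b * a := by
  have : Fact (Nat.Prime 2) := ⟨Nat.prime_two⟩
  obtain ⟨R', hR'⟩ := hR.exists_le_sylow
  obtain ⟨R₀, hR₀⟩ := S.exists_sylow
  obtain ⟨k, hk⟩ := MulAction.exists_smul_eq G R' R₀
  have hmem : ∀ y ∈ R, IsConj S.t y → k * y * k⁻¹ ∈ S.A := by
    intro y hy hty
    have h1 : k * y * k⁻¹ ∈ S.P := by
      rw [← hR₀, ← hk, Sylow.coe_subgroup_smul]
      exact Subgroup.smul_mem_pointwise_smul y (MulAut.conj k) _ (hR' hy)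
    obtain ⟨l, hl, hle⟩ := h1
    have hc : IsConj S.t (S.φ l) := hty.trans (isConj_iff.2 ⟨k, hle.symm⟩)
    rw [← hle]
    rcases (S.isConj_phi_iff hσ l).1 hc with rfl | h
    · exact S.mem_A.2 one_mem_aK.2.1
    · exact S.mem_A.2 (pK_oneK l hl h)
  have h := (S.A_comm (hmem a ha hta) (hmem b hb htb)).1
  calc a * b = k⁻¹ * (k * a * k⁻¹ * (k * b * k⁻¹)) * k := by group
    _ = k⁻¹ * (k * b * k⁻¹ * (k * a * k⁻¹)) * k := by rw [h]
    _ = b * a := by group

variable (hσ : IsConj S.t (S.φ sg))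
include hσ

/-- An element of `N` exchanging `t` and `sg`. -/
theorem exists_swap : ∃ n ∈ S.N, S.act n 1 = 2 ∧ S.act n 2 = 1 := by
  obtain ⟨n, hn, h⟩ := S.inOrb_two hσ
  set v := S.act n⁻¹ 1 with hv
  obtain ⟨hv16, -⟩ := S.act_spec (inv_mem hn) (v := 1) (by norm_num)
  have hnv : S.act n v = 1 := by
    rw [hv, ← S.act_mul hn (inv_mem hn) (by norm_num), mul_inv_cancel]
    exact S.act_unique (one_mem _) (by norm_num) (by norm_num) (by simp)
  have hv2 : v ∈ [2, 4, 8, 15] := by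
    have hin : S.InOrb v := ⟨n⁻¹, inv_mem hn, hv.symm⟩
    have h5 := (S.inOrb_iff_five hσ hv16).1 hin
    have hne : v ≠ 1 := fun e => by rw [e, h] at hnv; norm_num at hnv
    simp only [List.mem_cons, List.not_mem_nil, or_false] at h5 ⊢
    exact h5.resolve_left hne
  obtain ⟨k, hk, hkv⟩ := normA_orbit [2, 4, 8, 15] List.mem_cons_self 2 (by simp) v hv2
  have hk' := S.phi_mem_N hk
  have hk2 : S.act (S.φ k) 2 = v := S.act_unique hk' (by norm_num) hv16
    (by rw [← hkv, map_mul, map_mul, map_inv])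
  exact ⟨n * S.φ k, mul_mem hn hk', by rw [S.act_mul hn hk' (by norm_num), S.act_one_phi hk, h],
    by rw [S.act_mul hn hk' (by norm_num), hk2, hnv]⟩

theorem swap_spec {n : G} (hn : n ∈ S.N) (h1 : S.act n 1 = 2) (h2 : S.act n 2 = 1) :
    n * S.t * n⁻¹ = S.φ sg ∧ n * S.φ sg * n⁻¹ = S.t ∧ n ∈ S.H := by
  obtain ⟨-, e1⟩ := S.act_spec hn (v := 1) (by norm_num)
  obtain ⟨-, e2⟩ := S.act_spec hn (v := 2) (by norm_num)
  rw [h1, el_values.2.2.1, el_values.2.1, S.map_z] at e1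
  rw [h2, el_values.2.2.1, el_values.2.1, S.map_z] at e2
  refine ⟨e1.symm, e2.symm, S.mem_H.2 (mul_inv_eq_iff_eq_mul.1 ?_)⟩
  rw [S.u_eq, show n * (S.t * S.φ sg) * n⁻¹ = n * S.t * n⁻¹ * (n * S.φ sg * n⁻¹) by group, ← e1, ← e2,
    S.commute_t]

/-- A normal subgroup of odd order of the centralizer of `u` is trivial. -/
theorem odd_normal_trivial (O : Subgroup G) (hOH : O ≤ S.H) (ho : Odd (Nat.card O))
    (hn : ∀ h ∈ S.H, ∀ o ∈ O, h * o * h⁻¹ ∈ O) : O = ⊥ := by
  have h9 : ∀ k : K, S.φ k ∈ O → k ^ 9 = 1 := fun k hk => by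
    refine odd_pow_nine (K.card_eq ▸ orderOf_dvd_natCard k) ?_
    rw [← orderOf_injective S.φ S.inj]
    exact Odd.of_dvd_nat ho (Subgroup.orderOf_dvd_natCard O hk)
  have ht : ∀ o ∈ O, S.t * o = o * S.t → o = 1 := by
    intro o hoO hc
    obtain ⟨k, hk, rfl⟩ := S.cent_t_H (hOH hoO) hc.symm
    by_contra hne
    obtain ⟨c, hc', hcne⟩ := csK_comm_odd k hk (h9 k hoO) (fun h => hne (by rw [h, map_one]))
    refine hcne (h9 _ ?_)
    rw [map_mul, map_inv, ← S.phi_conj]
    exact mul_mem (hn _ (S.phi_mem_H.2 hc') _ hoO) (inv_mem hoO)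
  obtain ⟨n, hnN, hn1, hn2⟩ := S.exists_swap hσ
  obtain ⟨es, est, hnH⟩ := S.swap_spec hσ hnN hn1 hn2
  have hsig : ∀ o ∈ O, S.φ sg * o = o * S.φ sg → o = 1 := by
    intro o hoO hc
    have hmem : n⁻¹ * o * n ∈ O := by simpa using hn _ (inv_mem hnH) o hoO
    have hne := ht _ hmem (by
      calc S.t * (n⁻¹ * o * n) = n⁻¹ * ((n * S.t * n⁻¹) * o) * n := by group
        _ = n⁻¹ * (o * (n * S.t * n⁻¹)) * n := by rw [es, hc]
        _ = n⁻¹ * o * n * S.t := by group)
    calc o = n * (n⁻¹ * o * n) * n⁻¹ := by group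
      _ = 1 := by rw [hne]; group
  have hothers : ∀ v ∈ [4, 8, 15], ∀ o ∈ O, S.φ (el v) * o = o * S.φ (el v) → o = 1 := by
    intro v hv o hoO hc
    have hv16 : v < 16 := by simp only [List.mem_cons, List.not_mem_nil, or_false] at hv; omega
    have hv5 : v ∈ [1, 2, 4, 8, 15] := List.mem_cons_of_mem _ (List.mem_cons_of_mem _ hv)
    obtain ⟨m, hm, hm1⟩ := (S.inOrb_iff_five hσ hv16).2 hv5
    have hmi := inv_mem hm
    obtain ⟨-, em⟩ := S.act_spec hm (v := 1) (by norm_num)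
    rw [hm1, el_values.2.1, S.map_z] at em
    -- the images of `1` and `2`
    have hlt : ∀ w ∈ [1, 2], w < 16 ∧ S.act m⁻¹ w < 16 ∧ S.act m⁻¹ w ∈ [2, 4, 8, 15] := by
      intro w hw
      have hw16 : w < 16 := by simp only [List.mem_cons, List.not_mem_nil, or_false] at hw; omega
      obtain ⟨h16, he⟩ := S.act_spec hmi hw16
      have hw5 : w ∈ [1, 2, 4, 8, 15] := by
        simp only [List.mem_cons, List.not_mem_nil, or_false] at hw ⊢; omega
      obtain ⟨l, hl, hl1⟩ := (S.inOrb_iff_five hσ hw16).2 hw5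
      have h5 := (S.inOrb_iff_five hσ h16).1
        ⟨m⁻¹ * l, mul_mem hmi hl, by rw [S.act_mul hmi hl (by norm_num), hl1]⟩
      have hne : S.act m⁻¹ w ≠ 1 := by
        intro e
        rw [e, el_values.2.1, S.map_z] at he
        have hev : S.φ (el v) = S.φ (el w) := by rw [em, he]; group
        have := el_spec.2.2.2 v hv16 w hw16 (S.inj hev)
        simp only [List.mem_cons, List.not_mem_nil, or_false] at hw hv; omega
      refine ⟨hw16, h16, ?_⟩
      simp only [List.mem_cons, List.not_mem_nil, or_false] at h5 ⊢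
      exact h5.resolve_left hne
    obtain ⟨-, h16a, ha⟩ := hlt 1 (by simp)
    obtain ⟨-, h16b, hb⟩ := hlt 2 (by simp)
    have hab : S.act m⁻¹ 1 ≠ S.act m⁻¹ 2 := fun e => by
      have h := S.act_mul hm hmi (v := 1) (by norm_num)
      have h' := S.act_mul hm hmi (v := 2) (by norm_num)
      rw [e] at h
      have := h.trans h'.symm
      rw [mul_inv_cancel, S.act_unique (one_mem _) (by norm_num) (by norm_num : 1 < 16) (by simp),
        S.act_unique (one_mem _) (by norm_num) (by norm_num : 2 < 16) (by simp)] at this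
      norm_num at this
    have hd := xor_sigma _ ha _ hb hab
    have h3 : S.act m⁻¹ 3 = S.act m⁻¹ 1 ^^^ S.act m⁻¹ 2 := by
      rw [← S.act_add hmi 1 (by norm_num) 2 (by norm_num)]; rfl
    obtain ⟨-, e3⟩ := S.act_spec hmi (v := 3) (by norm_num)
    rw [h3, S.phi_el_three, inv_inv] at e3
    obtain ⟨k, hk⟩ := S.exists_eq (g := m⁻¹ * o * m) (by
      calc m⁻¹ * o * m * S.t = m⁻¹ * (o * (m * S.t * m⁻¹)) * m := by group
        _ = m⁻¹ * (S.φ (el v) * o) * m := by rw [← em, hc]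
        _ = S.t * (m⁻¹ * o * m) := by rw [em]; group)
    have hou := S.mem_H.1 (hOH hoO)
    have hk1 : k = 1 := cs_rest_odd _ hd k (S.inj (by
      rw [map_mul, map_mul, hk, e3]
      calc m⁻¹ * o * m * (m⁻¹ * S.u * m) = m⁻¹ * (o * S.u) * m := by group
        _ = m⁻¹ * (S.u * o) * m := by rw [hou]
        _ = _ := by group)) (by
      refine odd_pow_nine (K.card_eq ▸ orderOf_dvd_natCard k) ?_
      rw [← orderOf_injective S.φ S.inj, hk, show orderOf (m⁻¹ * o * m) = orderOf o by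
        rw [show m⁻¹ * o * m = MulAut.conj m⁻¹ o by simp [MulAut.conj_apply], MulEquiv.orderOf_eq]]
      exact Odd.of_dvd_nat ho (Subgroup.orderOf_dvd_natCard O hoO))
    rw [hk1, map_one] at hk
    calc o = m * (m⁻¹ * o * m) * m⁻¹ := by group
      _ = 1 := by rw [← hk]; group
  -- the elements of `A` act
  have hAH : ∀ v < 16, S.φ (el v) ∈ S.H := fun v hv => by
    rw [S.mem_H, ← S.phi_el_three]
    exact (S.A_comm (S.mem_A.2 (el_spec.1 v hv)) (S.mem_A.2 (el_spec.1 3 (by norm_num)))).1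
  have hsq : ∀ v < 16, S.φ (el v) * S.φ (el v) = 1 := fun v hv => (S.A_comm (S.mem_A.2 (el_spec.1 v hv)) (S.mem_A.2 (el_spec.1 v hv))).2
  have hfix1 : ∀ o ∈ O, S.φ (el 1) * o = o * S.φ (el 1) → o = 1 := by rw [el_values.2.1, S.map_z]; exact ht
  have hfix : ∀ v ∈ [4, 8, 15], ∀ o ∈ O, S.φ (el (1 ^^^ v)) * o = o * S.φ (el (1 ^^^ v)) := by
    intro v hv o hoO
    have hv16 : v < 16 := by simp only [List.mem_cons, List.not_mem_nil, or_false] at hv; omega
    rw [el_spec.2.2.1 1 (by norm_num) v hv16, map_mul]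
    exact commute_of_two O ho (hsq 1 (by norm_num)) (hsq v hv16)
      (fun o ho => hn _ (hAH 1 (by norm_num)) o ho) (fun o ho => hn _ (hAH v hv16) o ho)
      hfix1 (hothers v hv) o hoO
  rw [Subgroup.eq_bot_iff_forall]
  intro o hoO
  refine hothers 15 (by simp) o hoO ?_
  have e : el 15 = el (1 ^^^ 4) * el (1 ^^^ 8) * (z * sg) := by
    rw [← el_sigma.1, ← el_spec.2.2.1 _ (by decide) _ (by decide), ← el_spec.2.2.1 _ (by decide) _ (by decide)]
    rfl
  have hu : Commute (S.φ (z * sg)) o := (S.mem_H.1 (hOH hoO)).symm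
  rw [e, map_mul, map_mul]
  exact ((Commute.mul_left (show Commute (S.φ (el (1 ^^^ 4))) o from hfix 4 (by simp) o hoO)
    (show Commute (S.φ (el (1 ^^^ 8))) o from hfix 8 (by simp) o hoO)).mul_left hu)

/-- The conjugates of `t` under the centralizer of `u`. -/
theorem conj_t_H {h : G} (hh : h ∈ S.H) : h * S.t * h⁻¹ = S.t ∨ h * S.t * h⁻¹ = S.φ sg := by
  have : Fact (Nat.Prime 2) := ⟨Nat.prime_two⟩
  let U : Subgroup S.H := zpowers ⟨S.u, S.mem_H.2 rfl⟩
  have hUc : ∀ a ∈ U, ∀ b : S.H, b * a = a * b := by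
    rintro _ ⟨i, rfl⟩ b
    have hb : Commute b (⟨S.u, S.mem_H.2 rfl⟩ : S.H) := Subtype.ext (S.mem_H.1 b.2)
    exact (hb.zpow_right i).eq
  have hUn : U.Normal := ⟨fun a ha b => by rw [hUc a ha b, mul_inv_cancel_right]; exact ha⟩
  have hUval : ∀ a ∈ U, (a : G) = 1 ∨ (a : G) = S.u := by
    rintro _ ⟨i, rfl⟩
    rcases Int.emod_two_eq_zero_or_one i with h2 | h2
    · left
      obtain ⟨j, rfl⟩ := Int.dvd_of_emod_eq_zero h2
      simp [zpow_mul, pow_two, S.u_sq]
    · right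
      obtain ⟨j, rfl⟩ : ∃ j, i = 2 * j + 1 := ⟨i / 2, by omega⟩
      simp [zpow_add, zpow_mul, pow_two, S.u_sq]
  set t' : S.H := ⟨S.t, S.mem_H.2 S.commute_u_t.symm⟩ with ht'
  let π := QuotientGroup.mk' U
  have ht2 : orderOf (π t') = 2 := by
    refine orderOf_eq_prime ?_ ?_
    · rw [← map_pow, pow_two, show t' * t' = 1 from Subtype.ext S.t_sq, map_one]
    · intro h1
      rcases hUval _ ((QuotientGroup.eq_one_iff t').1 h1) with e | e
      · exact S.t_ne e
      · have e' : S.φ sg = 1 := by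
          have h' : S.t * S.t = S.t * (S.t * S.φ sg) := congrArg (S.t * ·) (e.trans S.u_eq)
          rw [← mul_assoc, S.t_sq, one_mul] at h'
          exact h'.symm
        exact z_ne.2.2.1 (S.inj (e'.trans (map_one _).symm))
  obtain ⟨R, hR⟩ := (IsPGroup.of_card (p := 2) (G := zpowers (π t')) (n := 1)
    (by rw [Nat.card_zpowers, ht2, pow_one])).exists_le_sylow
  have htR : π t' ∈ R := hR (mem_zpowers _)
  have hU2 : IsPGroup 2 (π.ker) := by
    rw [QuotientGroup.ker_mk']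
    refine IsPGroup.of_card (n := 1) ?_
    rw [Nat.card_zpowers]
    exact orderOf_eq_prime (Subtype.ext (by simp [pow_two, S.u_sq]))
      (fun e => S.u_ne (congrArg Subtype.val e))
  have hRpre : IsPGroup 2 ((R : Subgroup _).comap π) := R.isPGroup'.comap_of_ker_isPGroup π hU2
  have hiso : ∀ g, g * π t' * g⁻¹ ∈ R → g * π t' * g⁻¹ = π t' := by
    intro g hg
    obtain ⟨g, rfl⟩ := QuotientGroup.mk'_surjective U g
    rw [← map_inv, ← map_mul, ← map_mul] at hg ⊢
    set Rg := ((R : Subgroup _).comap π).map S.H.subtype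
    have hconj : IsConj S.t ((g : G) * S.t * (g : G)⁻¹) := isConj_iff.2 ⟨g, rfl⟩
    have hc := S.commute_of_two_group hσ (hRpre.map S.H.subtype) (a := S.t)
      (b := (g : G) * S.t * (g : G)⁻¹) ⟨t', htR, rfl⟩ ⟨g * t' * g⁻¹, hg, rfl⟩ (IsConj.refl _) hconj
    obtain ⟨k, hk, hkv⟩ := S.cent_t_H (mul_mem (mul_mem g.2 t'.2) (inv_mem g.2)) hc.symm
    have hk' : k = z ∨ k = sg := by
      rcases (S.isConj_phi_iff hσ k).1 (hkv ▸ hconj) with h | h
      · exact Or.inl h
      refine Or.inr (csK_fusion k hk h ?_)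
      have h2 : IsConj S.t (S.φ (k * (z * sg))) := by
        refine hσ.trans (isConj_iff.2 ⟨g, ?_⟩)
        have hgu : (g : G) * S.u * (g : G)⁻¹ = S.u := by rw [S.mem_H.1 g.2, mul_inv_cancel_right]
        have : (g : G) * (S.t * S.u) * (g : G)⁻¹ = S.φ (k * (z * sg)) := by
          rw [map_mul, hkv]
          show _ = _ * S.u
          calc (g : G) * (S.t * S.u) * (g : G)⁻¹ = (g : G) * S.t * (g : G)⁻¹ * ((g : G) * S.u * (g : G)⁻¹) := by group
            _ = _ := by rw [hgu]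
        rw [← this]
        congr 2
        rw [S.u_eq, ← mul_assoc, S.t_sq, one_mul]
      exact ((S.isConj_phi_iff hσ _).1 h2).symm
    rcases hk' with rfl | rfl
    · congr 1
      exact Subtype.ext (hkv.symm.trans S.map_z)
    · refine QuotientGroup.eq.2 ?_
      have e : (g * t' * g⁻¹)⁻¹ * t' = ⟨S.u, S.mem_H.2 rfl⟩ := Subtype.ext (by
        show ((g : G) * S.t * (g : G)⁻¹)⁻¹ * S.t = S.u
        rw [← hkv, ← map_inv, ← S.map_z, ← map_mul]
        exact congrArg S.φ (by decide +kernel))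
      rw [e]; exact mem_zpowers _
  obtain ⟨Nc, hNn, hNodd, hcomm⟩ := Cfsg.Agent.S0215.result R (π t') ht2 htR hiso
  set M := Nc.comap π with hM
  have hUM : U ≤ M := fun a ha => by
    rw [hM, mem_comap, show π a = 1 from (QuotientGroup.eq_one_iff a).2 ha]; exact one_mem _
  -- the odd part of `M`
  set o := Nat.card Nc with ho
  have hpow : ∀ m ∈ M, (m : S.H) ^ o ∈ U := fun m hm => by
    have h1 : (⟨π m, hm⟩ : Nc) ^ o = 1 := pow_card_eq_one'
    have h2 : π (m ^ o) = 1 := by rw [map_pow]; exact congrArg Subtype.val h1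
    exact (QuotientGroup.eq_one_iff _).1 h2
  have hcardU : Nat.card U = 2 := by
    rw [Nat.card_zpowers]
    exact orderOf_eq_prime (Subtype.ext (by simp [pow_two, S.u_sq]))
      (fun e => S.u_ne (congrArg Subtype.val e))
  have hUM' : Nat.card (U.subgroupOf M) = 2 := by
    rw [Nat.card_congr (subgroupOfEquivOfLe hUM).toEquiv, hcardU]
  have hidx : (U.subgroupOf M).index = o := by
    have hfs : Function.Surjective (π.subgroupComap Nc) :=
      π.subgroupComap_surjective_of_surjective Nc (QuotientGroup.mk'_surjective U)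
    have hk : (π.subgroupComap Nc).ker = U.subgroupOf M := by
      ext m
      rw [MonoidHom.mem_ker, mem_subgroupOf]
      exact ⟨fun h => (QuotientGroup.eq_one_iff _).1 (congrArg Subtype.val h),
        fun h => Subtype.ext ((QuotientGroup.eq_one_iff _).2 h)⟩
    rw [← hk, index_ker, MonoidHom.range_eq_top.2 hfs, Subgroup.card_top]
  have hUMn : (U.subgroupOf M).Normal := hUn.comap _
  obtain ⟨Cc, hCc⟩ := exists_right_complement'_of_coprime (N := U.subgroupOf M)
    (by rw [hUM', hidx]; exact Nat.coprime_two_left.2 hNodd)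
  have hCcard : Nat.card Cc = o := by
    have h1 := hCc.card_mul_card
    have h2 := (U.subgroupOf M).card_mul_index
    rw [hUM'] at h1 h2; rw [hidx] at h2
    omega
  have hOpow : ∀ m : M, m ∈ Cc ↔ m ^ o = 1 := by
    intro m
    constructor
    · intro hm
      have : (⟨m, hm⟩ : Cc) ^ o = 1 := hCcard ▸ pow_card_eq_one'
      exact congrArg Subtype.val this
    · intro hm
      obtain ⟨⟨a, c⟩, hac⟩ := hCc.2 m
      have hac' : (a : M) * (c : M) = m := hac
      have hcomm' : Commute (a : M) (c : M) := Subtype.ext ((hUc _ a.2 _).symm)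
      have hco : (c : M) ^ o = 1 := congrArg Subtype.val (hCcard ▸ pow_card_eq_one' : c ^ o = 1)
      rw [← hac', hcomm'.mul_pow, hco, mul_one] at hm
      have ha2 : (a : M) ^ 2 = 1 := congrArg Subtype.val (hUM' ▸ pow_card_eq_one' : a ^ 2 = 1)
      have ha1 : (a : M) = 1 := by
        obtain ⟨j, hj⟩ := hNodd
        rw [show o = 2 * j + 1 from hj, pow_succ, pow_mul, ha2, one_pow, one_mul] at hm
        exact hm
      rw [← hac', ha1, one_mul]; exact c.2
  set O := (Cc.map M.subtype).map S.H.subtype with hOdef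
  have hObot : O = ⊥ := by
    refine S.odd_normal_trivial hσ O ?_ ?_ ?_
    · rintro _ ⟨m, -, rfl⟩; exact m.2
    · rw [hOdef, card_map_of_injective S.H.subtype_injective, card_map_of_injective M.subtype_injective, hCcard]
      exact hNodd
    · rintro h hh _ ⟨_, ⟨m, hm, rfl⟩, rfl⟩
      have hMn : M.Normal := hNn.comap π
      let m' : M := ⟨⟨h, hh⟩ * (m : S.H) * ⟨h, hh⟩⁻¹, hMn.conj_mem _ m.2 _⟩
      refine ⟨m', ⟨m', (hOpow m').2 (Subtype.ext ?_), rfl⟩, rfl⟩
      show ((⟨h, hh⟩ : S.H) * (m : S.H) * ⟨h, hh⟩⁻¹) ^ o = 1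
      rw [conj_pow, ← SubgroupClass.coe_pow, (hOpow m).1 hm, OneMemClass.coe_one, mul_one, mul_inv_cancel]
  have hCbot : Cc = ⊥ := by
    rw [hOdef, map_eq_bot_iff_of_injective _ S.H.subtype_injective,
      map_eq_bot_iff_of_injective _ M.subtype_injective] at hObot
    exact hObot
  have hMU : ∀ m ∈ M, m ∈ U := by
    intro m hm
    obtain ⟨⟨a, c⟩, hac⟩ := hCc.2 (⟨m, hm⟩ : M)
    have hc1 : (c : M) = 1 := mem_bot.1 (hCbot ▸ c.2)
    have hac' : (a : M) * (c : M) = ⟨m, hm⟩ := hac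
    rw [hc1, mul_one] at hac'
    have ha := a.2
    have e : ((a : M) : S.H) = m := congrArg Subtype.val hac'
    exact e ▸ ha
  have hmem : t' * ⟨h, hh⟩ * t'⁻¹ * (⟨h, hh⟩ : S.H)⁻¹ ∈ M := by
    rw [hM, mem_comap, map_mul, map_mul, map_mul, map_inv, map_inv]; exact hcomm _
  rcases hUval _ (hMU _ hmem) with e | e
  · left
    have e' : S.t * h * S.t⁻¹ * h⁻¹ = 1 := e
    calc h * S.t * h⁻¹ = (S.t * h * S.t⁻¹ * h⁻¹)⁻¹ * S.t := by group
      _ = S.t := by rw [e']; simp
  · right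
    have e' : S.t * h * S.t⁻¹ * h⁻¹ = S.u := e
    calc h * S.t * h⁻¹ = (S.t * h * S.t⁻¹ * h⁻¹)⁻¹ * S.t := by group
      _ = S.u⁻¹ * S.t := by rw [e']
      _ = S.φ sg := by
        rw [inv_eq_of_mul_eq_one_right S.u_sq, S.commute_u_t, S.u_eq, ← mul_assoc, S.t_sq, one_mul]

/-- An involution exchanging `t` and `sg` and normalizing the generated structure. -/
theorem exists_g : ∃ g ∈ S.N, g ∈ S.H ∧ g * g = 1 ∧ g * S.t * g = S.φ sg ∧ g * S.φ x * g = S.φ (x * x) ∧
    g * S.φ s * g = S.φ s₃ := by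
  obtain ⟨n, hnN, hn1, hn2⟩ := S.exists_swap hσ
  obtain ⟨es, est, hnH⟩ := S.swap_spec hσ hnN hn1 hn2
  have hxcs : x ∈ csK := (csK_spec x).1 x_fix.2.1
  -- correct the image of `x`
  have hi : ∀ {g : G}, n * g * n⁻¹ = g → True := fun _ => trivial
  obtain ⟨k, hk, hkx⟩ := S.cent_t_H (g := n * S.φ x * n⁻¹) (mul_mem (mul_mem hnH (S.phi_mem_H.2 hxcs)) (inv_mem hnH)) (by
    calc n * S.φ x * n⁻¹ * S.t = n * S.φ x * n⁻¹ * (n * S.φ sg * n⁻¹) := by rw [est]
      _ = n * S.φ (x * sg) * n⁻¹ := by rw [map_mul]; group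
      _ = n * S.φ (sg * x) * n⁻¹ := by rw [x_fix.2.1]
      _ = n * S.φ sg * n⁻¹ * (n * S.φ x * n⁻¹) := by rw [map_mul]; group
      _ = S.t * (n * S.φ x * n⁻¹) := by rw [est])
  have hk3 : k * k * k = 1 ∧ k ≠ 1 := by
    constructor
    · refine S.inj ?_
      rw [map_mul, map_mul, map_one, hkx]
      calc n * S.φ x * n⁻¹ * (n * S.φ x * n⁻¹) * (n * S.φ x * n⁻¹) = n * S.φ (x ^ 3) * n⁻¹ := by
            rw [map_pow, pow_succ, pow_two]; group
        _ = 1 := by rw [x_fix.2.2.2.2.1, map_one]; group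
    · intro h
      rw [h, map_one] at hkx
      exact x_fix.2.2.2.2.2.1 (S.inj ((conj_eq_one_iff.1 hkx.symm).trans (map_one _).symm))
  obtain ⟨c, hc, hcx⟩ := csK_sylow_three k hk hk3.1 hk3.2
  have hcN := S.phi_mem_N (csK_normA c hc)
  set y := S.φ c * n with hy
  have hyN : y ∈ S.N := mul_mem hcN hnN
  have hyH : y ∈ S.H := mul_mem (S.phi_mem_H.2 hc) hnH
  have hcsg : c * sg = sg * c := (csK_spec c).2 hc
  have hc1 : S.act (S.φ c) 1 = 1 := S.act_one_phi (csK_normA c hc)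
  have hc2 : S.act (S.φ c) 2 = 2 := S.act_unique hcN (by norm_num) (by norm_num)
    (by rw [el_values.2.2.1, ← map_inv, ← map_mul, ← map_mul, hcsg, mul_inv_cancel_right])
  have hy1 : S.act y 1 = 2 := by rw [hy, S.act_mul hcN hnN (by norm_num), hn1, hc2]
  have hy2 : S.act y 2 = 1 := by rw [hy, S.act_mul hcN hnN (by norm_num), hn2, hc1]
  have hyx : y * S.φ x * y⁻¹ = S.φ x ∨ y * S.φ x * y⁻¹ = S.φ (x * x) := by
    have e : y * S.φ x * y⁻¹ = S.φ (c * k * c⁻¹) := by
      rw [hy, ← S.phi_conj, hkx]; group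
    rcases hcx with h | h
    · exact Or.inl (by rw [e, h])
    · exact Or.inr (by rw [e, h])
  -- the image of `4`
  have hy4 : ∀ v ∈ [4, 8, 15], S.act y v ∈ [4, 8, 15] := by
    intro v hv
    have hv16 : v < 16 := by simp only [List.mem_cons, List.not_mem_nil, or_false] at hv; omega
    obtain ⟨l, hl, hl1⟩ := (S.inOrb_iff_five hσ hv16).2 (List.mem_cons_of_mem _ (List.mem_cons_of_mem _ hv))
    have h5 := (S.inOrb_iff_five hσ (S.act_spec hyN hv16).1).1
      ⟨y * l, mul_mem hyN hl, by rw [S.act_mul hyN hl (by norm_num), hl1]⟩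
    have hinj : ∀ w < 16, S.act y v = S.act y w → v = w := by
      intro w hw e
      refine el_spec.2.2.2 v hv16 w hw (S.inj ?_)
      have a := (S.act_spec hyN hv16).2
      rw [e, (S.act_spec hyN hw).2] at a
      exact (mul_left_cancel (mul_right_cancel a)).symm
    simp only [List.mem_cons, List.not_mem_nil, or_false] at h5 hv ⊢
    rcases h5 with e | e | e
    · have := hinj 2 (by norm_num) (e.trans hy2.symm); omega
    · have := hinj 1 (by norm_num) (e.trans hy1.symm); omega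
    · exact e
  obtain ⟨i, hi3, hix⟩ := x_conj_cases _ (hy4 4 (by simp)) 8 (by simp)
  obtain ⟨j, hj3, hjx⟩ := x_conj_cases _ (hy4 4 (by simp)) 4 (by simp)
  have hxpow : ∀ i < 3, ∀ {a b : ℕ}, a < 16 → b < 16 → x ^ i * el a * (x ^ i)⁻¹ = el b →
      S.act (S.φ (x ^ i)) a = b := fun i hi {a b} ha hb h =>
    S.act_unique (S.phi_mem_N (x_pow_fix i hi).1) ha hb (by rw [← h, map_mul, map_mul, map_inv])
  have hxN : ∀ i < 3, S.φ (x ^ i) ∈ S.N := fun i hi => S.phi_mem_N (x_pow_fix i hi).1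
  have hfix12 : ∀ i < 3, S.act (S.φ (x ^ i) * y) 1 = 2 ∧ S.act (S.φ (x ^ i) * y) 2 = 1 := by
    intro i hi
    rw [S.act_mul (hxN i hi) hyN (by norm_num), S.act_mul (hxN i hi) hyN (by norm_num), hy1, hy2,
      S.act_one_phi (x_pow_fix i hi).1]
    exact ⟨hxpow i hi (by norm_num) (by norm_num) (by
      rw [el_values.2.2.1, (x_pow_fix i hi).2.2.1, mul_inv_cancel_right]), rfl⟩
  have hconjx : ∀ i < 3, S.φ (x ^ i) * y * S.φ x * (S.φ (x ^ i) * y)⁻¹ = y * S.φ x * y⁻¹ := by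
    intro i hi
    have h1 : S.φ (x ^ i) * (y * S.φ x * y⁻¹) = y * S.φ x * y⁻¹ * S.φ (x ^ i) := by
      rcases hyx with h | h <;> rw [h, ← map_mul, ← map_mul]
      · rw [(x_pow_fix i hi).2.2.2]
      · rw [← mul_assoc, (x_pow_fix i hi).2.2.2, mul_assoc, (x_pow_fix i hi).2.2.2, ← mul_assoc]
    calc S.φ (x ^ i) * y * S.φ x * (S.φ (x ^ i) * y)⁻¹ = S.φ (x ^ i) * (y * S.φ x * y⁻¹) * (S.φ (x ^ i))⁻¹ := by group
      _ = _ := by rw [h1, mul_inv_cancel_right]
  have hnext : ∀ {w : G}, w ∈ S.N → ∀ {e : K}, NormA e → w * S.φ x * w⁻¹ = S.φ e → ∀ {a a' b b' : ℕ},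
      a < 16 → a' < 16 → b < 16 → b' < 16 → x * el a * x⁻¹ = el a' → S.act w a = b →
      e * el b * e⁻¹ = el b' → S.act w a' = b' := by
    intro w hw e he hwe a a' b b' ha ha' hb hb' hxa hwa heb
    refine S.act_unique hw ha' hb' ?_
    obtain ⟨-, e1⟩ := S.act_spec hw ha
    rw [hwa] at e1
    rw [← heb, ← hxa, ← S.phi_conj, ← S.phi_conj, e1, ← hwe]
    group
  rcases hyx with hyx | hyx
  · -- a commuting element would induce a transposition
    exfalso
    set w := S.φ (x ^ j) * y with hw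
    have hwN : w ∈ S.N := mul_mem (hxN j hj3) hyN
    have hw4 : S.act w 4 = 4 := by
      rw [hw, S.act_mul (hxN j hj3) hyN (by norm_num)]
      exact hxpow j hj3 (S.act_spec hyN (by norm_num)).1 (by norm_num) hjx
    have hwx := (hconjx j hj3).trans hyx
    have hNx : NormA x := pow_one x ▸ (x_pow_fix 1 (by norm_num)).1
    have hw8 := hnext hwN hNx hwx (by norm_num) (by norm_num) (by norm_num) (by norm_num) three_cycle.1 hw4 three_cycle.1
    obtain ⟨a, ha, b, hb, hbad⟩ := transposition_bad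
    obtain ⟨ka, hka, rfl⟩ := S.exists_code ha
    obtain ⟨kb, hkb, rfl⟩ := S.exists_code hb
    have hcw : S.code w = Lin.code 2 1 4 8 := by rw [code, (hfix12 j hj3).1, (hfix12 j hj3).2, hw4, hw8]
    have hka' := S.phi_mem_N hka
    have hkb' := S.phi_mem_N hkb
    rw [← hcw, ← S.code_mul hwN hka', ← S.code_mul (mul_mem hwN hka') hwN,
      ← S.code_mul (mul_mem (mul_mem hwN hka') hwN) hkb',
      ← S.code_mul (mul_mem (mul_mem (mul_mem hwN hka') hwN) hkb') hwN,
      S.not_bad (mul_mem (mul_mem (mul_mem (mul_mem hwN hka') hwN) hkb') hwN)] at hbad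
    exact Bool.false_ne_true hbad
  · set w := S.φ (x ^ i) * y with hw
    have hwN : w ∈ S.N := mul_mem (hxN i hi3) hyN
    have hwH : w ∈ S.H := mul_mem (S.phi_mem_H.2 ((csK_spec _).1 (x_pow_fix i hi3).2.2.1)) hyH
    have hw4 : S.act w 4 = 8 := by
      rw [hw, S.act_mul (hxN i hi3) hyN (by norm_num)]
      exact hxpow i hi3 (S.act_spec hyN (by norm_num)).1 (by norm_num) hix
    have hwx := (hconjx i hi3).trans hyx
    have hNxx : NormA (x * x) := pow_two x ▸ (x_pow_fix 2 (by norm_num)).1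
    have hw8 : S.act w 8 = 4 := hnext hwN hNxx hwx (by norm_num) (by norm_num) (by norm_num) (by norm_num)
      three_cycle.1 hw4 (by decide +kernel)
    obtain ⟨e12, e21, -⟩ := S.swap_spec hσ hwN (hfix12 i hi3).1 (hfix12 i hi3).2
    obtain ⟨-, e4⟩ := S.act_spec hwN (v := 4) (by norm_num)
    rw [hw4, el_values.2.2.2.1, el_values.2.2.2.2.1] at e4
    obtain ⟨-, e8⟩ := S.act_spec hwN (v := 8) (by norm_num)
    rw [hw8, el_values.2.2.2.1, el_values.2.2.2.2.1] at e8
    -- the square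
    have hw2t : w * w * S.t * (w * w)⁻¹ = S.t := by
      calc w * w * S.t * (w * w)⁻¹ = w * (w * S.t * w⁻¹) * w⁻¹ := by group
        _ = S.t := by rw [e12, e21]
    obtain ⟨k2, hk2, hk2e⟩ := S.cent_t_H (mul_mem hwH hwH) (mul_inv_eq_iff_eq_mul.1 hw2t)
    have hk2x : k2 * x = x * k2 := by
      refine S.inj ?_
      rw [map_mul, map_mul, hk2e]
      refine mul_inv_eq_iff_eq_mul.1 ?_
      calc w * w * S.φ x * (w * w)⁻¹ = w * (w * S.φ x * w⁻¹) * w⁻¹ := by group
        _ = w * S.φ (x * x) * w⁻¹ := by rw [hwx]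
        _ = w * S.φ x * w⁻¹ * (w * S.φ x * w⁻¹) := by rw [map_mul]; group
        _ = S.φ (x * x * (x * x)) := by rw [hwx, ← map_mul]
        _ = S.φ x := by rw [show x * x * (x * x) = x by decide +kernel]
    have hk2s : k2 * s = s * k2 := by
      refine S.inj ?_
      rw [map_mul, map_mul, hk2e]
      refine mul_inv_eq_iff_eq_mul.1 ?_
      calc w * w * S.φ s * (w * w)⁻¹ = w * (w * S.φ s * w⁻¹) * w⁻¹ := by group
        _ = S.φ s := by rw [← e4, ← e8]
    have hww : w * (w * w) * w⁻¹ = w * w := by group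
    have fin : ∀ g ∈ S.N, g ∈ S.H → g * g = 1 → g * S.t * g⁻¹ = S.φ sg → g * S.φ x * g⁻¹ = S.φ (x * x) →
        g * S.φ s * g⁻¹ = S.φ s₃ → ∃ g ∈ S.N, g ∈ S.H ∧ g * g = 1 ∧ g * S.t * g = S.φ sg ∧
          g * S.φ x * g = S.φ (x * x) ∧ g * S.φ s * g = S.φ s₃ := by
      intro g h1 h2 h3 h4 h5 h6
      rw [inv_eq_of_mul_eq_one_right h3] at h4 h5 h6
      exact ⟨g, h1, h2, h3, h4, h5, h6⟩
    rcases csK_fix_x k2 hk2 (csK_normA k2 hk2) hk2x hk2s with rfl | rfl | rfl | rfl
    · rw [map_one] at hk2e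
      exact fin w hwN hwH hk2e.symm e12 hwx e4.symm
    · rw [← hk2e, S.map_z, e12] at hww
      exact absurd (S.inj (hww.trans S.map_z.symm)) z_ne.2.2.2.2
    · rw [← hk2e, e21] at hww
      exact absurd (S.inj (S.map_z.trans hww)) (Ne.symm z_ne.2.2.2.2)
    · refine fin (w * S.t) (mul_mem hwN (S.map_z ▸ S.phi_mem_N (csK_normA z ((csK_spec z).1 (z_central sg)))))
        (mul_mem hwH (S.mem_H.2 S.commute_u_t.symm)) ?_ ?_ ?_ ?_
      · calc w * S.t * (w * S.t) = w * S.t * w⁻¹ * (w * w) * S.t := by group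
          _ = S.φ sg * S.φ (z * sg) * S.t := by rw [e12, hk2e]
          _ = 1 := by
            rw [← S.map_z, ← map_mul, ← map_mul, show sg * (z * sg) * z = 1 by decide +kernel, map_one]
      · rw [show w * S.t * S.t * (w * S.t)⁻¹ = w * S.t * w⁻¹ by group, e12]
      · rw [show w * S.t * S.φ x * (w * S.t)⁻¹ = w * (S.t * S.φ x * S.t⁻¹) * w⁻¹ by group,
          ← S.commute_t, mul_inv_cancel_right, hwx]
      · rw [show w * S.t * S.φ s * (w * S.t)⁻¹ = w * (S.t * S.φ s * S.t⁻¹) * w⁻¹ by group,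
          ← S.commute_t, mul_inv_cancel_right, e4]

end Hyp

end CfsgLib.SpCentInv
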