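import Cfsg.Agent.Lib.Recognition.SpCentInv.Facts
import Cfsg.Agent.S0215

/-!
A group with an involution whose centralizer is the group of codes: the Sylow two-subgroup and its
elementary abelian subgroup of order sixteen.
-/

set_option autoImplicit false
set_option linter.unusedSectionVars false

namespace CfsgLib.SpCentInv

open Subgroup

/-- An involution with centralizer isomorphic to the group of codes, in a group without subgroups of index two. -/
structure Hyp (G : Type*) [Group G] where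
  /-- The involution. -/
  t : G
  /-- The parametrization of the centralizer. -/
  φ : K →* G
  inj : Function.Injective φ
  range_eq : φ.range = centralizer ({t} : Set G)
  map_z : φ z = t
  index : ∀ H : Subgroup G, H.index ≠ 2

/-- The elementary abelian subgroup of order sixteen. -/
def aSub : Subgroup K where
  carrier := {k | k ∈ aK}
  one_mem' := one_mem_aK.1
  mul_mem' {a b} ha hb := (aK_spec a ha b hb).1
  inv_mem' {a} ha := by
    have h := (aK_spec a ha a ha).2.2
    rwa [Set.mem_ofPred_eq, inv_eq_of_mul_eq_one_right h]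

/-- A Sylow two-subgroup. -/
def pSub : Subgroup K where
  carrier := {k | k ∈ pK}
  one_mem' := pK_spec.2.2.1
  mul_mem' {a b} ha hb := pK_spec.1 a ha b hb
  inv_mem' {a} ha := pK_spec.2.1 a ha

theorem mem_aSub {k : K} : k ∈ aSub ↔ k ∈ aK := Iff.rfl

theorem mem_pSub {k : K} : k ∈ pSub ↔ k ∈ pK := Iff.rfl

theorem card_of_list {l : List K} (S : Subgroup K) (h : ∀ k, k ∈ S ↔ k ∈ l) (hn : l.Nodup) :
    Nat.card S = l.length := by
  classical
  rw [Nat.card_congr (Equiv.subtypeEquivRight (q := fun k => k ∈ l.toFinset) (fun k => by simp [h])),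
    Nat.card_eq_fintype_card, Fintype.card_coe, List.toFinset_card_of_nodup hn]

theorem card_aSub : Nat.card aSub = 16 := by rw [card_of_list aSub (fun _ => Iff.rfl) aK_nodup.1, aK_nodup.2]

theorem card_pSub : Nat.card pSub = 64 := by
  rw [card_of_list pSub (fun _ => Iff.rfl) pK_spec.2.2.2.2.1, pK_spec.2.2.2.2.2]

theorem aSub_le_pSub : aSub ≤ pSub := fun k hk => pK_spec.2.2.2.1 k hk

theorem exists_mem_not_mem {M : Type*} [Group M] [Finite M] (E : Subgroup M) (l : List M)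
    (h : l.length < Nat.card E) : ∃ e ∈ E, e ∉ l := by
  classical
  by_contra hc
  simp only [not_exists, not_and, not_not] at hc
  have : Nat.card E ≤ l.toFinset.card := by
    rw [← Nat.card_eq_finsetCard]
    exact Nat.card_le_card_of_injective (fun e : E => (⟨e.1, List.mem_toFinset.2 (hc e.1 e.2)⟩ : l.toFinset))
      (fun a b hab => Subtype.ext (congrArg (fun u : l.toFinset => (u : M)) hab))
  exact absurd (this.trans (List.toFinset_card_le l)) (by omega)

/-- An elementary abelian subgroup of order sixteen of the Sylow two-subgroup is `aSub`. -/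
theorem eq_aSub {E : Subgroup K} (hE : E ≤ pSub) (hc : Nat.card E = 16)
    (hcomm : ∀ a ∈ E, ∀ b ∈ E, a * b = b * a) (hsq : ∀ a ∈ E, a * a = 1) : E = aSub := by
  have hle : E ≤ aSub := by
    intro a ha
    by_contra haA
    have hinv : ∀ e ∈ E, e ≠ 1 → e ∈ invP := by
      intro e he h1
      simp [invP, List.mem_filter, mem_pSub.1 (hE he), hsq e he, h1]
    have ha1 : a ≠ 1 := fun h => haA (h ▸ one_mem _)
    obtain ⟨b, hb, hbn⟩ := exists_mem_not_mem E [1, a] (by simp [hc])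
    simp only [List.mem_cons, List.not_mem_nil, or_false, not_or] at hbn
    obtain ⟨c, hcE, hcn⟩ := exists_mem_not_mem E [1, a, b, a * b] (by simp [hc])
    simp only [List.mem_cons, List.not_mem_nil, or_false, not_or] at hcn
    obtain ⟨d, hdE, hdn⟩ := exists_mem_not_mem E [1, a, b, a * b, c, a * c, b * c, a * b * c] (by simp [hc])
    simp only [List.mem_cons, List.not_mem_nil, or_false, not_or] at hdn
    have h := pK_elementary (hinv a ha ha1) (fun h => haA h) (hinv b hb hbn.1) hbn.2 (hcomm a ha b hb)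
      (hinv c hcE hcn.1) hcn.2.1 hcn.2.2.1 hcn.2.2.2 (hcomm a ha c hcE) (hcomm b hb c hcE)
      (hinv d hdE hdn.1) (hcomm a ha d hdE) (hcomm b hb d hdE) (hcomm c hcE d hdE)
    simp only [List.mem_cons, List.not_mem_nil, or_false] at h
    obtain ⟨-, h1, h2, h3, h4, h5, h6, h7⟩ := hdn
    rcases h with h | h | h | h | h | h | h
    exacts [h1 h, h2 h, h3 h, h4 h, h5 h, h6 h, h7 h]
  refine eq_of_le_of_card_ge hle ?_
  rw [hc, card_aSub]

namespace Hyp

variable {G : Type*} [Group G] (S : Hyp G)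

theorem mem_cent {g : G} : g ∈ centralizer ({S.t} : Set G) ↔ ∃ k, S.φ k = g := by
  rw [← S.range_eq]; rfl

theorem commute_t (k : K) : S.φ k * S.t = S.t * S.φ k := by
  rw [← S.map_z, ← map_mul, ← map_mul, z_central k]

theorem exists_eq {g : G} (h : g * S.t = S.t * g) : ∃ k, S.φ k = g :=
  S.mem_cent.1 (mem_centralizer_singleton_iff.2 h)

theorem t_sq : S.t * S.t = 1 := by rw [← S.map_z, ← map_mul, z_ne.2.1, map_one]

theorem t_ne : S.t ≠ 1 := by
  rw [← S.map_z]
  exact fun h => z_ne.1 (S.inj (h.trans (map_one _).symm))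

theorem card_cent : Nat.card (centralizer ({S.t} : Set G)) = 576 := by
  rw [← S.range_eq, ← K.card_eq, Nat.card_congr (S.φ.ofInjective S.inj).toEquiv]

/-- The elementary abelian subgroup in `G`. -/
def A : Subgroup G := aSub.map S.φ

/-- The Sylow two-subgroup in `G`. -/
def P : Subgroup G := pSub.map S.φ

theorem mem_A {k : K} : S.φ k ∈ S.A ↔ k ∈ aK := by
  simp [A, Subgroup.mem_map, S.inj.eq_iff, mem_aSub]

theorem mem_A_iff {g : G} : g ∈ S.A ↔ ∃ v < 16, S.φ (el v) = g := by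
  constructor
  · rintro ⟨k, hk, rfl⟩
    obtain ⟨v, hv, rfl⟩ := el_spec.2.1 k hk
    exact ⟨v, hv, rfl⟩
  · rintro ⟨v, hv, rfl⟩
    exact S.mem_A.2 (el_spec.1 v hv)

theorem A_le_P : S.A ≤ S.P := map_mono aSub_le_pSub

theorem A_comm {a b : G} (ha : a ∈ S.A) (hb : b ∈ S.A) : a * b = b * a ∧ a * a = 1 := by
  obtain ⟨k, hk, rfl⟩ := ha
  obtain ⟨l, hl, rfl⟩ := hb
  exact ⟨by rw [← map_mul, ← map_mul, (aK_spec k hk l hl).2.1],
    by rw [← map_mul, (aK_spec k hk k hk).2.2, map_one]⟩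

theorem card_P : Nat.card S.P = 64 := by
  rw [P, card_map_of_injective S.inj, card_pSub]

theorem card_A : Nat.card S.A = 16 := by
  rw [A, card_map_of_injective S.inj, card_aSub]

theorem t_mem_A : S.t ∈ S.A := S.map_z ▸ S.mem_A.2 one_mem_aK.2.1

/-- A commuting set containing `A` lies in `A`. -/
theorem cent_A {g : G} (h : ∀ a ∈ S.A, g * a = a * g) : g ∈ S.A := by
  obtain ⟨k, rfl⟩ := S.exists_eq (h _ S.t_mem_A)
  have hk : ∀ a ∈ aK, k * a = a * k := fun a ha => S.inj (by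
    rw [map_mul, map_mul]; exact h _ (S.mem_A.2 ha))
  exact S.mem_A.2 (aK_self k (hk _ one_mem_aK.2.2.1) (hk _ one_mem_aK.2.2.2.1) (hk _ one_mem_aK.2.2.2.2))

variable [Finite G]

theorem isPGroup_P : IsPGroup 2 S.P := IsPGroup.of_card (n := 6) (by rw [S.card_P]; rfl)

theorem exists_sylow : ∃ R : Sylow 2 G, (R : Subgroup G) = S.P := by
  have : Fact (Nat.Prime 2) := ⟨Nat.prime_two⟩
  obtain ⟨R, hR⟩ := S.isPGroup_P.exists_le_sylow
  refine ⟨R, ?_⟩
  by_contra hne
  have hlt : S.P.subgroupOf R < ⊤ := lt_top_iff_ne_top.2 fun h =>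
    hne (le_antisymm (subgroupOf_eq_top.1 h) hR)
  have : Group.IsNilpotent R := R.isPGroup'.isNilpotent
  have hlt' := Group.normalizerCondition_of_isNilpotent (S.P.subgroupOf R) hlt
  obtain ⟨r, hr, hrP⟩ := SetLike.exists_of_lt hlt'
  have ht : S.t ∈ S.P := S.A_le_P S.t_mem_A
  have hr' : ∀ y ∈ S.P, (r : G) * y * (r : G)⁻¹ ∈ S.P := fun y hy =>
    ((mem_normalizer_iff.1 hr) ⟨y, hR hy⟩).1 hy
  have hr'' : ∀ y ∈ S.P, (r : G)⁻¹ * y * (r : G) ∈ S.P := fun y hy => by
    have := ((mem_normalizer_iff.1 (inv_mem hr)) ⟨y, hR hy⟩).1 hy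
    simpa [mem_subgroupOf] using this
  obtain ⟨k, hk, hkt⟩ := hr' _ ht
  have hkc : ∀ b ∈ pK, k * b = b * k := by
    intro b hb
    refine S.inj ?_
    rw [map_mul, map_mul, hkt]
    have hy := hr'' _ (mem_map_of_mem S.φ (mem_pSub.2 hb))
    obtain ⟨l, -, hl⟩ := hy
    have e : S.φ b = (r : G) * S.φ l * (r : G)⁻¹ := by rw [hl]; group
    rw [e]
    calc (r : G) * S.t * (r : G)⁻¹ * ((r : G) * S.φ l * (r : G)⁻¹) = (r : G) * (S.t * S.φ l) * (r : G)⁻¹ := by group
      _ = (r : G) * (S.φ l * S.t) * (r : G)⁻¹ := by rw [S.commute_t l]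
      _ = _ := by group
  rcases pK_center k hk hkc with rfl | rfl
  · rw [map_one] at hkt
    exact S.t_ne (conj_eq_one_iff.1 hkt.symm)
  · rw [S.map_z] at hkt
    have hrC : (r : G) ∈ centralizer ({S.t} : Set G) :=
      mem_centralizer_singleton_iff.2 (by rw [← mul_inv_eq_iff_eq_mul]; exact hkt.symm)
    -- the two-group `R ⊓ C(t)` has order at most sixty-four
    have hle : S.P ≤ (R : Subgroup G) ⊓ centralizer ({S.t} : Set G) := le_inf hR (by
      rw [← S.range_eq]; exact map_le_range _ _)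
    obtain ⟨n, hn⟩ := IsPGroup.iff_card.1 (R.isPGroup'.to_le
      (inf_le_left : (R : Subgroup G) ⊓ centralizer ({S.t} : Set G) ≤ R))
    have hd : 2 ^ n ∣ 576 := by
      rw [← hn, ← S.card_cent]; exact card_dvd_of_le inf_le_right
    have hn6 : n ≤ 6 := by
      by_contra hc
      have : 2 ^ 7 ∣ 576 := (pow_dvd_pow 2 (by omega)).trans hd
      norm_num at this
    have hge : Nat.card ((R : Subgroup G) ⊓ centralizer ({S.t} : Set G) : Subgroup G) ≤ Nat.card S.P := by
      rw [hn, S.card_P]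
      exact le_trans (Nat.pow_le_pow_right (by norm_num) hn6) le_rfl
    exact hrP (mem_subgroupOf.2 (eq_of_le_of_card_ge hle hge ▸ ⟨r.2, hrC⟩))

/-- An elementary abelian subgroup of order sixteen of `P` is `A`. -/
theorem eq_A {E : Subgroup G} (hE : E ≤ S.P) (hc : Nat.card E = 16)
    (hcomm : ∀ a ∈ E, ∀ b ∈ E, a * b = b * a) (hsq : ∀ a ∈ E, a * a = 1) : E = S.A := by
  have hr : E ≤ S.φ.range := hE.trans (map_le_range _ _)
  have e : (E.comap S.φ).map S.φ = E := map_comap_eq_self hr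
  have h1 : E.comap S.φ = aSub := by
    refine eq_aSub (fun k hk => ?_) ?_ (fun a ha b hb => S.inj ?_) (fun a ha => S.inj ?_)
    · obtain ⟨l, hl, hlk⟩ := hE (mem_comap.1 hk)
      exact S.inj hlk ▸ hl
    · rw [← card_map_of_injective S.inj, e, hc]
    · rw [map_mul, map_mul]; exact hcomm _ (mem_comap.1 ha) _ (mem_comap.1 hb)
    · rw [map_mul, map_one]; exact hsq _ (mem_comap.1 ha)
  rw [← e, h1]; rfl

theorem eq_A_of_conj {g : G} (h : ∀ a ∈ S.A, g * a * g⁻¹ ∈ S.P) : g ∈ normalizer (S.A : Set G) := by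
  have h' : S.A.map (MulAut.conj g).toMonoidHom = S.A := by
    refine S.eq_A ?_ ?_ ?_ ?_
    · rintro _ ⟨a, ha, rfl⟩; exact h a ha
    · rw [card_map_of_injective (MulAut.conj g).injective, S.card_A]
    · rintro _ ⟨a, ha, rfl⟩ _ ⟨b, hb, rfl⟩
      rw [← map_mul, ← map_mul, (S.A_comm ha hb).1]
    · rintro _ ⟨a, ha, rfl⟩
      rw [← map_mul, (S.A_comm ha ha).2, map_one]
  rw [mem_normalizer_iff]
  intro a
  constructor
  · intro ha
    exact h' ▸ mem_map_of_mem (MulAut.conj g).toMonoidHom ha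
  · intro ha
    rw [← h'] at ha
    obtain ⟨b, hb, hba⟩ := ha
    rwa [(MulAut.conj g).injective hba] at hb

/-- Conjugate elements of `A` are conjugate in the normalizer of `A`. -/
theorem conj_in_normalizer {a g : G} (ha : a ∈ S.A) (hb : g * a * g⁻¹ ∈ S.A) :
    ∃ n ∈ normalizer (S.A : Set G), n * a * n⁻¹ = g * a * g⁻¹ := by
  have : Fact (Nat.Prime 2) := ⟨Nat.prime_two⟩
  set b := g * a * g⁻¹ with hbdef
  set C := centralizer ({b} : Set G) with hC
  set B := S.A.map (MulAut.conj g).toMonoidHom with hB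
  have hAC : S.A ≤ C := fun y hy => mem_centralizer_singleton_iff.2 (S.A_comm hy hb).1
  have hBC : B ≤ C := by
    rintro _ ⟨y, hy, rfl⟩
    refine mem_centralizer_singleton_iff.2 ?_
    show g * y * g⁻¹ * (g * a * g⁻¹) = g * a * g⁻¹ * (g * y * g⁻¹)
    calc g * y * g⁻¹ * (g * a * g⁻¹) = g * (y * a) * g⁻¹ := by group
      _ = g * (a * y) * g⁻¹ := by rw [(S.A_comm hy ha).1]
      _ = _ := by group
  have hAp : IsPGroup 2 S.A := IsPGroup.of_card (n := 4) (by rw [S.card_A]; rfl)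
  have hBp : IsPGroup 2 B := hAp.map _
  obtain ⟨T₁, hT₁⟩ := (hAp.of_equiv (subgroupOfEquivOfLe hAC).symm).exists_le_sylow
  obtain ⟨T₂, hT₂⟩ := (hBp.of_equiv (subgroupOfEquivOfLe hBC).symm).exists_le_sylow
  obtain ⟨c, hc⟩ := MulAction.exists_smul_eq C T₂ T₁
  -- a Sylow subgroup of `G` above the one of `C`
  obtain ⟨R, hR⟩ := (T₁.isPGroup'.map C.subtype).exists_le_sylow
  obtain ⟨R₀, hR₀⟩ := S.exists_sylow
  obtain ⟨k, hk⟩ := MulAction.exists_smul_eq G R R₀
  have hP : ∀ y ∈ (R : Subgroup G), k * y * k⁻¹ ∈ S.P := by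
    intro y hy
    rw [← hR₀, ← hk, Sylow.coe_subgroup_smul]
    exact Subgroup.smul_mem_pointwise_smul y (MulAut.conj k) _ hy
  have h1 : k ∈ normalizer (S.A : Set G) := S.eq_A_of_conj fun y hy => hP _ (hR ⟨⟨y, hAC hy⟩, hT₁ hy, rfl⟩)
  have h2 : k * (c : G) * g ∈ normalizer (S.A : Set G) := by
    refine S.eq_A_of_conj fun y hy => ?_
    have hmem : g * y * g⁻¹ ∈ B := ⟨y, hy, rfl⟩
    have h3 : (⟨g * y * g⁻¹, hBC hmem⟩ : C) ∈ (T₂ : Subgroup C) := hT₂ hmem
    have h4 := Subgroup.smul_mem_pointwise_smul _ (MulAut.conj c) _ h3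
    rw [← Sylow.coe_subgroup_smul] at h4
    have h5 : MulAut.conj c (⟨g * y * g⁻¹, hBC hmem⟩ : C) ∈ (T₁ : Subgroup C) := by
      rw [← hc]; exact h4
    have h6 := hP _ (hR ⟨_, h5, rfl⟩)
    convert h6 using 1
    simp only [MulAut.conj_apply, Subgroup.coe_subtype, Subgroup.coe_mul, Subgroup.coe_inv]
    group
  refine ⟨k⁻¹ * (k * (c : G) * g), mul_mem (inv_mem h1) h2, ?_⟩
  have hcb : (c : G) * b = b * (c : G) := mem_centralizer_singleton_iff.1 c.2
  calc k⁻¹ * (k * (c : G) * g) * a * (k⁻¹ * (k * (c : G) * g))⁻¹ = (c : G) * (g * a * g⁻¹) * (c : G)⁻¹ := by group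
    _ = b * (c : G) * (c : G)⁻¹ := by rw [← hbdef, hcb]
    _ = b := by group

end Hyp

end CfsgLib.SpCentInv
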